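import Cfsg.Agent.Lib.Lyons.PermBase

/-! Kernel checks of the blocks and of the permutations inside. -/

set_option autoImplicit false
set_option maxHeartbeats 0

namespace Cfsg.Agent.Lyons


open Cfsg.Agent.CosetCert

theorem cayCheck_ok : allBelow (fun k => Nat.beq (cay 0 k) k && allBelow (fun m => Nat.blt (cay k m) 120 &&
    allBelow (fun i => Nat.beq (pimg (cay k m) i) (pimg m (pimg k i))) 5) 120) 120 = true := by
  decide +kernel

theorem pimgCheck_ok : allBelow (fun k => allBelow (fun i =>
    Nat.blt (pimg k i) 5 && (!Nat.beq k 0 || Nat.beq (pimg k i) i)) 5) 120 = true := by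
  decide +kernel

/-- Every block goes to a block, and a letter followed by its inverse is the identity. -/
noncomputable def blkOK (p : ℕ) : Bool := allBelow (fun l =>
    Nat.blt (Nat.div (blk l p) 128) 3906 && Nat.blt (Nat.mod (blk l p) 128) 120 &&
      Nat.beq (blkW [l, flipL l] (128 * p)) (128 * p)) 22

theorem blkCheck0 : allBelow (fun p => blkOK (0 + p)) 977 = true := by decide +kernel

theorem blkCheck1 : allBelow (fun p => blkOK (977 + p)) 977 = true := by decide +kernel

theorem blkCheck2 : allBelow (fun p => blkOK (1954 + p)) 977 = true := by decide +kernel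

theorem blkCheck3 : allBelow (fun p => blkOK (2931 + p)) 975 = true := by decide +kernel

theorem blkCheck_ok : ∀ p < 3906, blkOK p = true := fun p hp => by
  have key : ∀ {n s : ℕ}, allBelow (fun p => blkOK (s + p)) n = true → s ≤ p → p < s + n → blkOK p = true := by
    intro n s h h1 h2
    have := allBelow_spec h (i := p - s) (by omega)
    rwa [Nat.add_sub_cancel' h1] at this
  rcases lt_or_ge p 977 with h | h
  · exact key blkCheck0 (by omega) (by omega)
  rcases lt_or_ge p 1954 with h' | h'
  · exact key blkCheck1 (by omega) (by omega)
  rcases lt_or_ge p 2931 with h'' | h''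
  · exact key blkCheck2 (by omega) (by omega)
  · exact key blkCheck3 (by omega) (by omega)

end Cfsg.Agent.Lyons
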