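import Cfsg.Agent.Lib.Lyons.ChainGLData

/-! The group generated by a, b has at most 480 elements: kernel checks. -/

set_option autoImplicit false
set_option maxRecDepth 100000
set_option maxHeartbeats 0

namespace Cfsg.Agent.Lyons.ChainGL

open Cfsg.Agent.CosetCert

theorem start_ok : Nat.beq (start cert sub) mask0 = true := by decide +kernel

theorem scans_ok0 : Nat.beq (run cert scans0 mask0) mask1 = true := by decide +kernel

theorem finished_ok : finished cert mask1 = true := by decide +kernel

variable {G : Type*} [Group G] {gen : ℕ → G} {H : Subgroup G}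

theorem cardLe (hrel : ∀ i, wv gen (cert.rels.get i) = 1) (hsub : ∀ l ∈ sub, lt' gen l ∈ H) {h : ℕ}
    (hH : CardLe H h) : CardLe (Subgroup.closure (gen '' {x | x < 2})) (480 * h) := by
  have m0 : Good cert gen H mask0 := Nat.eq_of_beq_eq_true start_ok ▸ good_start hsub
  have m1 : Good cert gen H mask1 := Nat.eq_of_beq_eq_true scans_ok0 ▸ good_run hrel _ m0
  exact cardLe_of_finished (show 2 * 2 ≤ cert.nl by decide +kernel) m1 finished_ok hH

end Cfsg.Agent.Lyons.ChainGL
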