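import Cfsg.Agent.Lib.Lyons.ChainNData

/-! Coset table of the parabolic subgroup over its Levi complement: kernel checks. -/

set_option autoImplicit false
set_option maxRecDepth 100000
set_option maxHeartbeats 0

namespace Cfsg.Agent.Lyons.ChainN

open Cfsg.Agent.CosetCert

theorem start_ok : Nat.beq (start cert sub) mask0 = true := by decide +kernel

theorem scans_ok0 : Nat.beq (run cert scans0 mask0) mask1 = true := by decide +kernel

theorem scans_ok1 : Nat.beq (run cert scans1 mask1) mask2 = true := by decide +kernel

theorem scans_ok2 : Nat.beq (run cert scans2 mask2) mask3 = true := by decide +kernel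

theorem scans_ok3 : Nat.beq (run cert scans3 mask3) mask4 = true := by decide +kernel

theorem scans_ok4 : Nat.beq (run cert scans4 mask4) mask5 = true := by decide +kernel

theorem scans_ok5 : Nat.beq (run cert scans5 mask5) mask6 = true := by decide +kernel

theorem scans_ok6 : Nat.beq (run cert scans6 mask6) mask7 = true := by decide +kernel

theorem scans_ok7 : Nat.beq (run cert scans7 mask7) mask8 = true := by decide +kernel

theorem scans_ok8 : Nat.beq (run cert scans8 mask8) mask9 = true := by decide +kernel

theorem scans_ok9 : Nat.beq (run cert scans9 mask9) mask10 = true := by decide +kernel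

theorem scans_ok10 : Nat.beq (run cert scans10 mask10) mask11 = true := by decide +kernel

theorem scans_ok11 : Nat.beq (run cert scans11 mask11) mask12 = true := by decide +kernel

theorem scans_ok12 : Nat.beq (run cert scans12 mask12) mask13 = true := by decide +kernel

theorem scans_ok13 : Nat.beq (run cert scans13 mask13) mask14 = true := by decide +kernel

theorem scans_ok14 : Nat.beq (run cert scans14 mask14) mask15 = true := by decide +kernel

theorem scans_ok15 : Nat.beq (run cert scans15 mask15) mask16 = true := by decide +kernel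

theorem scans_ok16 : Nat.beq (run cert scans16 mask16) mask17 = true := by decide +kernel

theorem scans_ok17 : Nat.beq (run cert scans17 mask17) mask18 = true := by decide +kernel

theorem scans_ok18 : Nat.beq (run cert scans18 mask18) mask19 = true := by decide +kernel

theorem finished_ok : finished cert mask19 = true := by decide +kernel

variable {G : Type*} [Group G] {gen : ℕ → G} {H : Subgroup G}

theorem cardLe (hrel : ∀ i, wv gen (cert.rels.get i) = 1) (hsub : ∀ l ∈ sub, lt' gen l ∈ H) {h : ℕ}
    (hH : CardLe H h) : CardLe (Subgroup.closure (gen '' {x | x < 7})) (3125 * h) := by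
  have m0 : Good cert gen H mask0 := Nat.eq_of_beq_eq_true start_ok ▸ good_start hsub
  have m1 : Good cert gen H mask1 := Nat.eq_of_beq_eq_true scans_ok0 ▸ good_run hrel _ m0
  have m2 : Good cert gen H mask2 := Nat.eq_of_beq_eq_true scans_ok1 ▸ good_run hrel _ m1
  have m3 : Good cert gen H mask3 := Nat.eq_of_beq_eq_true scans_ok2 ▸ good_run hrel _ m2
  have m4 : Good cert gen H mask4 := Nat.eq_of_beq_eq_true scans_ok3 ▸ good_run hrel _ m3
  have m5 : Good cert gen H mask5 := Nat.eq_of_beq_eq_true scans_ok4 ▸ good_run hrel _ m4
  have m6 : Good cert gen H mask6 := Nat.eq_of_beq_eq_true scans_ok5 ▸ good_run hrel _ m5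
  have m7 : Good cert gen H mask7 := Nat.eq_of_beq_eq_true scans_ok6 ▸ good_run hrel _ m6
  have m8 : Good cert gen H mask8 := Nat.eq_of_beq_eq_true scans_ok7 ▸ good_run hrel _ m7
  have m9 : Good cert gen H mask9 := Nat.eq_of_beq_eq_true scans_ok8 ▸ good_run hrel _ m8
  have m10 : Good cert gen H mask10 := Nat.eq_of_beq_eq_true scans_ok9 ▸ good_run hrel _ m9
  have m11 : Good cert gen H mask11 := Nat.eq_of_beq_eq_true scans_ok10 ▸ good_run hrel _ m10
  have m12 : Good cert gen H mask12 := Nat.eq_of_beq_eq_true scans_ok11 ▸ good_run hrel _ m11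
  have m13 : Good cert gen H mask13 := Nat.eq_of_beq_eq_true scans_ok12 ▸ good_run hrel _ m12
  have m14 : Good cert gen H mask14 := Nat.eq_of_beq_eq_true scans_ok13 ▸ good_run hrel _ m13
  have m15 : Good cert gen H mask15 := Nat.eq_of_beq_eq_true scans_ok14 ▸ good_run hrel _ m14
  have m16 : Good cert gen H mask16 := Nat.eq_of_beq_eq_true scans_ok15 ▸ good_run hrel _ m15
  have m17 : Good cert gen H mask17 := Nat.eq_of_beq_eq_true scans_ok16 ▸ good_run hrel _ m16
  have m18 : Good cert gen H mask18 := Nat.eq_of_beq_eq_true scans_ok17 ▸ good_run hrel _ m17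
  have m19 : Good cert gen H mask19 := Nat.eq_of_beq_eq_true scans_ok18 ▸ good_run hrel _ m18
  exact cardLe_of_finished (show 2 * 7 ≤ cert.nl by decide +kernel) m19 finished_ok hH

end Cfsg.Agent.Lyons.ChainN
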