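import Cfsg.Agent.Lib.Lyons.Deduce

/-! The facts about double cosets and their proofs -/

set_option autoImplicit false
set_option maxRecDepth 100000
set_option maxHeartbeats 0

namespace Cfsg.Agent.Lyons.FactData

open Cfsg.Agent.CosetCert

noncomputable section

/-- the facts -/
def facts : List DFact := [
  ⟨1, 0, [], [], 1, []⟩,
  ⟨1, 1, [], [0, 0], 0, []⟩,
  ⟨0, 1, [0], [1, 1, 1], 1, []⟩,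
  ⟨0, 1, [4], [5, 13, 15, 15, 13], 1, []⟩,
  ⟨0, 1, [10], [4, 13, 11, 14], 1, []⟩,
  ⟨0, 1, [12], [10, 10, 15], 1, []⟩,
  ⟨0, 1, [14], [13, 20, 5, 21], 1, []⟩,
  ⟨0, 1, [16], [17, 17], 1, []⟩,
  ⟨0, 1, [18], [1, 1, 19], 1, []⟩,
  ⟨0, 1, [20], [0, 20, 1], 1, []⟩,
  ⟨1, 1, [21, 19, 1, 2], [20, 18, 1, 2], 1, [20, 18, 1, 2]⟩,
  ⟨1, 1, [19, 1, 4, 21, 13, 8, 4], [20, 19, 14, 0, 18, 11, 21, 8, 21], 1, [5, 11, 15, 21, 13, 19, 8, 4, 18]⟩,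
  ⟨1, 1, [18, 5, 21, 11, 18, 0, 8, 4, 6, 20], [], 2, []⟩,
  ⟨1, 2, [], [], 1, [0, 19, 14, 20, 15, 0, 18, 8, 4, 6, 20]⟩,
  ⟨0, 2, [20, 5, 21], [11], 2, []⟩,
  ⟨0, 2, [20, 5, 21], [11], 2, []⟩,
  ⟨1, 2, [5, 19, 11, 0, 15, 20, 2], [10, 14, 14], 2, [1, 14, 17, 1, 2]⟩,
  ⟨1, 2, [14, 1, 21, 14, 21, 8, 4], [14, 1, 1, 17], 2, [1, 5, 19, 15, 16, 19, 8, 4, 18]⟩,
  ⟨1, 2, [0, 10, 13, 18, 0, 12, 0, 6, 15, 18, 10], [0, 5, 19, 5, 21, 12, 6, 4, 10, 12, 10], 1, [20, 4, 18, 6, 4, 18, 6]⟩,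
  ⟨0, 2, [18, 20, 18, 13, 0, 19, 8, 4], [21, 12, 18, 0, 21, 10, 6, 14, 16, 0, 13], 2, [20, 18, 14, 18, 11, 20, 6, 4, 20, 5]⟩,
  ⟨0, 2, [1, 1, 5, 14, 13, 1, 6, 14, 20, 5, 13], [21, 12, 18, 0, 21, 10, 6, 14, 16, 0, 13], 2, []⟩,
  ⟨0, 2, [0, 11, 13, 19, 5, 20, 3], [4, 20, 4, 12, 18, 20, 1, 8, 10, 18, 3], 2, [1, 5, 19, 15, 16, 19, 8, 4, 18]⟩,
  ⟨0, 2, [0, 0, 5, 14, 14, 0, 8, 0, 14, 14], [4, 20, 4, 12, 18, 20, 1, 8, 10, 18, 3], 2, []⟩,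
  ⟨1, 2, [0, 5, 20, 1, 5, 19, 8, 4, 6, 20], [5, 5, 14, 20, 1, 8, 20], 2, [0, 17, 18, 0, 20, 19, 1, 6]⟩,
  ⟨1, 2, [0, 18, 4, 21, 13, 18, 1, 2, 6, 12, 8, 7, 12], [0, 17, 20, 18, 12, 2, 8, 18, 10], 2, [0, 0, 13, 18, 11, 4, 2, 6]⟩,
  ⟨1, 2, [0, 4, 19, 21, 15, 19, 11, 6, 4, 12, 14, 6, 16], [0, 15, 19, 10, 20, 13, 6, 4, 4, 16, 3], 2, [1, 11, 19, 10, 21, 19, 1, 6, 12, 11, 17, 7]⟩,
  ⟨1, 2, [4, 1, 19, 1, 12, 1, 2, 2, 6], [0, 4, 10, 18, 10, 16, 2, 6, 12, 20, 12, 8], 2, [18, 21, 4, 11, 0, 6, 14, 21, 15, 8]⟩,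
  ⟨1, 1, [11, 4, 20, 15, 6, 5, 21, 12, 2], [], 3, []⟩,
  ⟨1, 3, [], [], 1, [0, 11, 17, 18, 20, 5, 1, 8, 0, 2, 10, 7]⟩,
  ⟨0, 3, [1, 21, 14, 12, 20], [14, 1, 1, 11, 13, 19], 3, []⟩,
  ⟨0, 3, [1, 21, 14, 12, 20], [14, 1, 1, 11, 13, 19], 3, []⟩,
  ⟨1, 3, [1, 5, 5, 15, 21, 8, 1, 5], [15, 0, 21, 17], 3, [21, 11, 13, 18, 1, 21, 8, 21]⟩,
  ⟨1, 3, [21, 11, 13, 18, 1, 21, 8, 21], [16, 20, 1, 14], 3, [1, 5, 5, 15, 21, 8, 11, 0]⟩,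
  ⟨1, 3, [4, 20, 4, 20, 8, 4], [4, 11, 14, 12], 3, [0, 5, 21, 12, 16, 18, 8, 4, 18]⟩,
  ⟨1, 2, [18, 20, 18, 13, 15, 8, 4], [0, 4, 18, 10, 13, 18], 3, [10, 12, 20, 17, 1, 8, 4, 18]⟩,
  ⟨1, 3, [10, 12, 20, 17, 1, 8, 4, 18], [1, 12, 1, 14, 17, 1], 2, [1, 17, 21, 19, 10, 0, 8, 4]⟩,
  ⟨1, 2, [4, 12, 20, 13, 11, 18, 0, 6, 4, 6, 8, 10], [12, 20, 19, 15, 0, 6, 14, 8, 4, 20], 3, [10, 12, 18, 21, 15, 19, 6]⟩,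
  ⟨1, 3, [10, 12, 18, 21, 15, 19, 6], [5, 5, 18, 11, 20, 1, 2, 6, 17, 8, 2], 2, [15, 0, 19, 21, 19, 14, 0, 2, 6, 10, 19, 10, 2]⟩,
  ⟨0, 3, [0, 4, 11, 18, 13, 0, 6, 10, 8, 13], [10, 13, 20, 11, 20, 6, 10, 21, 12, 11], 3, [10, 12, 18, 21, 15, 19, 6]⟩,
  ⟨0, 3, [4, 19, 13, 19, 6, 12, 18, 5], [10, 13, 20, 11, 20, 6, 10, 21, 12, 11], 3, []⟩,
  ⟨1, 2, [1, 10, 16, 19, 1, 4, 8, 4, 6, 20], [0, 21, 5, 19, 13, 2, 8, 18, 10], 3, [18, 10, 20, 14, 1, 19, 6, 5, 20]⟩,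
  ⟨1, 3, [18, 10, 20, 14, 1, 19, 6, 5, 20], [1, 12, 18, 20, 18, 0, 14, 8, 4], 2, [19, 12, 16, 21, 12, 8, 4, 6, 20]⟩,
  ⟨1, 2, [10, 18, 1, 21, 5, 19, 8, 6, 4], [0, 0, 14, 0, 0, 13, 2, 6, 12, 19, 11, 2], 3, [14, 18, 10, 17, 0, 6, 4, 10, 12, 10]⟩,
  ⟨1, 3, [14, 18, 10, 17, 0, 6, 4, 10, 12, 10], [15, 1, 14, 16, 1, 6, 12, 6, 14, 8], 2, [0, 15, 21, 14, 18, 21, 8, 20, 19, 8]⟩,
  ⟨1, 3, [4, 18, 13, 0, 5, 20, 18, 6, 15, 21, 15, 8], [18, 0, 13, 19, 14, 6, 5, 8, 5, 11], 3, [18, 21, 14, 19, 15, 1, 19, 2, 6]⟩,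
  ⟨1, 3, [0, 0, 0, 13, 18, 10, 2, 6, 12, 6, 14], [4, 15, 18, 13, 0, 20, 18, 2, 6, 8, 12, 21], 3, [0, 4, 14, 18, 20, 12, 1, 19, 6, 4, 20, 19, 12, 6]⟩,
  ⟨1, 3, [14, 19, 1, 15, 19, 2, 2, 6, 12, 11, 7], [5, 19, 15, 20, 19, 11, 6, 4, 12, 4, 10, 6], 3, [1, 5, 19, 12, 20, 19, 6, 3]⟩,
  ⟨1, 3, [0, 4, 10, 20, 12, 18, 1, 6, 16, 11, 2, 2], [12, 18, 4, 13, 18, 2, 2, 6, 10, 4, 17], 3, [18, 0, 21, 17, 19, 12, 21, 2, 6, 12, 8, 6, 13]⟩,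
  ⟨1, 3, [18, 0, 21, 17, 19, 12, 21, 2, 6, 12, 8, 6, 13], [5, 11, 16, 21, 19, 1, 6, 4, 10, 12, 3, 1], 3, [14, 4, 14, 0, 6, 11, 2, 20, 17]⟩,
  ⟨1, 3, [21, 11, 18, 5, 20, 1, 2, 2, 6, 14], [13, 0, 0, 17, 18, 6, 4, 7, 10, 16], 3, [0, 15, 18, 1, 12, 21, 19, 6]⟩,
  ⟨1, 3, [4, 14, 18, 0, 15, 21, 19, 8, 20, 12, 7], [0, 10, 20, 19, 14, 21, 6, 14, 18, 12], 3, [18, 17, 21, 15, 0, 18, 6, 4, 10, 12, 10]⟩,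
  ⟨1, 3, [18, 17, 21, 15, 0, 18, 6, 4, 10, 12, 10], [15, 20, 5, 18, 0, 15, 6, 4, 20, 15, 21], 3, [15, 0, 21, 19, 1, 12, 20, 2, 8, 11, 20, 6]⟩,
  ⟨1, 3, [13, 13, 17, 20, 8, 6, 18, 16], [4, 17, 18, 20, 14, 18, 0, 6, 4, 14, 18, 8], 3, [15, 18, 21, 19, 15, 0, 8, 6, 4, 19]⟩,
  ⟨1, 2, [4, 19, 10, 20, 19, 10, 0, 2, 6, 8, 2, 15, 8], [1, 5, 11, 19, 4, 21, 6, 8, 1, 13, 7], 3, [10, 21, 19, 14, 21, 10, 2, 6, 14, 6, 10]⟩,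
  ⟨1, 3, [10, 21, 19, 14, 21, 10, 2, 6, 14, 6, 10], [14, 20, 10, 5, 18, 6, 5, 8, 0, 0], 2, [0, 20, 19, 10, 10, 6, 8, 6, 13, 14]⟩,
  ⟨1, 3, [0, 4, 14, 18, 0, 20, 19, 2, 8, 11, 7, 10], [18, 0, 12, 15, 0, 6, 12, 14, 6, 16], 3, [14, 0, 18, 1, 21, 6, 10, 3, 12, 18]⟩,
  ⟨1, 3, [10, 18, 0, 13, 19, 21, 6, 4, 18, 6], [1, 12, 1, 10, 19, 21, 2, 8, 11, 18], 3, [0, 19, 10, 20, 14, 19, 1, 8, 11, 6, 5]⟩,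
  ⟨1, 3, [0, 20, 15, 5, 19, 1, 6, 4, 6, 5, 11], [1, 14, 18, 0, 11, 21, 2, 6, 10, 12, 2], 2, [1, 14, 13, 19, 12, 6, 13, 20, 10]⟩,
  ⟨1, 2, [1, 14, 13, 19, 12, 6, 13, 20, 10], [0, 20, 13, 5, 18, 11, 6, 4, 16, 3, 12, 1], 3, [17, 19, 15, 0, 18, 6, 8, 5, 18, 21]⟩,
  ⟨1, 2, [10, 19, 14, 19, 15, 6, 4, 18, 6], [18, 14, 1, 10, 19, 2, 6, 4, 11, 2, 2], 3, [0, 10, 21, 4, 1, 2, 6, 4, 11, 0, 2]⟩,
  ⟨1, 3, [0, 10, 21, 4, 1, 2, 6, 4, 11, 0, 2], [4, 18, 20, 18, 13, 11, 0, 6, 4, 13, 18, 8, 11], 2, [10, 19, 14, 19, 15, 6, 4, 7, 18]⟩,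
  ⟨1, 3, [11, 19, 1, 10, 6, 11, 8, 4, 15], [0, 13, 18, 20, 12, 15, 18, 0, 6, 4, 10, 12, 19], 2, [0, 18, 15, 0, 21, 16, 6, 4, 6, 3, 11]⟩,
  ⟨1, 2, [0, 18, 15, 0, 21, 16, 6, 4, 6, 3, 11], [0, 19, 12, 10, 0, 20, 18, 6, 4, 12, 0, 10, 14], 3, [11, 19, 15, 21, 12, 0, 6, 13, 21, 15, 3]⟩,
  ⟨1, 3, [18, 16, 20, 13, 8, 7, 18, 10, 19], [0, 10, 18, 17, 21, 4, 2, 6, 12, 14, 20, 1], 3, [0, 4, 16, 18, 20, 1, 6, 8, 15, 7]⟩,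
  ⟨1, 3, [0, 4, 16, 18, 20, 1, 6, 8, 15, 7], [20, 1, 14, 12, 18, 1, 6, 4, 3, 1, 13, 4], 3, [0, 20, 14, 5, 5, 18, 8, 6, 10, 13, 8]⟩,
  ⟨1, 3, [10, 0, 13, 11, 14, 2, 6, 8, 5, 6], [0, 5, 13, 15, 19, 21, 6, 15, 8, 7, 16], 3, [0, 15, 0, 16, 2, 6, 12, 2, 11, 17]⟩,
  ⟨1, 3, [16, 18, 21, 19, 1, 14, 2, 2], [0, 4, 18, 12, 19], 3, [18, 21, 13, 18, 1, 2, 2]⟩,
  ⟨1, 1, [0, 0, 6], [], 4, []⟩,
  ⟨1, 4, [], [], 1, [6]⟩,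
  ⟨0, 4, [1], [1, 1, 1], 4, []⟩,
  ⟨0, 4, [1], [1, 1, 1], 4, []⟩,
  ⟨1, 3, [0, 17, 18, 20, 19, 1, 4, 2], [0, 13, 0, 11, 12, 18], 4, [0, 11, 4, 20, 1, 10, 2]⟩,
  ⟨1, 4, [0, 11, 4, 20, 1, 10, 2], [1, 5, 1, 19, 10, 15], 3, [0, 17, 18, 20, 19, 10, 0, 2]⟩,
  ⟨1, 3, [1, 15, 0, 5, 18, 8, 1, 5], [0, 15, 19, 10, 20, 13], 4, [10, 12, 21, 19, 11, 21, 8, 21]⟩,
  ⟨1, 4, [10, 12, 21, 19, 11, 21, 8, 21], [12, 21, 11, 18, 14, 1], 3, [1, 15, 0, 5, 18, 8, 11, 0]⟩,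
  ⟨1, 4, [0, 20, 16, 19, 12, 0, 20, 19, 8, 10, 18, 11], [21, 10, 18], 4, [12, 19, 13, 20, 10, 8, 11, 2]⟩,
  ⟨1, 4, [12, 19, 13, 20, 10, 8, 11, 2], [19, 11, 20], 4, [0, 0, 14, 0, 0, 5, 16, 8, 10, 19]⟩,
  ⟨0, 4, [12, 20, 5, 19, 12], [18, 1], 4, [0, 5, 18, 13, 21, 19, 10]⟩,
  ⟨0, 4, [18, 1], [18, 1], 4, []⟩,
  ⟨0, 4, [5, 21, 10, 19, 5, 1, 8, 10, 19], [20, 18, 0], 4, [0, 0, 14, 0, 0, 5, 16, 8, 10, 19]⟩,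
  ⟨0, 4, [20, 18, 1], [20, 18, 0], 4, []⟩,
  ⟨1, 2, [14, 21, 10, 0, 11, 6, 4, 20, 5, 11], [0, 4, 10, 18, 20, 18, 13, 6, 14, 3, 7, 5], 4, [0, 11, 4, 19, 21, 19, 10, 6]⟩,
  ⟨1, 4, [0, 11, 4, 19, 21, 19, 10, 6], [0, 4, 18, 12, 18, 10, 8, 7, 10, 10, 12], 2, [0, 19, 10, 15, 12, 6, 4, 19, 5, 15]⟩,
  ⟨0, 4, [16, 19, 2, 8, 6, 13, 2], [20, 18, 10, 0, 18, 6, 4, 6, 20, 18], 4, [0, 5, 18, 13, 21, 19, 10]⟩,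
  ⟨0, 4, [19, 10, 18, 21, 19, 6, 10, 6, 18], [20, 18, 10, 0, 18, 6, 4, 6, 20, 18], 4, []⟩,
  ⟨1, 4, [21, 12, 10, 0, 18, 0, 6, 8, 17, 8], [0, 14, 19, 13, 21, 10, 6, 4, 1, 5, 6, 17], 4, [0, 10, 21, 10, 18, 1, 12, 2, 6, 12, 8, 6, 13]⟩,
  ⟨1, 4, [1, 10, 4, 18, 20, 14, 6], [4, 10, 18, 0, 10, 20, 18, 1, 2, 2, 6, 5, 11, 18], 3, [10, 20, 16, 18, 1, 4, 6, 10, 2, 2]⟩,
  ⟨1, 3, [10, 20, 16, 18, 1, 4, 6, 10, 2, 2], [0, 0, 12, 0, 14, 12, 2, 6, 12, 16, 20, 13], 4, [0, 12, 19, 5, 21, 12, 6]⟩,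
  ⟨1, 4, [13, 21, 19, 13, 0, 19, 6, 15, 18, 10], [0, 18, 4, 13, 11, 21, 8, 7, 12, 10], 2, [1, 5, 11, 19, 13, 5, 6, 13, 5, 1]⟩,
  ⟨1, 2, [1, 5, 11, 19, 13, 5, 6, 13, 5, 1], [1, 10, 5, 1, 4, 12, 6, 16, 5, 8], 4, [13, 21, 19, 13, 0, 6, 13, 4, 15]⟩,
  ⟨1, 2, [0, 18, 12, 17, 18, 10, 2, 6, 14, 1, 11, 2], [0, 19, 10, 4, 21, 5, 6, 3, 11, 8, 13], 4, [0, 14, 17, 20, 14, 1, 6, 13, 20, 8]⟩,
  ⟨1, 4, [0, 14, 17, 20, 14, 1, 6, 13, 20, 8], [21, 13, 0, 21, 12, 18, 2, 6, 10, 0, 14], 2, [1, 11, 16, 19, 13, 6, 4, 13, 10, 2, 2]⟩,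
  ⟨1, 4, [18, 15, 0, 18, 14, 21, 6, 13, 21, 3], [1, 15, 19, 11, 13, 21, 6, 14, 5, 5, 6], 4, [0, 4, 19, 1, 14, 12, 6, 4, 10, 12, 10]⟩,
  ⟨1, 2, [19, 10, 0, 13, 18, 20, 6, 8, 2, 15, 13], [13, 18, 14, 4, 1, 6, 8, 0, 13, 18], 4, [0, 4, 12, 21, 19, 12, 2, 8, 11, 6, 5]⟩,
  ⟨1, 4, [0, 4, 12, 21, 19, 12, 2, 8, 11, 6, 5], [0, 18, 1, 5, 21, 5, 18, 6, 8, 2, 14, 3], 2, [0, 0, 0, 10, 18, 10, 6, 4, 19, 8, 1]⟩]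

/-- proof 0 -/
def proof0 : List (List ℕ) := [[0]]

/-- proof 1 -/
def proof1 : List (List ℕ) := [[1, 0]]

/-- proof 2 -/
def proof2 : List (List ℕ) := [[2, 0]]

/-- proof 3 -/
def proof3 : List (List ℕ) := [[2, 4]]

/-- proof 4 -/
def proof4 : List (List ℕ) := [[2, 10]]

/-- proof 5 -/
def proof5 : List (List ℕ) := [[2, 12]]

/-- proof 6 -/
def proof6 : List (List ℕ) := [[2, 14]]

/-- proof 7 -/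
def proof7 : List (List ℕ) := [[2, 16]]

/-- proof 8 -/
def proof8 : List (List ℕ) := [[2, 18]]

/-- proof 9 -/
def proof9 : List (List ℕ) := [[2, 20]]

/-- proof 10 -/
def proof10 : List (List ℕ) := [[4, 0, 3, 0, 1], [4, 19, 15, 20, 19, 1, 4, 18, 6, 13, 13, 8], [1], [3, 0], [0, 21, 19, 1, 2], [0, 20, 18, 1, 2], [1], [3, 0], [0, 1, 1], [0, 20, 18, 0, 2]]

/-- proof 11 -/
def proof11 : List (List ℕ) := [[4, 0, 3, 3, 1], [4, 19, 15, 20, 19, 1, 4, 18, 6, 13, 13, 8], [1], [3, 0], [0, 19, 1, 4, 21, 13, 8, 4], [0, 20, 19, 14, 0, 18, 11, 21, 8, 21], [1], [3, 0], [0, 1, 1], [0, 4, 21, 11, 14, 18, 8, 4, 18]]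

/-- proof 12 -/
def proof12 : List (List ℕ) := [[0]]

/-- proof 13 -/
def proof13 : List (List ℕ) := [[1, 12]]

/-- proof 14 -/
def proof14 : List (List ℕ) := [[4, 1, 4, 0, 0], [0, 4, 18, 20, 14, 18, 12, 1, 8, 4, 6, 20], [2, 5, 0], [2, 3, 1], [2, 2, 0], [3, 12, 10, 10, 14], [2, 3, 0], [2, 6, 1], [2, 2, 0], [3, 12]]

/-- proof 15 -/
def proof15 : List (List ℕ) := [[3], [2, 14, 0]]

/-- proof 16 -/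
def proof16 : List (List ℕ) := [[4, 2, 6, 0, 2], [1, 14, 17, 19, 21], [3, 13, 1, 14, 17, 19, 21], [0, 21, 19, 1, 2], [2, 5, 0], [2, 5, 0], [3, 12, 4, 20, 15, 19, 14], [0, 21, 19, 1, 2], [0, 20, 18, 1, 2]]

/-- proof 17 -/
def proof17 : List (List ℕ) := [[4, 2, 8, 5, 2], [1, 14, 17, 19, 21], [3, 13, 1, 14, 17, 19, 21], [0, 0, 11, 18, 21, 13, 0, 18, 8, 10, 18, 11], [2, 2, 0], [2, 5, 1], [2, 3, 0], [2, 2, 0], [3, 12, 19, 12, 21, 15, 19, 21], [0, 19, 1, 4, 21, 13, 8, 4], [0, 4, 21, 11, 14, 18, 8, 4, 18]]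

/-- proof 18 -/
def proof18 : List (List ℕ) := [[4, 0, 7, 12, 2], [0, 18, 20, 12, 19, 1, 14, 18, 6, 16, 11, 19], [1], [3, 0], [0, 20, 4, 18, 6, 4, 18, 6], [2, 9, 0], [2, 2, 0], [3, 12, 0, 18, 0, 11, 20, 18], [0, 4, 18, 4, 1, 14, 21, 6, 15, 18, 10], [0, 11, 18, 20, 19, 12, 11, 6, 4, 10, 12, 10], [1], [3, 0], [0, 1, 1], [0, 0, 0, 20, 4, 18, 6, 4, 18, 6]]

/-- proof 19 -/
def proof19 : List (List ℕ) := [[4, 2, 13, 4, 3], [20, 18, 14, 18, 11, 20, 6, 4, 20, 5], [2, 15, 1], [3, 18, 1, 15, 16, 20], [0, 0, 16, 20, 14, 18, 20, 1, 8, 1, 5], [2, 3, 1], [2, 9, 0], [2, 3, 0], [3, 11, 4, 21, 11, 0, 11], [0, 0, 11, 18, 21, 13, 0, 18, 8, 10, 18, 11], [2, 6, 0], [2, 6, 0], [2, 5, 0], [3, 12, 0, 18, 20, 5, 1, 13], [0, 19, 1, 4, 21, 13, 8, 4]]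

/-- proof 20 -/
def proof20 : List (List ℕ) := [[3], [2, 19, 0]]

/-- proof 21 -/
def proof21 : List (List ℕ) := [[4, 2, 7, 0, 0], [14, 1, 21, 14, 21, 8, 4], [2, 20, 0], [2, 15, 0], [2, 15, 0], [2, 20, 0], [2, 15, 0], [2, 20, 0], [3, 16, 10, 10, 20, 4, 19, 1], [3, 17]]

/-- proof 22 -/
def proof22 : List (List ℕ) := [[3], [2, 21, 0]]

/-- proof 23 -/
def proof23 : List (List ℕ) := [[4, 1, 10, 6, 2], [1, 4, 4, 15, 21, 8, 21, 4], [2, 5, 1], [2, 8, 1], [3, 11, 0, 4, 18, 10, 20, 19], [0, 0, 0, 6], [2, 3, 1], [2, 9, 0], [2, 4, 1], [2, 8, 0], [3, 12, 0, 18, 0, 12, 20, 18, 0], [0, 18, 5, 21, 11, 18, 0, 8, 4, 6, 20], [0, 0, 10, 18, 14, 12, 0, 21, 8, 0, 10, 6], [2, 9, 0], [2, 7, 1], [2, 5, 0], [3, 12, 0, 18, 0, 21, 17, 19, 1], [0, 1, 1], [0, 0, 0, 0, 0, 6]]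

/-- proof 24 -/
def proof24 : List (List ℕ) := [[4, 1, 10, 14, 2], [1, 4, 4, 15, 21, 8, 21, 4], [2, 5, 1], [2, 8, 1], [3, 11, 0, 4, 18, 10, 20, 19], [0, 2, 6], [2, 2, 1], [2, 8, 1], [2, 7, 1], [2, 3, 0], [3, 12, 0, 4, 20, 12, 19], [0, 0, 20, 19, 10, 19, 2, 6, 12, 8, 7, 12], [0, 5, 19, 15, 20, 4, 6, 4, 20, 19, 12, 6], [2, 9, 0], [2, 5, 0], [2, 2, 0], [2, 3, 0], [3, 12, 10, 18, 12, 0, 0, 17], [0, 1, 1], [0, 1, 1, 2, 6]]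

/-- proof 25 -/
def proof25 : List (List ℕ) := [[4, 2, 16, 3, 2], [18, 17, 0, 6, 12, 4, 20, 19], [2, 20, 0], [2, 15, 0], [2, 20, 0], [2, 22, 1], [2, 20, 0], [2, 15, 1], [3, 23, 5, 20, 19, 1, 14, 4], [0, 19, 1, 4, 21, 13, 8, 4], [2, 22, 0], [2, 20, 0], [2, 22, 0], [2, 15, 0], [2, 20, 0], [2, 15, 1], [3, 24, 15, 1, 21, 19, 12], [0, 0, 16, 20, 14, 18, 20, 1, 8, 1, 5], [0, 20, 19, 14, 0, 18, 11, 21, 8, 21]]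

/-- proof 26 -/
def proof26 : List (List ℕ) := [[4, 2, 2, 16, 1], [15, 1, 15, 20, 11, 3, 0], [3, 16, 4, 19, 13, 21, 12, 1, 19], [0, 0, 0, 6, 3], [0, 1, 21, 19, 10, 19, 2, 6, 12, 8, 6, 13], [2, 22, 0], [2, 15, 0], [2, 20, 0], [2, 22, 1], [2, 15, 0], [3, 23, 4, 13, 11, 21], [0, 1, 1], [0, 0, 0, 0, 0, 6, 3], [2, 20, 0], [2, 22, 0], [2, 20, 0], [2, 22, 1], [2, 15, 0], [2, 20, 0], [2, 15, 0], [2, 15, 0], [3, 25, 17, 21, 15, 19, 14, 0], [0, 1, 1], [0, 5, 19, 15, 20, 4, 6, 4, 20, 19, 12, 6]]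

/-- proof 27 -/
def proof27 : List (List ℕ) := [[0]]

/-- proof 28 -/
def proof28 : List (List ℕ) := [[1, 27]]

/-- proof 29 -/
def proof29 : List (List ℕ) := [[4, 1, 4, 0, 0], [10, 19, 10, 15, 20, 18, 6, 5, 21, 12, 2], [2, 6, 0], [2, 9, 1], [2, 7, 0], [3, 27, 0, 18, 13, 18, 12], [2, 9, 0], [2, 7, 0], [2, 8, 1], [3, 27]]

/-- proof 30 -/
def proof30 : List (List ℕ) := [[3], [2, 29, 0]]

/-- proof 31 -/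
def proof31 : List (List ℕ) := [[4, 3, 8, 3, 2], [12, 14, 0], [3, 28, 12, 14, 0], [0, 19, 1, 4, 21, 13, 8, 4], [2, 9, 1], [2, 3, 1], [2, 5, 0], [2, 2, 0], [3, 27, 11, 18, 1, 21, 12, 5], [0, 0, 16, 20, 14, 18, 20, 1, 8, 1, 5], [0, 20, 19, 14, 0, 18, 11, 21, 8, 21]]

/-- proof 32 -/
def proof32 : List (List ℕ) := [[1, 31]]

/-- proof 33 -/
def proof33 : List (List ℕ) := [[4, 3, 8, 5, 2], [12, 14, 0], [3, 28, 12, 14, 0], [0, 0, 11, 18, 21, 13, 0, 18, 8, 10, 18, 11], [2, 7, 1], [2, 6, 0], [2, 4, 0], [2, 4, 0], [3, 27, 4, 20, 13, 1, 11, 18], [0, 19, 1, 4, 21, 13, 8, 4], [0, 4, 21, 11, 14, 18, 8, 4, 18]]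

/-- proof 34 -/
def proof34 : List (List ℕ) := [[4, 1, 5, 3, 1], [11, 0, 0, 18, 11, 20, 6, 8, 0, 5], [2, 9, 1], [2, 8, 1], [2, 3, 0], [3, 12, 0, 4, 13, 20, 5, 18, 1], [0, 19, 1, 4, 21, 13, 8, 4], [0, 20, 19, 14, 0, 18, 11, 21, 8, 21], [2, 9, 1], [2, 6, 1], [2, 8, 1], [2, 3, 0], [2, 2, 1], [3, 27, 1, 19, 10, 20, 11, 19], [0, 1, 1], [0, 4, 21, 11, 14, 18, 8, 4, 18]]

/-- proof 35 -/
def proof35 : List (List ℕ) := [[1, 34]]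

/-- proof 36 -/
def proof36 : List (List ℕ) := [[4, 1, 14, 6, 2], [11, 0, 0, 18, 11, 20, 6, 8, 0, 5], [2, 9, 1], [2, 8, 1], [2, 3, 0], [3, 12, 0, 4, 13, 20, 5, 18, 1], [0, 0, 0, 6], [2, 20, 0], [2, 15, 1], [2, 20, 0], [2, 22, 0], [2, 15, 0], [2, 20, 0], [2, 15, 0], [3, 25, 4, 12, 20, 4], [0, 18, 5, 21, 11, 18, 0, 8, 4, 6, 20], [0, 0, 10, 18, 14, 12, 0, 21, 8, 0, 10, 6], [2, 9, 1], [2, 3, 0], [2, 8, 1], [2, 2, 1], [2, 3, 0], [3, 27, 4, 18, 21, 13, 18, 4], [0, 1, 1], [0, 0, 0, 0, 0, 6]]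

/-- proof 37 -/
def proof37 : List (List ℕ) := [[1, 36]]

/-- proof 38 -/
def proof38 : List (List ℕ) := [[4, 2, 7, 0, 0], [19, 1, 11, 12, 5, 6, 5, 17, 21, 15], [2, 15, 0], [2, 20, 0], [2, 22, 1], [2, 20, 0], [2, 15, 0], [2, 20, 0], [3, 36, 1, 11, 21, 15, 5, 11], [2, 15, 1], [2, 22, 1], [2, 20, 0], [2, 22, 0], [2, 20, 0], [2, 22, 1], [2, 15, 1], [3, 36]]

/-- proof 39 -/
def proof39 : List (List ℕ) := [[3], [2, 38, 0]]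

/-- proof 40 -/
def proof40 : List (List ℕ) := [[4, 1, 5, 10, 1], [11, 0, 0, 18, 11, 20, 6, 8, 0, 5], [2, 9, 1], [2, 8, 1], [2, 3, 0], [3, 12, 0, 4, 13, 20, 5, 18, 1], [0, 0, 12, 19, 14, 20, 18, 0, 8, 4, 6, 20], [0, 0, 4, 12, 16, 21, 8, 11, 6, 5], [2, 7, 0], [2, 9, 0], [2, 5, 0], [2, 2, 0], [3, 12, 20, 19, 11, 5, 15], [0, 1, 1], [0, 18, 0, 21, 16, 19, 13, 8, 4, 6, 20], [2, 20, 0], [2, 22, 1], [2, 20, 0], [2, 15, 0], [2, 20, 0], [2, 15, 0], [2, 20, 0], [2, 22, 0], [2, 15, 0], [3, 34, 15, 13, 18, 0, 21, 19, 1], [0, 1, 1], [0, 11, 18, 20, 19, 12, 11, 6, 4, 10, 12, 10]]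

/-- proof 41 -/
def proof41 : List (List ℕ) := [[1, 40]]

/-- proof 42 -/
def proof42 : List (List ℕ) := [[4, 1, 12, 13, 2], [11, 0, 0, 18, 11, 20, 6, 8, 0, 5], [2, 9, 1], [2, 8, 1], [2, 3, 0], [3, 12, 0, 4, 13, 20, 5, 18, 1], [0, 4, 18, 4, 1, 14, 21, 6, 15, 18, 10], [2, 15, 1], [2, 22, 0], [2, 20, 0], [2, 15, 1], [2, 22, 0], [3, 25, 18, 20, 18, 10, 0, 15, 18], [0, 0, 12, 19, 14, 20, 18, 0, 8, 4, 6, 20], [0, 18, 0, 21, 16, 19, 13, 8, 4, 6, 20], [2, 7, 1], [2, 5, 0], [2, 8, 1], [2, 3, 0], [2, 2, 0], [3, 27, 0, 18, 1, 11, 21, 19, 10], [0, 1, 1], [0, 11, 18, 20, 19, 12, 11, 6, 4, 10, 12, 10]]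

/-- proof 43 -/
def proof43 : List (List ℕ) := [[1, 42]]

/-- proof 44 -/
def proof44 : List (List ℕ) := [[4, 1, 15, 14, 2], [11, 0, 0, 18, 11, 20, 6, 8, 0, 5], [2, 9, 1], [2, 8, 1], [2, 3, 0], [3, 12, 0, 4, 13, 20, 5, 18, 1], [0, 2, 6], [2, 15, 1], [2, 20, 0], [2, 15, 0], [2, 20, 0], [2, 22, 1], [2, 20, 0], [2, 15, 0], [2, 15, 0], [3, 42, 0, 13, 18, 4, 11], [0, 0, 20, 19, 10, 19, 2, 6, 12, 8, 7, 12], [0, 5, 19, 15, 20, 4, 6, 4, 20, 19, 12, 6], [2, 9, 1], [2, 4, 0], [2, 8, 0], [2, 7, 0], [2, 2, 0], [3, 27, 13, 5, 18, 0, 20, 19, 1], [0, 1, 1], [0, 1, 1, 2, 6]]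

/-- proof 45 -/
def proof45 : List (List ℕ) := [[4, 1, 15, 15, 2], [11, 0, 0, 18, 11, 20, 6, 8, 0, 5], [2, 9, 1], [2, 8, 1], [2, 3, 0], [3, 12, 0, 4, 13, 20, 5, 18, 1], [0, 0, 20, 19, 10, 19, 2, 6, 12, 8, 7, 12], [2, 22, 1], [2, 20, 0], [2, 22, 1], [2, 15, 0], [2, 15, 0], [2, 20, 0], [2, 22, 1], [2, 15, 0], [3, 40, 0, 15, 21, 4], [0, 0, 0, 6, 3], [0, 0, 0, 0, 0, 6, 3], [2, 6, 1], [2, 6, 1], [2, 2, 1], [2, 4, 0], [3, 27, 18, 14, 21, 4, 1], [0, 1, 1], [0, 5, 19, 15, 20, 4, 6, 4, 20, 19, 12, 6]]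

/-- proof 46 -/
def proof46 : List (List ℕ) := [[4, 1, 15, 16, 2], [11, 0, 0, 18, 11, 20, 6, 8, 0, 5], [2, 9, 1], [2, 8, 1], [2, 3, 0], [3, 12, 0, 4, 13, 20, 5, 18, 1], [0, 0, 0, 6, 3], [2, 22, 1], [2, 20, 0], [2, 15, 1], [2, 20, 0], [2, 15, 1], [2, 20, 0], [2, 22, 1], [2, 15, 1], [3, 40, 4, 13, 18, 0, 13, 20, 18, 0], [0, 0, 4, 18, 4, 20, 18, 11, 6, 14, 18, 10, 3], [0, 1, 21, 19, 10, 19, 2, 6, 12, 8, 6, 13], [2, 3, 1], [2, 9, 0], [2, 7, 0], [2, 5, 0], [3, 27, 4, 1, 19, 21, 15, 19], [0, 1, 1], [0, 0, 0, 0, 0, 6, 3]]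

/-- proof 47 -/
def proof47 : List (List ℕ) := [[4, 1, 12, 17, 2], [11, 0, 0, 18, 11, 20, 6, 8, 0, 5], [2, 9, 1], [2, 8, 1], [2, 3, 0], [3, 12, 0, 4, 13, 20, 5, 18, 1], [0, 0, 4, 18, 4, 20, 18, 11, 6, 14, 18, 10, 3], [2, 15, 1], [2, 15, 1], [2, 20, 0], [2, 22, 0], [2, 20, 0], [3, 36, 0, 18, 14, 17, 20], [0, 2, 6], [0, 1, 1, 2, 6], [2, 4, 0], [2, 9, 1], [2, 4, 1], [3, 27, 19, 10, 20, 19, 15, 1, 19], [0, 1, 1], [0, 1, 21, 19, 10, 19, 2, 6, 12, 8, 6, 13]]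

/-- proof 48 -/
def proof48 : List (List ℕ) := [[1, 47]]

/-- proof 49 -/
def proof49 : List (List ℕ) := [[4, 1, 15, 6, 2], [0, 21, 4, 10, 18, 21, 6, 8, 0, 11, 12], [2, 2, 0], [2, 7, 0], [2, 4, 0], [2, 8, 0], [3, 12, 0, 20, 19, 11, 0, 10], [0, 0, 0, 6], [2, 15, 1], [2, 22, 0], [2, 20, 0], [2, 15, 1], [2, 20, 0], [2, 22, 0], [2, 20, 0], [3, 34, 1, 15, 5, 1, 21, 19], [0, 18, 5, 21, 11, 18, 0, 8, 4, 6, 20], [0, 0, 10, 18, 14, 12, 0, 21, 8, 0, 10, 6], [2, 8, 0], [2, 5, 1], [2, 4, 1], [2, 7, 0], [2, 2, 0], [3, 27, 0, 18, 0, 21, 11, 12, 19], [0, 1, 1], [0, 0, 0, 0, 0, 6]]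

/-- proof 50 -/
def proof50 : List (List ℕ) := [[4, 1, 13, 13, 2], [0, 21, 4, 10, 18, 21, 6, 8, 0, 11, 12], [2, 2, 0], [2, 7, 0], [2, 4, 0], [2, 8, 0], [3, 12, 0, 20, 19, 11, 0, 10], [0, 4, 18, 4, 1, 14, 21, 6, 15, 18, 10], [2, 22, 0], [2, 20, 0], [2, 22, 0], [2, 20, 0], [2, 15, 0], [3, 34, 0, 5, 13, 5, 20, 19], [0, 0, 12, 19, 14, 20, 18, 0, 8, 4, 6, 20], [0, 18, 0, 21, 16, 19, 13, 8, 4, 6, 20], [2, 5, 1], [2, 3, 0], [2, 6, 0], [2, 3, 0], [2, 2, 0], [3, 27, 4, 18, 0, 15, 15, 18], [0, 1, 1], [0, 11, 18, 20, 19, 12, 11, 6, 4, 10, 12, 10]]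

/-- proof 51 -/
def proof51 : List (List ℕ) := [[1, 50]]

/-- proof 52 -/
def proof52 : List (List ℕ) := [[4, 3, 10, 3, 1], [18, 20, 1, 11, 19, 4, 20, 6, 14, 20, 13, 2], [2, 30, 1], [2, 39, 0], [2, 30, 1], [2, 30, 1], [2, 30, 1], [2, 39, 0], [2, 30, 0], [2, 30, 0], [3, 44, 0, 5, 10, 19, 10, 17], [0, 19, 1, 4, 21, 13, 8, 4], [0, 20, 19, 14, 0, 18, 11, 21, 8, 21], [2, 30, 0], [2, 30, 0], [2, 39, 0], [2, 30, 1], [2, 30, 1], [2, 39, 0], [2, 30, 1], [2, 39, 0], [2, 30, 1], [2, 30, 1], [2, 39, 0], [3, 32, 0, 15, 0, 4, 18], [0, 1, 1], [0, 4, 21, 11, 14, 18, 8, 4, 18]]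

/-- proof 53 -/
def proof53 : List (List ℕ) := [[4, 3, 24, 4, 2], [18, 20, 1, 11, 19, 4, 20, 6, 14, 20, 13, 2], [2, 30, 1], [2, 39, 0], [2, 30, 1], [2, 30, 1], [2, 30, 1], [2, 39, 0], [2, 30, 0], [2, 30, 0], [3, 44, 0, 5, 10, 19, 10, 17], [0, 0, 16, 20, 14, 18, 20, 1, 8, 1, 5], [2, 30, 1], [2, 30, 1], [2, 30, 1], [2, 39, 0], [2, 30, 1], [2, 30, 1], [2, 30, 1], [2, 39, 0], [2, 30, 0], [2, 30, 0], [2, 30, 0], [2, 30, 0], [3, 41, 14, 18, 15, 0, 20], [0, 0, 11, 18, 21, 13, 0, 18, 8, 10, 18, 11], [0, 0, 12, 20, 19, 15, 0, 21, 19, 8, 11, 2]]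

/-- proof 54 -/
def proof54 : List (List ℕ) := [[1, 53]]

/-- proof 55 -/
def proof55 : List (List ℕ) := [[4, 3, 19, 14, 2], [18, 20, 1, 11, 19, 4, 20, 6, 14, 20, 13, 2], [2, 30, 1], [2, 39, 0], [2, 30, 1], [2, 30, 1], [2, 30, 1], [2, 39, 0], [2, 30, 0], [2, 30, 0], [3, 44, 0, 5, 10, 19, 10, 17], [0, 2, 6], [2, 30, 0], [2, 30, 0], [2, 30, 0], [2, 39, 0], [2, 30, 0], [2, 39, 0], [2, 30, 0], [3, 46, 0, 12, 18, 0, 21, 10, 18, 0], [0, 0, 20, 19, 10, 19, 2, 6, 12, 8, 7, 12], [0, 5, 19, 15, 20, 4, 6, 4, 20, 19, 12, 6], [2, 39, 0], [2, 30, 1], [2, 30, 1], [2, 30, 1], [2, 39, 0], [2, 30, 1], [3, 45, 4, 16, 21, 5, 18, 0], [0, 1, 1], [0, 1, 1, 2, 6]]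

/-- proof 56 -/
def proof56 : List (List ℕ) := [[4, 1, 10, 11, 2], [14, 20, 19, 5, 8, 18, 12], [2, 9, 0], [2, 8, 0], [3, 11, 1, 12, 21, 14, 4], [0, 5, 19, 11, 15, 21, 6, 12, 16, 18, 13], [2, 6, 1], [2, 8, 1], [2, 4, 1], [2, 3, 0], [3, 27, 5, 18, 12, 20, 1, 13, 18], [0, 20, 4, 18, 6, 4, 18, 6], [0, 0, 0, 20, 4, 18, 6, 4, 18, 6], [2, 7, 1], [2, 2, 0], [2, 5, 0], [3, 27, 0, 5, 21, 4, 12, 18], [0, 1, 1], [0, 0, 4, 12, 16, 21, 8, 11, 6, 5]]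

/-- proof 57 -/
def proof57 : List (List ℕ) := [[4, 2, 27, 6, 3], [0, 4, 10, 20, 18, 15, 0, 21, 19, 6, 12, 19, 21], [2, 15, 1], [2, 22, 0], [2, 20, 0], [3, 13, 4, 18, 12, 20, 11, 13], [0, 0, 0, 6], [2, 6, 0], [2, 5, 1], [2, 6, 0], [2, 8, 0], [2, 2, 0], [3, 27, 12, 1, 10, 21, 15, 19], [0, 18, 5, 21, 11, 18, 0, 8, 4, 6, 20], [2, 39, 0], [2, 30, 0], [2, 30, 0], [2, 30, 0], [2, 39, 0], [2, 30, 1], [2, 30, 1], [2, 30, 1], [2, 39, 0], [2, 30, 0], [2, 30, 0], [2, 30, 0], [2, 30, 0], [3, 49, 11, 5, 19, 12, 1, 19], [0, 6], [0, 0, 10, 18, 14, 12, 0, 21, 8, 0, 10, 6]]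

/-- proof 58 -/
def proof58 : List (List ℕ) := [[1, 57]]

/-- proof 59 -/
def proof59 : List (List ℕ) := [[4, 2, 10, 11, 2], [0, 4, 10, 20, 18, 15, 0, 21, 19, 6, 12, 19, 21], [2, 15, 1], [2, 22, 0], [2, 20, 0], [3, 13, 4, 18, 12, 20, 11, 13], [0, 5, 19, 11, 15, 21, 6, 12, 16, 18, 13], [2, 4, 0], [2, 9, 1], [2, 3, 1], [3, 12, 18, 1, 21, 13, 0, 4], [0, 20, 4, 18, 6, 4, 18, 6], [0, 0, 0, 20, 4, 18, 6, 4, 18, 6], [3, 58, 1, 1, 1, 5], [0, 1, 1], [0, 0, 4, 12, 16, 21, 8, 11, 6, 5]]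

/-- proof 60 -/
def proof60 : List (List ℕ) := [[1, 59]]

/-- proof 61 -/
def proof61 : List (List ℕ) := [[4, 2, 23, 17, 3], [0, 4, 10, 20, 18, 15, 0, 21, 19, 6, 12, 19, 21], [2, 15, 1], [2, 22, 0], [2, 20, 0], [3, 13, 4, 18, 12, 20, 11, 13], [0, 0, 4, 18, 4, 20, 18, 11, 6, 14, 18, 10, 3], [2, 2, 1], [2, 7, 1], [2, 8, 1], [2, 6, 1], [2, 2, 0], [3, 27, 15, 20, 18, 14, 14], [0, 2, 6], [2, 30, 1], [2, 39, 0], [2, 30, 1], [2, 30, 1], [2, 39, 0], [2, 30, 1], [2, 30, 1], [2, 39, 0], [2, 30, 0], [3, 46, 4, 19, 21, 13, 19, 15, 1], [0, 0, 20, 19, 10, 19, 2, 6, 12, 8, 7, 12], [0, 1, 1, 2, 6]]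

/-- proof 62 -/
def proof62 : List (List ℕ) := [[1, 61]]

/-- proof 63 -/
def proof63 : List (List ℕ) := [[4, 3, 26, 10, 3], [4, 16, 18, 1, 21, 14, 18, 2, 6, 8, 11, 20], [2, 30, 1], [2, 39, 0], [2, 30, 0], [3, 56, 0, 20, 12, 18, 13, 21], [0, 0, 12, 19, 14, 20, 18, 0, 8, 4, 6, 20], [2, 30, 1], [2, 30, 1], [2, 39, 0], [2, 30, 1], [2, 30, 1], [2, 39, 0], [2, 30, 1], [2, 39, 0], [2, 30, 1], [3, 35, 0, 21, 19, 12, 12, 4], [0, 5, 19, 11, 15, 21, 6, 12, 16, 18, 13], [2, 20, 0], [2, 15, 1], [2, 20, 0], [2, 15, 1], [2, 22, 0], [2, 20, 0], [2, 22, 1], [2, 15, 0], [3, 42, 4, 15, 20, 19], [0, 20, 4, 18, 6, 4, 18, 6], [0, 0, 4, 12, 16, 21, 8, 11, 6, 5]]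

/-- proof 64 -/
def proof64 : List (List ℕ) := [[1, 63]]

/-- proof 65 -/
def proof65 : List (List ℕ) := [[4, 2, 16, 11, 2], [13, 0, 18, 4, 10, 2, 6, 12, 2, 16, 21], [2, 15, 0], [2, 15, 0], [2, 20, 0], [2, 22, 1], [2, 15, 1], [2, 20, 0], [3, 25, 1, 19, 1, 13, 10, 21], [0, 5, 19, 11, 15, 21, 6, 12, 16, 18, 13], [2, 15, 0], [2, 20, 0], [2, 15, 1], [2, 22, 0], [2, 20, 0], [2, 15, 1], [3, 53, 0, 4, 11, 13, 21], [0, 20, 4, 18, 6, 4, 18, 6], [0, 0, 0, 20, 4, 18, 6, 4, 18, 6], [2, 15, 0], [2, 20, 0], [2, 15, 1], [2, 22, 0], [2, 20, 0], [2, 15, 1], [3, 40, 19, 1, 13, 18, 21, 4], [0, 1, 1], [0, 0, 4, 12, 16, 21, 8, 11, 6, 5]]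

/-- proof 66 -/
def proof66 : List (List ℕ) := [[4, 3, 3, 5, 1], [0, 15, 0, 13, 0, 11, 8, 0, 10], [2, 30, 0], [3, 33, 0, 12, 20, 5, 17, 18, 0], [0, 0, 11, 18, 21, 13, 0, 18, 8, 10, 18, 11], [0, 4, 21, 11, 14, 18, 8, 4, 18], [2, 39, 0], [2, 30, 1], [2, 39, 0], [2, 30, 1], [2, 39, 0], [2, 30, 1], [2, 30, 1], [2, 39, 0], [2, 30, 0], [2, 30, 0], [2, 30, 0], [2, 39, 0], [3, 31, 1, 4, 12, 10, 18, 11], [0, 1, 1], [0, 0, 12, 20, 19, 15, 0, 21, 19, 8, 11, 2]]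

/-- proof 67 -/
def proof67 : List (List ℕ) := [[0]]

/-- proof 68 -/
def proof68 : List (List ℕ) := [[1, 67]]

/-- proof 69 -/
def proof69 : List (List ℕ) := [[4, 1, 4, 0, 0], [0, 14, 4, 12, 0, 6], [2, 5, 0], [2, 2, 1], [2, 5, 0], [3, 67, 0, 0, 0], [2, 5, 1], [2, 3, 0], [2, 6, 0], [3, 67]]

/-- proof 70 -/
def proof70 : List (List ℕ) := [[3], [2, 69, 0]]

/-- proof 71 -/
def proof71 : List (List ℕ) := [[4, 4, 7, 0, 2], [0, 5, 18, 13, 21, 19, 10], [3, 68, 0, 5, 18, 13, 21, 19, 10], [0, 21, 19, 1, 2], [2, 4, 0], [2, 3, 1], [2, 8, 0], [3, 27, 0, 11, 0, 0, 14, 18, 16], [0, 21, 19, 1, 2], [0, 20, 18, 1, 2]]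

/-- proof 72 -/
def proof72 : List (List ℕ) := [[1, 71]]

/-- proof 73 -/
def proof73 : List (List ℕ) := [[4, 4, 9, 3, 2], [0, 5, 18, 13, 21, 19, 10], [3, 68, 0, 5, 18, 13, 21, 19, 10], [0, 19, 1, 4, 21, 13, 8, 4], [2, 3, 1], [2, 9, 0], [2, 6, 1], [2, 8, 0], [2, 2, 0], [3, 27, 0, 18, 20, 1, 11, 18, 1, 4], [0, 0, 16, 20, 14, 18, 20, 1, 8, 1, 5], [0, 20, 19, 14, 0, 18, 11, 21, 8, 21]]

/-- proof 74 -/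
def proof74 : List (List ℕ) := [[1, 73]]

/-- proof 75 -/
def proof75 : List (List ℕ) := [[4, 4, 8, 4, 2], [0, 5, 18, 13, 21, 19, 10], [3, 68, 0, 5, 18, 13, 21, 19, 10], [0, 0, 16, 20, 14, 18, 20, 1, 8, 1, 5], [2, 8, 1], [2, 5, 1], [2, 9, 0], [2, 3, 0], [3, 67, 0, 11, 21, 13, 1, 15], [0, 0, 11, 18, 21, 13, 0, 18, 8, 10, 18, 11], [0, 0, 12, 20, 19, 15, 0, 21, 19, 8, 11, 2]]

/-- proof 76 -/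
def proof76 : List (List ℕ) := [[1, 75]]

/-- proof 77 -/
def proof77 : List (List ℕ) := [[4, 4, 14, 5, 3], [0, 5, 18, 13, 21, 19, 10], [3, 68, 0, 5, 18, 13, 21, 19, 10], [0, 0, 11, 18, 21, 13, 0, 18, 8, 10, 18, 11], [2, 9, 1], [2, 6, 0], [2, 2, 0], [2, 3, 0], [3, 67, 0, 18, 0, 20, 19, 1, 13, 5], [0, 19, 1, 4, 21, 13, 8, 4], [2, 70, 0], [2, 70, 0], [2, 70, 0], [2, 70, 0], [3, 75, 1, 1, 5, 10, 17, 19], [0, 0, 16, 20, 14, 18, 20, 1, 8, 1, 5]]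

/-- proof 78 -/
def proof78 : List (List ℕ) := [[3], [2, 77, 0]]

/-- proof 79 -/
def proof79 : List (List ℕ) := [[4, 4, 5, 0, 0], [12, 19, 13, 20, 10, 8, 11, 2], [2, 70, 1], [2, 70, 1], [2, 70, 1], [2, 78, 0], [3, 75, 5, 10, 18, 13, 10], [3, 76]]

/-- proof 80 -/
def proof80 : List (List ℕ) := [[3], [2, 79, 0]]

/-- proof 81 -/
def proof81 : List (List ℕ) := [[4, 4, 15, 7, 3], [0, 5, 18, 13, 21, 19, 10], [3, 68, 0, 5, 18, 13, 21, 19, 10], [0, 18, 5, 21, 11, 18, 0, 8, 4, 6, 20], [2, 6, 1], [2, 9, 0], [2, 8, 0], [3, 27, 4, 18, 1, 4, 18, 10], [0, 6], [2, 30, 1], [2, 39, 0], [2, 30, 1], [2, 30, 1], [2, 30, 1], [2, 39, 0], [3, 57, 0, 18, 0, 10, 4, 20, 18, 1], [0, 15, 21, 14, 18, 20, 1, 8, 4, 6, 20], [0, 1, 1, 6]]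

/-- proof 82 -/
def proof82 : List (List ℕ) := [[1, 81]]

/-- proof 83 -/
def proof83 : List (List ℕ) := [[4, 4, 33, 13, 4], [0, 5, 18, 13, 21, 19, 10], [3, 68, 0, 5, 18, 13, 21, 19, 10], [0, 4, 18, 4, 1, 14, 21, 6, 15, 18, 10], [2, 4, 0], [2, 5, 0], [2, 5, 0], [2, 3, 0], [3, 27, 21, 15, 0, 18, 0, 15, 20], [0, 0, 12, 19, 14, 20, 18, 0, 8, 4, 6, 20], [2, 30, 0], [2, 39, 0], [2, 30, 0], [2, 30, 0], [2, 30, 0], [2, 39, 0], [2, 30, 0], [2, 30, 0], [2, 30, 0], [2, 39, 0], [2, 30, 1], [3, 48, 1, 11, 20, 12, 1, 10], [0, 5, 19, 11, 15, 21, 6, 12, 16, 18, 13], [2, 39, 0], [2, 30, 0], [2, 39, 0], [2, 30, 0], [2, 39, 0], [2, 30, 0], [2, 30, 0], [2, 39, 0], [2, 30, 0], [2, 30, 0], [3, 73, 5, 21, 19, 15, 1, 14], [0, 20, 4, 18, 6, 4, 18, 6]]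

/-- proof 84 -/
def proof84 : List (List ℕ) := [[3], [2, 83, 0]]

/-- proof 85 -/
def proof85 : List (List ℕ) := [[4, 4, 20, 16, 3], [0, 5, 18, 13, 21, 19, 10], [3, 68, 0, 5, 18, 13, 21, 19, 10], [0, 0, 0, 6, 3], [2, 5, 1], [2, 9, 0], [2, 3, 1], [2, 2, 0], [3, 27, 11, 19, 11, 21, 19, 1], [0, 0, 4, 18, 4, 20, 18, 11, 6, 14, 18, 10, 3], [2, 39, 0], [2, 30, 0], [2, 30, 0], [2, 30, 0], [2, 39, 0], [2, 30, 0], [2, 39, 0], [2, 30, 0], [2, 39, 0], [2, 30, 0], [3, 73, 0, 14, 18, 1, 21, 4, 19], [0, 2, 6], [0, 1, 21, 19, 10, 19, 2, 6, 12, 8, 6, 13]]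

/-- proof 86 -/
def proof86 : List (List ℕ) := [[4, 1, 3, 6, 1], [1, 4, 18, 21, 19, 6, 4, 12, 10, 19], [2, 4, 0], [3, 67, 0, 16, 18, 5, 11, 20], [0, 0, 0, 6], [0, 0, 10, 18, 14, 12, 0, 21, 8, 0, 10, 6], [2, 8, 1], [2, 4, 1], [2, 3, 0], [2, 4, 1], [2, 2, 0], [3, 27, 0, 4, 11, 18, 0, 15], [0, 1, 1], [0, 0, 0, 0, 0, 6], [2, 30, 0], [2, 30, 0], [2, 39, 0], [2, 30, 1], [2, 30, 1], [2, 30, 1], [2, 39, 0], [2, 30, 1], [2, 30, 1], [3, 31, 18, 1, 21, 13, 18, 11, 0], [0, 1, 1], [0, 0, 14, 14, 12, 12, 8, 0, 10, 6]]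

/-- proof 87 -/
def proof87 : List (List ℕ) := [[1, 86]]

/-- proof 88 -/
def proof88 : List (List ℕ) := [[4, 1, 3, 13, 1], [1, 4, 18, 21, 19, 6, 4, 12, 10, 19], [2, 4, 0], [3, 67, 0, 16, 18, 5, 11, 20], [0, 4, 18, 4, 1, 14, 21, 6, 15, 18, 10], [0, 18, 0, 21, 16, 19, 13, 8, 4, 6, 20], [2, 4, 1], [2, 5, 0], [2, 8, 1], [2, 5, 0], [2, 2, 0], [3, 27, 10, 19, 10, 4, 20, 18], [0, 1, 1], [0, 11, 18, 20, 19, 12, 11, 6, 4, 10, 12, 10], [2, 30, 0], [2, 30, 0], [2, 30, 0], [2, 30, 0], [2, 39, 0], [2, 30, 1], [3, 60, 10, 20, 18, 1], [0, 1, 1], [0, 0, 0, 20, 4, 18, 6, 4, 18, 6]]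

/-- proof 89 -/
def proof89 : List (List ℕ) := [[1, 88]]

/-- proof 90 -/
def proof90 : List (List ℕ) := [[4, 4, 13, 5, 2], [12, 18, 12, 4, 6, 4, 10, 0, 12], [2, 78, 0], [2, 70, 0], [3, 82, 16, 19, 4, 11, 21, 19], [0, 0, 11, 18, 21, 13, 0, 18, 8, 10, 18, 11], [2, 22, 1], [2, 20, 0], [2, 22, 0], [2, 15, 0], [2, 20, 0], [2, 22, 1], [2, 20, 0], [3, 25, 0, 18, 0, 21, 13, 15, 19, 1], [0, 19, 1, 4, 21, 13, 8, 4], [0, 4, 21, 11, 14, 18, 8, 4, 18]]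

/-- proof 91 -/
def proof91 : List (List ℕ) := [[1, 90]]

/-- proof 92 -/
def proof92 : List (List ℕ) := [[4, 4, 18, 12, 3], [19, 4, 1, 4, 20, 19], [3, 68, 19, 4, 1, 4, 20, 19], [0, 20, 4, 18, 6, 4, 18, 6], [2, 2, 1], [2, 5, 1], [2, 8, 1], [2, 3, 0], [3, 27, 0, 11, 18, 5, 14, 0, 20], [0, 4, 18, 4, 1, 14, 21, 6, 15, 18, 10], [2, 30, 1], [2, 30, 1], [2, 39, 0], [2, 30, 1], [2, 30, 1], [2, 39, 0], [2, 30, 0], [2, 30, 0], [3, 73, 10, 21, 11, 18, 13, 1], [0, 0, 12, 19, 14, 20, 18, 0, 8, 4, 6, 20], [0, 11, 18, 20, 19, 12, 11, 6, 4, 10, 12, 10]]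

/-- proof 93 -/
def proof93 : List (List ℕ) := [[4, 4, 24, 10, 3], [14, 0, 19, 1, 14, 2, 2], [2, 70, 0], [3, 72, 10, 12, 21, 10], [0, 0, 12, 19, 14, 20, 18, 0, 8, 4, 6, 20], [2, 39, 0], [2, 30, 1], [2, 30, 1], [2, 39, 0], [2, 30, 0], [2, 30, 0], [2, 30, 0], [2, 39, 0], [2, 30, 0], [2, 30, 0], [2, 30, 0], [3, 35, 5, 18, 0, 12, 20], [0, 5, 19, 11, 15, 21, 6, 12, 16, 18, 13], [2, 20, 0], [2, 22, 1], [2, 15, 1], [2, 20, 0], [2, 22, 0], [2, 20, 0], [3, 25, 1, 12, 20, 14, 12, 19], [0, 20, 4, 18, 6, 4, 18, 6], [0, 0, 4, 12, 16, 21, 8, 11, 6, 5]]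

/-- proof 94 -/
def proof94 : List (List ℕ) := [[1, 93]]

/-- the proofs -/
def proofs : List (List (List ℕ)) := [proof0, proof1, proof2, proof3, proof4, proof5, proof6, proof7, proof8, proof9, proof10, proof11, proof12, proof13, proof14, proof15, proof16, proof17, proof18, proof19, proof20, proof21, proof22, proof23, proof24, proof25, proof26, proof27, proof28, proof29, proof30, proof31, proof32, proof33, proof34, proof35, proof36, proof37, proof38, proof39, proof40, proof41, proof42, proof43, proof44, proof45, proof46, proof47, proof48, proof49, proof50, proof51, proof52, proof53, proof54, proof55, proof56, proof57, proof58, proof59, proof60, proof61, proof62, proof63, proof64, proof65, proof66, proof67, proof68, proof69, proof70, proof71, proof72, proof73, proof74, proof75,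 proof76, proof77, proof78, proof79, proof80, proof81, proof82, proof83, proof84, proof85, proof86, proof87, proof88, proof89, proof90, proof91, proof92, proof93, proof94]

/-- conjugation by `z` on letters -/
def sigma : WTab := (.node (.node (.node (.node (.node (.leaf [1, 1, 1]) (.leaf [16, 16])) (.node (.leaf []) (.leaf []))) (.node (.node (.leaf [4, 13, 4, 15]) (.leaf [0, 20, 1])) (.node (.leaf [10, 14, 14]) (.leaf [])))) (.node (.node (.node (.leaf []) (.leaf [1, 1, 19])) (.node (.leaf [13, 20, 4, 21]) (.leaf []))) (.node (.node (.leaf []) (.leaf [])) (.node (.leaf [1, 5, 12, 17, 0]) (.leaf []))))) (.node (.node (.node (.node (.leaf [0, 0, 0]) (.leaf [17, 17])) (.node (.leaf []) (.leaf []))) (.node (.node (.leaf [5, 12, 5, 14]) (.leaf [0, 0, 20])) (.node (.leaf [11, 15,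 15]) (.leaf [])))) (.node (.node (.node (.leaf []) (.leaf [0, 0, 18])) (.node (.leaf [12, 20, 5, 21]) (.leaf []))) (.node (.node (.leaf []) (.leaf [])) (.node (.leaf [1, 4, 13, 17, 0]) (.leaf []))))))

/-- the rotated relators 82–86 -/
def rots : List (List (List ℕ)) := [[[21, 19, 1, 2], [21, 19, 1, 2], [20, 19, 1, 2]],
  [[21, 19, 1, 2], [20, 19, 1, 2], [21, 19, 1, 2]],
  [[20, 19, 1, 2], [21, 19, 1, 2], [21, 19, 1, 2]],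
  [[19, 1, 4, 21, 13, 8, 4], [0, 16, 20, 14, 18, 20, 1, 8, 1, 5], [0, 11, 18, 21, 13, 0, 18, 8, 10, 18, 11]],
  [[0, 16, 20, 14, 18, 20, 1, 8, 1, 5], [0, 11, 18, 21, 13, 0, 18, 8, 10, 18, 11], [19, 1, 4, 21, 13, 8, 4]],
  [[0, 11, 18, 21, 13, 0, 18, 8, 10, 18, 11], [19, 1, 4, 21, 13, 8, 4], [0, 16, 20, 14, 18, 20, 1, 8, 1, 5]],
  [[0, 0, 6], [18, 5, 21, 11, 18, 0, 8, 4, 6, 20], [6], [15, 21, 14, 18, 20, 1, 8, 4, 6, 20]],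
  [[18, 5, 21, 11, 18, 0, 8, 4, 6, 20], [6], [15, 21, 14, 18, 20, 1, 8, 4, 6, 20], [0, 0, 6]],
  [[6], [15, 21, 14, 18, 20, 1, 8, 4, 6, 20], [0, 0, 6], [18, 5, 21, 11, 18, 0, 8, 4, 6, 20]],
  [[15, 21, 14, 18, 20, 1, 8, 4, 6, 20], [0, 0, 6], [18, 5, 21, 11, 18, 0, 8, 4, 6, 20], [6]],
  [[0, 12, 19, 14, 20, 18, 0, 8, 4, 6, 20], [5, 19, 11, 15, 21, 6, 12, 16, 18, 13], [20, 4, 18, 6, 4, 18, 6], [4, 18, 4, 1, 14, 21, 6, 15, 18, 10]],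
  [[5, 19, 11, 15, 21, 6, 12, 16, 18, 13], [20, 4, 18, 6, 4, 18, 6], [4, 18, 4, 1, 14, 21, 6, 15, 18, 10], [0, 12, 19, 14, 20, 18, 0, 8, 4, 6, 20]],
  [[20, 4, 18, 6, 4, 18, 6], [4, 18, 4, 1, 14, 21, 6, 15, 18, 10], [0, 12, 19, 14, 20, 18, 0, 8, 4, 6, 20], [5, 19, 11, 15, 21, 6, 12, 16, 18, 13]],
  [[4, 18, 4, 1, 14, 21, 6, 15, 18, 10], [0, 12, 19, 14, 20, 18, 0, 8, 4, 6, 20], [5, 19, 11, 15, 21, 6, 12, 16, 18, 13], [20, 4, 18, 6, 4, 18, 6]],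
  [[2, 6], [0, 20, 19, 10, 19, 2, 6, 12, 8, 7, 12], [0, 0, 6, 3], [0, 4, 18, 4, 20, 18, 11, 6, 14, 18, 10, 3]],
  [[0, 20, 19, 10, 19, 2, 6, 12, 8, 7, 12], [0, 0, 6, 3], [0, 4, 18, 4, 20, 18, 11, 6, 14, 18, 10, 3], [2, 6]],
  [[0, 0, 6, 3], [0, 4, 18, 4, 20, 18, 11, 6, 14, 18, 10, 3], [2, 6], [0, 20, 19, 10, 19, 2, 6, 12, 8, 7, 12]],
  [[0, 4, 18, 4, 20, 18, 11, 6, 14, 18, 10, 3], [2, 6], [0, 20, 19, 10, 19, 2, 6, 12, 8, 7, 12], [0, 0, 6, 3]]]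

/-- definitions `x j = x i * h * z` -/
def defs : List (ℕ × ℕ × List ℕ) := [(1, 0, []), (2, 1, [18, 5, 21, 11, 18, 0, 8, 4, 6, 20]), (3, 1, [11, 4, 20, 15, 6, 5, 21, 12, 2]), (4, 1, [0, 0, 6])]

/-- the data -/
def data : DData := ⟨facts, proofs, sigma, rots, defs⟩

end

end Cfsg.Agent.Lyons.FactData
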