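import Cfsg.Agent.Lib.Lyons.CoverDefs
import Cfsg.Agent.Lib.Lyons.FactData

/-! Kernel check of the coverage tree of node 4. -/

set_option autoImplicit false
set_option maxRecDepth 100000
set_option maxHeartbeats 0

namespace Cfsg.Agent.Lyons

open Cfsg.Agent.CosetCert

theorem shape4_ok : shapeCheck FactData.data 4 CoverData.edges4 CoverData.stab4 = true := by decide +kernel

theorem full4_ok : orbFull CoverData.cov4 = true := by decide +kernel

theorem cov4a_ok : allLong (fun j => covStep FactData.data CoverData.cov4 CoverData.edges4 CoverData.stab4 j) 9765 = true := by
  decide +kernel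

theorem cov4b_ok : allLong (fun j => covStep FactData.data CoverData.cov4 CoverData.edges4 CoverData.stab4 (9765 + j)) 9765 = true := by
  decide +kernel

theorem stabWords4_ok : stabWords FactData.data CoverData.stab4 OrbData.stab4a OrbData.stab4b CoverData.wit4 = true := by
  decide +kernel

end Cfsg.Agent.Lyons
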