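import Cfsg.Agent.Lib.Lyons.Deduce
import Cfsg.Agent.Lib.Lyons.CoverData

/-! The checks of the coverage trees and of the stabilisers of the named cosets. -/

set_option autoImplicit false

namespace Cfsg.Agent.Lyons

open Cfsg.Agent.CosetCert

noncomputable section

/-- The number at a position of a list, `0` beyond its end. -/
def getN (l : List ℕ) (i : ℕ) : ℕ :=
  List.rec (motive := fun _ => ℕ → ℕ) (fun _ => 0) (fun w _ r i => bif Nat.beq i 0 then w else r (Nat.sub i 1)) l i

/-- The listed facts have the shape of edges, and of stabiliser facts, at the node `k`. -/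
def shapeCheck (D : DData) (k : ℕ) (edges stab : List ℕ) : Bool :=
  edges.all (fun n => Nat.blt n 95 && Nat.beq (D.fact n).e 1 && Nat.beq (D.fact n).i k &&
      Nat.blt (D.fact n).j 5 && letOK (invL (D.fact n).u)) &&
    stab.all (fun n => Nat.blt n 95 && Nat.beq (D.fact n).e 0 && Nat.beq (D.fact n).i k &&
      Nat.beq (D.fact n).j k && sameW (D.fact n).v [] && letOK (invL (D.fact n).u))

/-- The words taking a point of the tree to its children, and the roots. -/
def rootWord (D : DData) (edges : List ℕ) (j : ℕ) : List ℕ := invL (D.fact (getN edges j)).u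

/-- The step check of a coverage tree. -/
def covStep (D : DData) (O : Orb) (edges stab : List ℕ) (j : ℕ) : Bool :=
  bif Nat.blt j edges.length then Nat.beq (actW (rootWord D edges j) 0) (O.pts.get j)
  else Nat.blt (O.gen.get j) stab.length && Nat.blt (O.par.get j) j &&
    Nat.beq (actW (rootWord D stab (O.gen.get j)) (O.pts.get (O.par.get j))) (O.pts.get j)

/-- The stabiliser data: the words of the first level, and how the second level comes from it. -/
def stabWords (D : DData) (stab : List ℕ) (Oa Ob : Orb) (wit : List (List ℕ)) : Bool :=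
  (Nat.beq stab.length Oa.ws.length &&
    allBelow (fun g => wordEq (D.fact (getN stab g)).A (getW Oa.ws g)) Oa.ws.length) &&
  (Nat.beq wit.length Ob.ws.length &&
    allBelow (fun g => (getW wit g).all (fun c => Nat.blt (Nat.div c 2) Oa.ws.length) &&
      sameW (getW Ob.ws g) ((getW wit g).flatMap fun c =>
        bif Nat.beq (Nat.mod c 2) 0 then getW Oa.ws (Nat.div c 2) else invL (getW Oa.ws (Nat.div c 2))))
      Ob.ws.length) &&
  fixCheck Ob.ws [Oa.b]

end

end Cfsg.Agent.Lyons
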