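import Cfsg.Agent.Lib.Lyons.HPerm

/-!
Checking deductions among double cosets of `⟨a, b, c, d⟩` in the presented Lyons group.

`ψ` maps the group of order 5859000000 to a group with a further element `z` with `z * z = ψ (a ^ 2)` which
conjugates the subgroup generated by `a, c, c2, c3, c4, c5, a2, a3` into itself, and `x k` are named elements
with `x 0 = 1`, `x 1 = z`.  A fact is an equation `x i * u * z ^ e = A * x j * v` with `u, A, v` words of the
group of order 5859000000.
-/

set_option autoImplicit false

namespace Cfsg.Agent.Lyons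

open Cfsg.Agent.CosetCert

noncomputable section

/-- The word `a²`. -/
def wU : List ℕ := [0, 0]

/-- The letters `a, c, c2, c3, c4, c5, a2, a3` and their inverses. -/
def kLets : List ℕ := [0, 1, 4, 5, 10, 11, 12, 13, 14, 15, 16, 17, 18, 19, 20, 21]

/-- All letters are letters of the conjugated subgroup. -/
def inKLets (w : List ℕ) : Bool := w.all fun l => kLets.any fun x => Nat.beq x l

/-- An equation `x i * u * z ^ e = A * x j * v`. -/
structure DFact where
  e : ℕ
  i : ℕ
  u : List ℕ
  A : List ℕ
  j : ℕ
  v : List ℕ

/-- The data. -/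
structure DData where
  F : List DFact
  P : List (List (List ℕ))
  sig : WTab
  rots : List (List (List ℕ))
  defs : List (ℕ × ℕ × List ℕ)

variable (D : DData)

/-- Fact `n`. -/
def DData.fact (n : ℕ) : DFact := D.F.getD n ⟨0, 0, [], [], 0, []⟩

/-- The image of a word under conjugation by `z`. -/
def sigW (w : List ℕ) : List ℕ := List.rec [] (fun l _ r => D.sig.get l ++ r) w

/-- A state: the product `A * x k * u` and the word consumed (`none` for `z`). -/
structure DSt where
  A : List ℕ
  k : ℕ
  u : List ℕ
  W : List (Option (List ℕ))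

/-- Equality of consumed words. -/
def itemsEq : List (Option (List ℕ)) → List (Option (List ℕ)) → Bool
  | [], [] => true
  | none :: a, none :: b => itemsEq a b
  | some v :: a, some w :: b => sameW v w && itemsEq a b
  | _, _ => false

/-- One move. -/
def moveStep (n : ℕ) (st : DSt) : List ℕ → Option DSt
  | 0 :: w => some ⟨st.A, st.k, st.u ++ w, st.W ++ [some w]⟩
  | [1] => bif Nat.beq st.k 0 then some ⟨st.A ++ st.u, 0, [], st.W⟩ else none
  | [2, m, rev] =>
    let f := D.fact m
    bif Nat.blt m n && Nat.beq f.e 0 then
      bif Nat.beq rev 0 then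
        bif Nat.beq st.k f.i then some ⟨st.A ++ f.A, f.j, f.v ++ invL f.u ++ st.u, st.W⟩ else none
      else
        bif Nat.beq st.k f.j then some ⟨st.A ++ invL f.A, f.i, f.u ++ invL f.v ++ st.u, st.W⟩ else none
    else none
  | 3 :: m :: c =>
    let f := D.fact m
    bif Nat.blt m n && Nat.beq f.e 1 && Nat.beq st.k f.i && inKLets c && sameW (f.u ++ c) st.u then
      some ⟨st.A ++ f.A, f.j, f.v ++ sigW D c, st.W ++ [none]⟩
    else none
  | _ => none

/-- A list of moves. -/
def runMoves (n : ℕ) : List (List ℕ) → DSt → Option DSt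
  | [], st => some st
  | m :: l, st =>
    match moveStep D n st m with
    | some st' => runMoves n l st'
    | none => none

/-- Consumed word of the first part of a rotated relator. -/
def headW : List (List ℕ) → List (Option (List ℕ))
  | [] => []
  | h :: l => none :: some h :: headW l

/-- Consumed word of the inverse of the rest of a rotated relator, less its first letter `z`. -/
def tailW : List (List ℕ) → List (Option (List ℕ))
  | [] => []
  | [h] => [some (invL h)]
  | h :: l => tailW l ++ [none, some (invL wU), some (invL h)]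

/-- Check the proof of fact `n`. -/
def okFact (n : ℕ) : Bool :=
  let f := D.fact n
  match D.P.getD n [] with
  | [[0]] =>
    Nat.beq f.e 1 && sameW f.A [] && sameW f.v [] &&
      D.defs.any fun d => Nat.beq d.1 f.j && Nat.beq d.2.1 f.i && wordEq d.2.2 f.u
  | [[1, m]] =>
    let g := D.fact m
    Nat.blt m n && Nat.beq f.e 1 && Nat.beq g.e 1 && Nat.beq f.i g.j && Nat.beq f.j g.i &&
      sameW f.u g.v && ((sameW f.A (invL g.A) && sameW f.v (g.u ++ wU)) ||
        (Nat.beq f.j 0 && sameW f.A (invL g.A ++ g.u ++ wU) && sameW f.v []))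
  | [[2, l]] =>
    inKLets [l] && Nat.beq f.e 0 && Nat.beq f.i 1 && Nat.beq f.j 1 && sameW f.u [l] && sameW f.v [] &&
      sameW f.A (wU ++ sigW D [l] ++ invL wU)
  | [3] :: mv =>
    match runMoves D n mv ⟨[], f.i, f.u, []⟩ with
    | some st =>
      ((Nat.beq f.e 0 && itemsEq st.W []) || (Nat.beq f.e 1 && itemsEq st.W [none])) &&
        Nat.beq f.j st.k && sameW f.A st.A && sameW f.v st.u
    | none => false
  | [4, i0, len, q, a] :: h :: mv =>
    match runMoves D n (mv.take len) ⟨[], i0, h, []⟩, runMoves D n (mv.drop len) ⟨[], i0, h, []⟩ with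
    | some s₁, some s₂ =>
      let r := D.rots.getD q []
      Nat.beq f.i s₁.k && Nat.beq f.j s₂.k && sameW f.u s₁.u && sameW f.v s₂.u &&
        sameW f.A (invL s₁.A ++ s₂.A) &&
        ((Nat.beq f.e 0 && itemsEq s₁.W s₂.W) ||
          (Nat.beq f.e 0 && itemsEq s₁.W (headW r) && itemsEq s₂.W []) ||
          (Nat.beq f.e 1 && Nat.blt a r.length && itemsEq s₁.W (headW (r.take a)) &&
            itemsEq s₂.W (tailW (r.drop a))))
    | _, _ => false
  | _ => false

variable {D} {G : Type*} [Group G] (ψ : H0 →* G) (z : G) (x : ℕ → G)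

/-- The value of a consumed item. -/
def itemV : Option (List ℕ) → G
  | none => z
  | some w => ψ (el w)

/-- The value of a consumed word. -/
def itemsV (W : List (Option (List ℕ))) : G := (W.map (itemV ψ z)).prod

/-- The meaning of fact `n`. -/
def Holds (D : DData) (n : ℕ) : Prop :=
  x (D.fact n).i * ψ (el (D.fact n).u) * z ^ (D.fact n).e =
    ψ (el (D.fact n).A) * x (D.fact n).j * ψ (el (D.fact n).v)

/-- The value of a state. -/
def DSt.val (st : DSt) : G := ψ (el st.A) * x st.k * ψ (el st.u)

/-- What the checks assume about the group. -/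
structure DRules (D : DData) : Prop where
  x0 : x 0 = 1
  x1 : x 1 = z
  zz : z * z = ψ (el wU)
  conj : ∀ l ∈ kLets, z⁻¹ * ψ (el [l]) * z = ψ (el (D.sig.get l))
  rel : ∀ r ∈ D.rots, itemsV ψ z (headW r) = 1
  def_ : ∀ d ∈ D.defs, x d.1 = x d.2.1 * ψ (el d.2.2) * z

variable {ψ z x}

theorem el_append (u v : List ℕ) : el (u ++ v) = el u * el v := wv_append _ u v

theorem itemsV_append (a b : List (Option (List ℕ))) : itemsV ψ z (a ++ b) = itemsV ψ z a * itemsV ψ z b := by
  simp [itemsV]

theorem itemsV_eq_of_itemsEq : ∀ {a b : List (Option (List ℕ))}, itemsEq a b = true →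
    itemsV ψ z a = itemsV ψ z b
  | [], [], _ => rfl
  | none :: a, none :: b, h => by
    have := itemsV_eq_of_itemsEq (a := a) (b := b) h
    simp only [itemsV, List.map_cons, List.prod_cons] at this ⊢
    rw [this]
  | some v :: a, some w :: b, h => by
    simp only [itemsEq, Bool.and_eq_true] at h
    have := itemsV_eq_of_itemsEq (a := a) (b := b) h.2
    simp only [itemsV, List.map_cons, List.prod_cons] at this ⊢
    rw [this]
    simp only [itemV, eq_of_sameW h.1]
  | [], none :: _, h => by simp [itemsEq] at h
  | [], some _ :: _, h => by simp [itemsEq] at h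
  | none :: _, [], h => by simp [itemsEq] at h
  | some _ :: _, [], h => by simp [itemsEq] at h
  | none :: _, some _ :: _, h => by simp [itemsEq] at h
  | some _ :: _, none :: _, h => by simp [itemsEq] at h

theorem inKLets_spec {w : List ℕ} (h : inKLets w = true) : ∀ l ∈ w, l ∈ kLets := fun l hl => by
  have := List.all_eq_true.1 h l hl
  simp only [List.any_eq_true, Nat.beq_eq] at this
  obtain ⟨y, hy, rfl⟩ := this
  exact hy

variable (R : DRules ψ z x D)

include R

theorem conj_sigW : ∀ {w : List ℕ}, (∀ l ∈ w, l ∈ kLets) → z⁻¹ * ψ (el w) * z = ψ (el (sigW D w))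
  | [], _ => by simp [sigW]
  | l :: w, h => by
    show _ = ψ (el (D.sig.get l ++ sigW D w))
    rw [show l :: w = [l] ++ w from rfl, el_append, el_append, map_mul, map_mul,
      ← R.conj l (h l List.mem_cons_self), ← conj_sigW fun y hy => h y (List.mem_cons_of_mem _ hy)]
    group

theorem moveStep_sound {n : ℕ} {m : List ℕ} {st st' : DSt} (hF : ∀ k < n, Holds ψ z x D k)
    (h : moveStep D n st m = some st') {base : G} (hv : st.val ψ x = base * itemsV ψ z st.W) :
    st'.val ψ x = base * itemsV ψ z st'.W := by
  simp only [DSt.val] at hv ⊢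
  unfold moveStep at h
  split at h
  · obtain rfl := Option.some.inj h
    rw [el_append, map_mul, itemsV_append, ← mul_assoc, hv]
    simp [itemsV, itemV, mul_assoc]
  · cases hk : Nat.beq st.k 0 with
    | false => simp [hk] at h
    | true =>
      simp only [hk, cond_true, Option.some.injEq] at h
      subst h
      rw [Nat.eq_of_beq_eq_true hk] at hv
      rw [R.x0, mul_one] at hv
      simp [el_append, R.x0, hv]
  · rename_i m rev
    simp only at h
    cases hc : (Nat.blt m n && Nat.beq (D.fact m).e 0) with
    | false => simp [hc] at h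
    | true =>
      simp only [hc, cond_true] at h
      simp only [Bool.and_eq_true, Nat.blt_eq, Nat.beq_eq] at hc
      have hf := hF m hc.1
      simp only [Holds, hc.2, pow_zero, mul_one] at hf
      cases hr : Nat.beq rev 0 with
      | true =>
        simp only [hr, cond_true] at h
        cases hk : Nat.beq st.k (D.fact m).i with
        | false => simp [hk] at h
        | true =>
          simp only [hk, cond_true, Option.some.injEq] at h
          subst h
          rw [Nat.eq_of_beq_eq_true hk] at hv
          simp only [el_append, el_invL, map_mul, map_inv]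
          rw [← hv]
          calc _ = ψ (el st.A) * (ψ (el (D.fact m).A) * x (D.fact m).j * ψ (el (D.fact m).v)) *
                (ψ (el (D.fact m).u))⁻¹ * ψ (el st.u) := by group
            _ = _ := by rw [← hf]; group
      | false =>
        simp only [hr, cond_false] at h
        cases hk : Nat.beq st.k (D.fact m).j with
        | false => simp [hk] at h
        | true =>
          simp only [hk, cond_true, Option.some.injEq] at h
          subst h
          rw [Nat.eq_of_beq_eq_true hk] at hv
          simp only [el_append, el_invL, map_mul, map_inv]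
          rw [← hv]
          calc _ = ψ (el st.A) * (ψ (el (D.fact m).A))⁻¹ * (x (D.fact m).i * ψ (el (D.fact m).u)) *
                (ψ (el (D.fact m).v))⁻¹ * ψ (el st.u) := by group
            _ = _ := by rw [hf]; group
  · rename_i m c
    simp only at h
    cases hc : (Nat.blt m n && Nat.beq (D.fact m).e 1 && Nat.beq st.k (D.fact m).i && inKLets c &&
        sameW ((D.fact m).u ++ c) st.u) with
    | false => simp [hc] at h
    | true =>
      simp only [hc, cond_true, Option.some.injEq] at h
      subst h
      simp only [Bool.and_eq_true, Nat.blt_eq, Nat.beq_eq] at hc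
      obtain ⟨⟨⟨⟨hm, he⟩, hk⟩, hK⟩, hu⟩ := hc
      have hf := hF m hm
      simp only [Holds, he, pow_one] at hf
      rw [hk, ← eq_of_sameW hu, el_append, map_mul] at hv
      have hs := conj_sigW R (inKLets_spec hK)
      rw [itemsV_append, ← mul_assoc base, ← hv, el_append, el_append, map_mul, map_mul,
        show itemsV ψ z [none] = z by simp [itemsV, itemV], ← hs]
      calc _ = ψ (el st.A) * (ψ (el (D.fact m).A) * x (D.fact m).j * ψ (el (D.fact m).v)) *
            z⁻¹ * ψ (el c) * z := by group
        _ = _ := by rw [← hf]; group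
  · simp at h

theorem runMoves_sound {n : ℕ} (hF : ∀ k < n, Holds ψ z x D k) {base : G} :
    ∀ (l : List (List ℕ)) {st st' : DSt}, runMoves D n l st = some st' →
      st.val ψ x = base * itemsV ψ z st.W → st'.val ψ x = base * itemsV ψ z st'.W := by
  intro l
  induction l with
  | nil => intro st st' h hv; obtain rfl := Option.some.inj h; exact hv
  | cons m l ih =>
    intro st st' h hv
    simp only [runMoves] at h
    cases hs : moveStep D n st m with
    | none => simp [hs] at h
    | some s =>
      simp only [hs] at h
      exact ih h (moveStep_sound R hF hs hv)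

theorem z_inv : z⁻¹ = z * ψ (el (invL wU)) := by
  rw [el_invL, map_inv, ← R.zz]; group

theorem head_mul_tail : ∀ {l : List (List ℕ)}, l ≠ [] →
    itemsV ψ z (headW l) = z * (itemsV ψ z (tailW l))⁻¹
  | [], h => absurd rfl h
  | [h], _ => by
    simp [headW, tailW, itemsV, itemV, el_invL]
  | h :: h' :: l, _ => by
    have ih := head_mul_tail (l := h' :: l) (by simp)
    show itemsV ψ z (none :: some h :: headW (h' :: l)) = _
    rw [show tailW (h :: h' :: l) = tailW (h' :: l) ++ [none, some (invL wU), some (invL h)] from rfl,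
      show none :: some h :: headW (h' :: l) = [none, some h] ++ headW (h' :: l) from rfl,
      itemsV_append, itemsV_append, ih]
    simp only [itemsV, itemV, List.map_cons, List.map_nil, List.prod_cons, List.prod_nil, mul_one,
      el_invL, map_inv]
    rw [← R.zz]
    group

theorem okFact_sound {n : ℕ} (h : okFact D n = true) (hF : ∀ k < n, Holds ψ z x D k) :
    Holds ψ z x D n := by
  simp only [Holds]
  simp only [okFact] at h
  set f := D.fact n
  split at h
  · simp only [Bool.and_eq_true, Nat.beq_eq, List.any_eq_true] at h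
    obtain ⟨⟨⟨he, hA⟩, hv⟩, d, hd, ⟨hj, hi⟩, hu⟩ := h
    rw [he, pow_one, eq_of_sameW hA, eq_of_sameW hv, ← eq_of_wordEq hu, ← hi, ← hj]
    simp [R.def_ d hd]
  · rename_i m _
    simp only [Bool.and_eq_true, Bool.or_eq_true, Nat.beq_eq, Nat.blt_eq] at h
    obtain ⟨⟨⟨⟨⟨⟨hm, he⟩, he'⟩, hi⟩, hj⟩, hu⟩, hAv⟩ := h
    have hf := hF m hm
    simp only [Holds, he', pow_one] at hf
    have key : ψ (el f.A) * x f.j * ψ (el f.v) =
        (ψ (el (D.fact m).A))⁻¹ * x (D.fact m).i * ψ (el ((D.fact m).u ++ wU)) := by
      rcases hAv with ⟨hA, hv⟩ | ⟨⟨hj0, hA⟩, hv⟩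
      · rw [eq_of_sameW hA, eq_of_sameW hv, hj, el_invL, map_inv]
      · rw [eq_of_sameW hA, eq_of_sameW hv, ← hj, hj0, R.x0, mul_one, el_append, el_append, el_invL,
          el_append]
        simp [mul_assoc]
    rw [key, he, hi, eq_of_sameW hu, pow_one, el_append, map_mul, ← R.zz]
    calc x (D.fact m).j * ψ (el (D.fact m).v) * z
        = (ψ (el (D.fact m).A))⁻¹ * (ψ (el (D.fact m).A) * x (D.fact m).j * ψ (el (D.fact m).v)) * z := by
          group
      _ = _ := by rw [← hf]; group
  · rename_i l _
    simp only [Bool.and_eq_true, Nat.beq_eq] at h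
    obtain ⟨⟨⟨⟨⟨⟨hl, he⟩, hi⟩, hj⟩, hu⟩, hv⟩, hA⟩ := h
    rw [he, hi, hj, eq_of_sameW hu, eq_of_sameW hv, eq_of_sameW hA, R.x1, el_append, el_append, map_mul,
      map_mul, el_invL, map_inv, ← conj_sigW R (inKLets_spec hl), ← R.zz]
    simp [mul_assoc]
  · rename_i mv _
    cases hr : runMoves D n mv ⟨[], f.i, f.u, []⟩ with
    | none => simp [hr] at h
    | some st =>
      simp only [hr, Bool.and_eq_true, Bool.or_eq_true, Nat.beq_eq] at h
      obtain ⟨⟨⟨hcase, hj⟩, hA⟩, hv⟩ := h
      have key := runMoves_sound R hF (base := x f.i * ψ (el f.u)) mv hr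
        (by simp [DSt.val, itemsV])
      simp only [DSt.val] at key
      rw [← eq_of_sameW hA, ← eq_of_sameW hv, ← hj] at key
      rcases hcase with ⟨he, hW⟩ | ⟨he, hW⟩
      · rw [he, key, itemsV_eq_of_itemsEq hW]; simp [itemsV]
      · rw [he, key, itemsV_eq_of_itemsEq hW]; simp [itemsV, itemV]
  · rename_i i0 len q a h0 mv _
    cases h1 : runMoves D n (mv.take len) ⟨[], i0, h0, []⟩ with
    | none => simp [h1] at h
    | some s₁ =>
      cases h2 : runMoves D n (mv.drop len) ⟨[], i0, h0, []⟩ with
      | none => simp [h1, h2] at h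
      | some s₂ =>
        simp only [h1, h2, Bool.and_eq_true, Bool.or_eq_true, Nat.beq_eq, Nat.blt_eq] at h
        obtain ⟨⟨⟨⟨⟨hi, hj⟩, hu⟩, hv⟩, hA⟩, hcase⟩ := h
        have k1 := runMoves_sound R hF (base := x i0 * ψ (el h0)) _ h1 (by simp [DSt.val, itemsV])
        have k2 := runMoves_sound R hF (base := x i0 * ψ (el h0)) _ h2 (by simp [DSt.val, itemsV])
        simp only [DSt.val] at k1 k2
        rw [← hi, ← eq_of_sameW hu] at k1
        rw [← hj, ← eq_of_sameW hv] at k2
        rw [eq_of_sameW hA, el_append, el_invL, map_mul, map_inv]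
        rw [mul_assoc _ (x f.j), mul_assoc _ (ψ (el s₂.A)), ← mul_assoc (ψ (el s₂.A)), k2,
          eq_inv_mul_iff_mul_eq, ← mul_assoc, ← mul_assoc, k1]
        set r := D.rots.getD q [] with hrdef
        rcases hcase with (⟨he, hW⟩ | ⟨⟨he, hW1⟩, hW2⟩) | ⟨⟨⟨he, ha⟩, hW1⟩, hW2⟩
        · rw [he, itemsV_eq_of_itemsEq hW]; simp
        · rw [he, itemsV_eq_of_itemsEq hW1, itemsV_eq_of_itemsEq hW2]
          have hr1 : itemsV ψ z (headW r) = 1 := by
            rw [hrdef, List.getD_eq_getElem?_getD]
            cases hq : D.rots[q]? with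
            | none => simp [headW, itemsV]
            | some w => exact R.rel w (List.mem_of_getElem? hq)
          rw [hr1]; simp [itemsV]
        · rw [he, pow_one, itemsV_eq_of_itemsEq hW1, itemsV_eq_of_itemsEq hW2]
          have hr1 : itemsV ψ z (headW r) = 1 := by
            rw [hrdef, List.getD_eq_getElem?_getD]
            cases hq : D.rots[q]? with
            | none => simp [headW, itemsV]
            | some w => exact R.rel w (List.mem_of_getElem? hq)
          have hsplit : headW r = headW (r.take a) ++ headW (r.drop a) := by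
            conv_lhs => rw [← List.take_append_drop a r]
            generalize r.take a = p
            induction p with
            | nil => rfl
            | cons y p ihp => simp [headW, ihp]
          have hne : r.drop a ≠ [] := by simp [List.drop_eq_nil_iff]; omega
          rw [hsplit, itemsV_append, head_mul_tail R hne, ← mul_assoc, mul_inv_eq_one] at hr1
          rw [← hr1]
          simp [mul_assoc]
  · simp at h

end

end Cfsg.Agent.Lyons
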