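import Cfsg.Agent.Lib.Lyons.G2Five

/-!
Normal forms in the presented Lyons group: every word in the letters `0, …, 23` is brought to the form
`ψ A * x k * ψ u` by the checked moves, so that equalities of words are decided by the kernel.
-/

set_option autoImplicit false
set_option maxRecDepth 100000
set_option linter.style.haveILetI false

namespace Cfsg.Agent.Lyons

open Cfsg.Agent.CosetCert

noncomputable section

/-- The coverage tree of a node. -/
def treeCov : ℕ → Orb
  | 1 => CoverData.cov1
  | 2 => CoverData.cov2
  | 3 => CoverData.cov3
  | _ => CoverData.cov4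

/-- The edges of a node. -/
def treeEdges : ℕ → List ℕ
  | 1 => CoverData.edges1
  | 2 => CoverData.edges2
  | 3 => CoverData.edges3
  | _ => CoverData.edges4

/-- The stabiliser facts of a node. -/
def treeStab : ℕ → List ℕ
  | 1 => CoverData.stab1
  | 2 => CoverData.stab2
  | 3 => CoverData.stab3
  | _ => CoverData.stab4

/-- The moves climbing a coverage tree from place `j`, and the edge reached. -/
def climb (O : Orb) (edges stab : List ℕ) : ℕ → ℕ → List (List ℕ) × ℕ
  | 0, j => ([], j)
  | f + 1, j => force j fun j => bif Nat.blt j edges.length then ([], j) else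
      force (O.gen.get j) fun g =>
      let r := climb O edges stab f (O.par.get j)
      ([2, getN stab g, 0] :: r.1, r.2)

/-- The word from the root of an orbit to its place `j`. -/
def orbPath (O : Orb) : ℕ → ℕ → List ℕ
  | 0, _ => []
  | f + 1, j => force j fun j => bif Nat.beq j 0 then [] else orbPath O f (O.par.get j) ++ getW O.ws (O.gen.get j)

/-- An element of the conjugated subgroup as a word in its letters. -/
def kWord (t : List ℕ) : List ℕ :=
  let p1 := orbPath OrbData.kOne 64 (OrbData.kOne.idx.get (actW t 11120))
  let p2 := orbPath OrbData.kTwo 64 (OrbData.kTwo.idx.get (actW (t ++ invL p1) 15658))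
  p2 ++ p1

/-- Multiply a state by `z`. -/
def zStep (s : DSt) : Option DSt :=
  let s0 : DSt := ⟨s.A, s.k, s.u, []⟩
  let r : Option DSt :=
    bif Nat.beq s.k 0 then runMoves FactData.data 95 [[1], [3, 0]] s0 else
      let O := treeCov s.k
      let c := climb O (treeEdges s.k) (treeStab s.k) 64 (O.idx.get (actW (invL s.u) 0))
      match runMoves FactData.data 95 c.1 s0 with
      | some t =>
        let m := getN (treeEdges s.k) c.2
        moveStep FactData.data 95 t (3 :: m :: kWord (invL (FactData.data.fact m).u ++ t.u))
      | none => none
  match r with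
  | some t => bif itemsEq t.W [none] then some t else none
  | none => none

/-- Multiply a state by a letter. -/
def nfStep (s : DSt) (l : ℕ) : Option DSt :=
  bif Nat.blt l 22 then some ⟨s.A, s.k, s.u ++ [l], []⟩
  else bif Nat.beq l 22 then zStep s
  else bif Nat.beq l 23 then
    match zStep s with
    | some t => some ⟨t.A, t.k, t.u ++ invL wU, []⟩
    | none => none
  else none

/-- The short word with given images of the three base points. -/
def shortW (q0 q1 q2 : ℕ) : List ℕ :=
  let p := orbPath OrbData.top 64 (OrbData.top.idx.get q0)
  let p1 := orbPath OrbData.kOne 64 (OrbData.kOne.idx.get (actW (invL p) q1))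
  let p2 := orbPath OrbData.kTwo 64 (OrbData.kTwo.idx.get (actW (invL p1) (actW (invL p) q2)))
  p2 ++ p1 ++ p

/-- Pass on a shorter equal word. -/
def compress {α : Type} (w : List ℕ) (k : Option (List ℕ) → α) : α :=
  force (actW w 0) fun q0 => force (actW w 11120) fun q1 => force (actW w 15658) fun q2 =>
    bif sameW (shortW q0 q1 q2) w then k (some (shortW q0 q1 q2)) else k none

theorem compress_eq {α : Type} (w : List ℕ) (k : Option (List ℕ) → α) :
    compress w k = k none ∨ ∃ c, el c = el w ∧ compress w k = k (some c) := by
  simp only [compress, force_eq]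
  cases h : sameW (shortW (actW w 0) (actW w 11120) (actW w 15658)) w with
  | false => exact Or.inl rfl
  | true => exact Or.inr ⟨_, eq_of_sameW h, rfl⟩

/-- Evaluate a state, with short words, before it is passed on. -/
def canonSt (s : DSt) (k : DSt → Option DSt) : Option DSt :=
  compress s.A fun a => match a with
    | none => none
    | some a => compress s.u fun u => match u with
      | none => none
      | some u => force s.k fun j => k ⟨a, j, u, []⟩

/-- The value of a state in the presented group. -/
def sval (s : DSt) : LyG := s.val psiLy xLy

theorem canonSt_spec {s t : DSt} {k : DSt → Option DSt} (h : canonSt s k = some t) :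
    ∃ s' : DSt, sval s' = sval s ∧ k s' = some t := by
  unfold canonSt at h
  rcases compress_eq s.A (fun a => match a with
    | none => none
    | some a => compress s.u fun u => match u with
      | none => none
      | some u => force s.k fun j => k ⟨a, j, u, []⟩) with e | ⟨a, ha, e⟩
  · rw [e] at h; simp at h
  rw [e] at h
  rcases compress_eq s.u (fun u => match u with
      | none => none
      | some u => force s.k fun j => k ⟨a, j, u, []⟩) with e' | ⟨u, hu, e'⟩
  · simp only at h; rw [e'] at h; simp at h
  simp only at h
  rw [e'] at h
  simp only [force_eq] at h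
  exact ⟨_, by simp [sval, DSt.val, ha, hu], h⟩

/-- Multiply a state by a word. -/
def nfFrom : List ℕ → DSt → Option DSt
  | [], s => some s
  | l :: w, s =>
    match nfStep s l with
    | some t =>
      bif Nat.blt l 22 then nfFrom w t else canonSt t (nfFrom w)
    | none => none

/-- The normal form of a word. -/
def nf (w : List ℕ) : Option DSt := nfFrom w ⟨[], 0, [], []⟩

/-- The word is trivial in the presented group. -/
def isOne (w : List ℕ) : Bool :=
  match nf w with
  | some s => Nat.beq s.k 0 && sameW (s.A ++ s.u) []
  | none => false

/-- The word has normal form at the node `k`. -/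
def atNode (w : List ℕ) (k : ℕ) : Bool :=
  match nf w with
  | some s => Nat.beq s.k k
  | none => false

theorem holds_ly : ∀ n < 95, Holds psiLy zLy xLy FactData.data n := holds_all dRules_ly

theorem sval_append (s : DSt) (w : List ℕ) :
    sval ⟨s.A, s.k, s.u ++ w, []⟩ = sval s * psiLy (el w) := by
  simp [sval, DSt.val, el_append, mul_assoc]

theorem zStep_sound {s t : DSt} (h : zStep s = some t) : sval t = sval s * zLy := by
  have key : ∀ {l : List (List ℕ)} {a b : DSt}, runMoves FactData.data 95 l a = some b →
      a.val psiLy xLy = sval s * itemsV psiLy zLy a.W → b.val psiLy xLy = sval s * itemsV psiLy zLy b.W :=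
    fun {l a b} hl hv => runMoves_sound dRules_ly holds_ly l hl hv
  have h0 : (⟨s.A, s.k, s.u, []⟩ : DSt).val psiLy xLy = sval s * itemsV psiLy zLy ([] : List (Option (List ℕ))) := by
    simp [sval, DSt.val, itemsV]
  have fin : ∀ {b : DSt}, b.val psiLy xLy = sval s * itemsV psiLy zLy b.W →
      (bif itemsEq b.W [none] then some b else none) = some t → sval t = sval s * zLy := by
    intro b hb hr
    cases hW : itemsEq b.W [none] with
    | false => simp [hW] at hr
    | true =>
      simp only [hW, cond_true, Option.some.injEq] at hr
      subst hr
      rw [sval, hb, itemsV_eq_of_itemsEq hW]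
      simp [itemsV, itemV]
  simp only [zStep] at h
  cases hk : Nat.beq s.k 0 with
  | true =>
    simp only [hk, cond_true] at h
    cases hr : runMoves FactData.data 95 [[1], [3, 0]] ⟨s.A, s.k, s.u, []⟩ with
    | none => simp [hr] at h
    | some b => simp only [hr] at h; exact fin (key hr h0) h
  | false =>
    simp only [hk, cond_false] at h
    split at h
    · rename_i b hb
      split at hb
      · rename_i a ha
        exact fin (moveStep_sound dRules_ly holds_ly hb (key ha h0)) h
      · simp at hb
    · simp at h

theorem nfStep_sound {s t : DSt} {l : ℕ} (h : nfStep s l = some t) :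
    sval t = sval s * lt' lyGen l := by
  simp only [nfStep] at h
  cases hl : Nat.blt l 22 with
  | true =>
    simp only [hl, cond_true, Option.some.injEq] at h
    subst h
    have hok : letOK [l] = true := by simp [letOK, hl]
    rw [sval_append, psiLy_el hok]
    simp [wv]
  | false =>
    simp only [hl, cond_false] at h
    cases h2 : Nat.beq l 22 with
    | true =>
      simp only [h2, cond_true] at h
      rw [zStep_sound h, Nat.eq_of_beq_eq_true h2]
      simp [lt', zLy]
    | false =>
      simp only [h2, cond_false] at h
      cases h3 : Nat.beq l 23 with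
      | false => simp [h3] at h
      | true =>
        simp only [h3, cond_true] at h
        split at h
        · rename_i b hb
          simp only [Option.some.injEq] at h
          subst h
          rw [sval_append, zStep_sound hb, mul_assoc, Nat.eq_of_beq_eq_true h3, el_invL, map_inv, ← zz_ly]
          simp [lt', zLy]
        · simp at h

theorem nfFrom_sound : ∀ {w : List ℕ} {s t : DSt}, nfFrom w s = some t → sval t = sval s * wv lyGen w
  | [], s, t, h => by obtain rfl := Option.some.inj h; simp
  | l :: w, s, t, h => by
    simp only [nfFrom] at h
    cases hl : nfStep s l with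
    | none => simp [hl] at h
    | some b =>
      simp only [hl] at h
      cases hlt : Nat.blt l 22 with
      | true =>
        simp only [hlt, cond_true] at h
        rw [nfFrom_sound h, nfStep_sound hl, wv_cons, mul_assoc]
      | false =>
        simp only [hlt, cond_false] at h
        obtain ⟨b', hb, h⟩ := canonSt_spec h
        rw [nfFrom_sound h, hb, nfStep_sound hl, wv_cons, mul_assoc]

theorem nf_sound {w : List ℕ} {s : DSt} (h : nf w = some s) : wv lyGen w = sval s := by
  rw [nfFrom_sound h]
  simp [sval, DSt.val, dRules_ly.x0]

theorem wv_eq_one_of_isOne {w : List ℕ} (h : isOne w = true) : wv lyGen w = 1 := by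
  unfold isOne at h
  split at h
  · rename_i s hs
    simp only [Bool.and_eq_true, Nat.beq_eq] at h
    rw [nf_sound hs, sval, DSt.val, h.1, dRules_ly.x0, mul_one, ← map_mul, ← el_append, eq_of_sameW h.2]
    simp
  · exact absurd h (by simp)

theorem exists_of_atNode {w : List ℕ} {k : ℕ} (h : atNode w k = true) :
    ∃ a b : H0, wv lyGen w = psiLy a * xLy k * psiLy b := by
  unfold atNode at h
  split at h
  · rename_i s hs
    exact ⟨el s.A, el s.u, by rw [nf_sound hs, sval, DSt.val, Nat.eq_of_beq_eq_true h]⟩
  · exact absurd h (by simp)

theorem wv_notMem_range {w : List ℕ} {k : ℕ} (h : atNode w k = true) (hx : xLy k ∉ psiLy.range) :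
    wv lyGen w ∉ psiLy.range := by
  obtain ⟨a, b, e⟩ := exists_of_atNode h
  rw [e]
  intro hm
  apply hx
  have h2 := psiLy.range.mul_mem (psiLy.range.mul_mem (psiLy.range.inv_mem ⟨a, rfl⟩) hm)
    (psiLy.range.inv_mem ⟨b, rfl⟩)
  simpa [mul_assoc] using h2

end

end Cfsg.Agent.Lyons
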