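import Cfsg.Agent.Lib.Lyons.FactData

/-! Kernel check of the deductions. -/

set_option autoImplicit false
set_option maxRecDepth 100000
set_option maxHeartbeats 0

namespace Cfsg.Agent.Lyons

open Cfsg.Agent.CosetCert

theorem factsOK : allBelow (okFact FactData.data) 95 = true := by decide +kernel

/-- In any group satisfying the rules, all facts hold. -/
theorem holds_all {G : Type*} [Group G] {ψ : H0 →* G} {z : G} {x : ℕ → G}
    (R : DRules ψ z x FactData.data) : ∀ n < 95, Holds ψ z x FactData.data n := by
  intro n
  induction n using Nat.strong_induction_on with
  | _ n ih => exact fun hn => okFact_sound R (allBelow_spec factsOK hn) fun k hk => ih k hk (hk.trans hn)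

end Cfsg.Agent.Lyons
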