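import Cfsg.Agent.Lib.Lyons.CentCheck

/-! Words and checks for the 2-fusion of the presented Lyons group. -/

set_option autoImplicit false
set_option maxRecDepth 100000
set_option maxHeartbeats 0

namespace Cfsg.Agent.Lyons

open Cfsg.Agent.CosetCert

noncomputable section

namespace FusData

/-- Numbers of three-cycles with product the central involution of a Sylow 2-subgroup. -/
def aIdx : List ℕ := [0, 2, 1, 3, 0, 2, 4, 6, 5, 7, 4, 6]

/-- Numbers of three-cycles with product a further element of it. -/
def uIdx : List ℕ := [0, 1, 2, 3, 0, 1]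

/-- A conjugating element. -/
def gW : List ℕ := [21, 13, 0, 18, 15, 6, 11, 13, 8, 4, 22, 11, 4, 20, 15, 6, 5, 21, 12, 2, 22, 21, 15, 17, 1, 15, 2, 6, 4, 12, 15, 7]

/-- Its inverse. -/
def gInv : List ℕ := [6, 14, 13, 5, 7, 3, 14, 0, 16, 14, 20, 23, 3, 13, 20, 4, 7, 14, 21, 5, 10, 23, 5, 9, 12, 10, 7, 14, 19, 1, 12, 20]

/-- The lift of a product of three-cycles. -/
def liftW (ix : List ℕ) : List ℕ := ix.flatMap cycW

end FusData

open FusData

theorem fusWords_ok : (isOne (gW ++ gInv) && isOne (gW ++ CentData.invWord ++ gInv ++ liftW aIdx)) = true := by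
  decide +kernel

theorem fusComm_ok : (isOne (liftW uIdx ++ liftW uIdx ++ CentData.invWord) &&
    isOne (liftW aIdx ++ liftW uIdx ++ liftW aIdx ++ liftW uIdx)) = true := by
  decide +kernel

end

end Cfsg.Agent.Lyons
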