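import Mathlib.GroupTheory.SpecificGroups.Alternating
import Mathlib.Tactic.FinCases
import Mathlib.Data.List.GetD

/-!
A Sylow 2-subgroup of the alternating group of degree eleven: order 128, centre of order two, generated by three
conjugates of the central involution, self-normalising.
-/

set_option autoImplicit false
set_option maxRecDepth 100000
set_option maxHeartbeats 0

namespace Cfsg.Agent.Lyons.SylA11

open Equiv

/-- The seven basic elements. -/
def base : List (Perm (Fin 11)) :=
  [swap 0 1 * swap 2 3, swap 0 1 * swap 4 5, swap 0 1 * swap 6 7, swap 0 1 * swap 8 9,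
    swap 2 4 * swap 3 5, swap 6 8 * swap 7 9, swap 2 6 * swap 3 7 * (swap 4 8 * swap 5 9)]

/-- Element number `i`. -/
def el (i : Fin 128) : Perm (Fin 11) :=
  ((List.range 7).map fun k => if i.1 / 2 ^ k % 2 = 1 then base.getD k 1 else 1).prod

/-- The central involution. -/
def zP : Perm (Fin 11) := swap 2 3 * swap 4 5 * (swap 6 7 * swap 8 9)

/-- An element whose lift does not commute with that of the central involution. -/
def uP : Perm (Fin 11) := swap 2 4 * swap 3 5

/-- Three conjugates of the central involution. -/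
def gens : List (Perm (Fin 11)) :=
  [swap 2 3 * swap 4 5 * (swap 6 7 * swap 0 1), swap 2 4 * swap 3 5 * (swap 6 7 * swap 8 9),
    swap 2 6 * swap 3 7 * (swap 4 8 * swap 5 9)]

/-- Conjugating elements from the central involution to the three generators. -/
def conjs : List (Perm (Fin 11)) :=
  [swap 8 0 * swap 9 1, swap 3 4 * swap 6 7, swap 3 6 * swap 6 4 * (swap 5 7 * swap 7 8)]

/-- The images as a number. -/
def code (σ : Perm (Fin 11)) : ℕ := (List.finRange 11).foldr (fun x c => (σ x).1 + 16 * c) 0

theorem code_inj {σ τ : Perm (Fin 11)} (h : code σ = code τ) : σ = τ := by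
  have aux : ∀ (l : List (Fin 11)), (l.foldr (fun x c => (σ x).1 + 16 * c) 0 = l.foldr (fun x c => (τ x).1 + 16 * c) 0) →
      ∀ x ∈ l, σ x = τ x := by
    intro l
    induction l with
    | nil => simp
    | cons a l ih =>
      intro e x hx
      simp only [List.foldr_cons] at e
      have ha := (σ a).2
      have hb := (τ a).2
      rcases List.mem_cons.1 hx with rfl | hx
      · exact Fin.ext (by omega)
      · exact ih (by omega) x hx
  exact Equiv.ext fun x => aux _ h x (List.mem_finRange x)

/-- The number is that of an element of the list. -/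
def inP (c : ℕ) : Bool := (List.finRange 128).any fun i => Nat.beq (code (el i)) c

theorem inP_spec {σ : Perm (Fin 11)} : inP (code σ) = true ↔ ∃ i, el i = σ := by
  simp only [inP, List.any_eq_true, Nat.beq_eq]
  exact ⟨fun ⟨i, _, h⟩ => ⟨i, code_inj h⟩, fun ⟨i, h⟩ => ⟨i, List.mem_finRange i, by rw [h]⟩⟩

theorem el_zero : el 0 = 1 := Equiv.ext (by decide +kernel)

theorem closed_ok : (gens.all fun g => (List.finRange 128).all fun i => inP (code (g * el i))) = true := by
  decide +kernel

theorem codes_nodup : ((List.finRange 128).map fun i => code (el i)).Nodup := by decide +kernel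

theorem base_ok : (base.all fun b => inP (code b)) = true := by decide +kernel

/-- The basic elements as products of the generators. -/
def baseWords : List (List ℕ) := [[2, 1, 2, 0, 2, 1, 0, 2, 0], [2, 1, 2, 1, 0, 2, 1, 0, 2, 1, 0], [2, 0, 2, 1, 2, 0, 2, 1, 0], [2, 1, 0, 2, 1, 0, 2, 1, 0, 2, 1], [2, 1, 2, 0, 2, 1, 2, 1, 0], [2, 0, 2, 1, 2, 1, 0, 2, 1], [2]]

theorem tree_ok : base.map code = baseWords.map (fun w => code (w.map fun k => gens.getD k 1).prod) := by
  decide +kernel

theorem centre_ok : ((List.finRange 128).all fun i => Nat.beq (code (el i)) (code 1) || Nat.beq (code (el i)) (code zP) ||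
    gens.any fun g => !Nat.beq (code (g * el i)) (code (el i * g))) = true := by decide +kernel

theorem conj_ok : ∀ k < 3, code (conjs.getD k 1 * zP * (conjs.getD k 1)⁻¹) = code (gens.getD k 1) := by
  decide +kernel

theorem conjs_sign : ∀ k < 3, Perm.sign (conjs.getD k 1) = 1 := by decide +kernel

theorem gens_sign : ∀ k < 3, Perm.sign (gens.getD k 1) = 1 := by decide +kernel

theorem zP_mem : inP (code zP) = true := by decide +kernel

theorem uP_mem : inP (code uP) = true := by decide +kernel

/-- The point is moved by the central involution. -/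
def moved (a : Fin 11) : Bool := !Nat.beq (zP a).1 a.1

/-- Two points lying in one block of four. -/
def mate (a b : Fin 11) : Bool :=
  moved b && !Nat.beq b.1 a.1 && !Nat.beq b.1 (zP a).1 && inP (code (swap a b * swap (zP a) (zP b)))

/-- Any four points placed as `2, 4, 6, 8` are. -/
def frameCheck : Bool :=
  (List.finRange 11).all fun a => !moved a || (List.finRange 11).all fun b => !mate a b ||
    (List.finRange 11).all fun c => !moved c || Nat.beq c.1 a.1 || Nat.beq c.1 (zP a).1 || Nat.beq c.1 b.1 ||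
      Nat.beq c.1 (zP b).1 || (List.finRange 11).all fun d => !mate c d || Nat.beq d.1 a.1 || Nat.beq d.1 (zP a).1 ||
        Nat.beq d.1 b.1 || Nat.beq d.1 (zP b).1 || (List.finRange 128).any fun i =>
          Nat.beq (el i 2).1 a.1 && Nat.beq (el i 4).1 b.1 && Nat.beq (el i 6).1 c.1 && Nat.beq (el i 8).1 d.1

theorem frame_ok : frameCheck = true := by decide +kernel

theorem rest_ok : ∀ x : Fin 11, zP x = x → (x = 0 ∨ x = 1 ∨ x = 10) := by decide +kernel

theorem commz_ok : ∀ i : Fin 128, code (el i * zP) = code (zP * el i) := by decide +kernel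

theorem fix10_ok : ∀ i : Fin 128, el i 10 = 10 := by decide +kernel

theorem only10_ok : ∀ x : Fin 11, (∀ k < 3, gens.getD k 1 x = x) → x = 10 := by decide +kernel

theorem rest_zero (q : Perm (Fin 11)) (h2 : q 2 = 2) (h3 : q 3 = 3) (h4 : q 4 = 4) (h5 : q 5 = 5) (h6 : q 6 = 6)
    (h7 : q 7 = 7) (h8 : q 8 = 8) (h9 : q 9 = 9) (h10 : q 10 = 10) (x : Fin 11) (hx : x.1 < 2) :
    q x = 0 ∨ q x = 1 := by
  by_contra hc
  rw [not_or] at hc
  have key : ∀ y : Fin 11, q y = y → q x = y → 2 ≤ y.1 → False := fun y hy e hy2 => by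
    have := q.injective (e.trans hy.symm)
    subst this
    omega
  generalize hy : q x = y at hc
  fin_cases y
  · exact hc.1 rfl
  · exact hc.2 rfl
  all_goals first
    | exact key _ h2 hy (by decide) | exact key _ h3 hy (by decide) | exact key _ h4 hy (by decide)
    | exact key _ h5 hy (by decide) | exact key _ h6 hy (by decide) | exact key _ h7 hy (by decide)
    | exact key _ h8 hy (by decide) | exact key _ h9 hy (by decide) | exact key _ h10 hy (by decide)

attribute [local irreducible] el

/-- The Sylow 2-subgroup. -/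
def P : Subgroup (Perm (Fin 11)) := Subgroup.closure {g | g ∈ gens}

theorem gen_getD_mem (k : ℕ) : gens.getD k 1 ∈ P := by
  rcases lt_or_ge k gens.length with h | h
  · rw [List.getD_eq_getElem _ _ h]
    exact Subgroup.subset_closure (List.getElem_mem h)
  · rw [List.getD_eq_default _ _ h]; exact one_mem P

theorem base_mem {b : Perm (Fin 11)} (hb : b ∈ base) : b ∈ P := by
  have h : code b ∈ base.map code := List.mem_map.2 ⟨b, hb, rfl⟩
  rw [tree_ok] at h
  obtain ⟨w, -, e⟩ := List.mem_map.1 h
  rw [← code_inj e]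
  refine P.list_prod_mem fun x hx => ?_
  obtain ⟨k, -, rfl⟩ := List.mem_map.1 hx
  exact gen_getD_mem k

theorem el_mem (i : Fin 128) : el i ∈ P := by
  rw [el]
  refine P.list_prod_mem fun x hx => ?_
  obtain ⟨k, hk, rfl⟩ := List.mem_map.1 hx
  split_ifs
  · have hk' : k < base.length := by simpa [base] using List.mem_range.1 hk
    rw [List.getD_eq_getElem _ _ hk']
    exact base_mem (List.getElem_mem hk')
  · exact one_mem P

theorem mem_P {σ : Perm (Fin 11)} : σ ∈ P ↔ ∃ i, el i = σ := by
  refine ⟨fun h => ?_, fun ⟨i, e⟩ => e ▸ el_mem i⟩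
  rw [P, ← Subgroup.mem_toSubmonoid, Subgroup.closure_toSubmonoid_of_finite] at h
  induction h using Submonoid.closure_induction_left with
  | one => exact ⟨0, el_zero⟩
  | mul_left x hx y _ ih =>
    obtain ⟨i, rfl⟩ := ih
    exact inP_spec.1 (List.all_eq_true.1 (List.all_eq_true.1 closed_ok x hx) i (List.mem_finRange i))

theorem el_injective : Function.Injective el := by
  intro i j h
  by_contra hij
  exact hij (List.inj_on_of_nodup_map codes_nodup (List.mem_finRange i) (List.mem_finRange j) (congrArg code h))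

theorem card_P : Nat.card P = 128 := by
  rw [← Nat.card_fin 128]
  refine (Nat.card_congr (Equiv.ofBijective (fun i => (⟨el i, el_mem i⟩ : P)) ⟨fun i j h => ?_, fun x => ?_⟩)).symm
  · exact el_injective (congrArg Subtype.val h)
  · obtain ⟨i, hi⟩ := mem_P.1 x.2
    exact ⟨i, Subtype.ext hi⟩

theorem P_le_alt : P ≤ alternatingGroup (Fin 11) := by
  refine (Subgroup.closure_le _).2 fun g hg => ?_
  obtain ⟨k, hk, rfl⟩ := List.getElem_of_mem hg
  rw [SetLike.mem_coe, Perm.mem_alternatingGroup, ← List.getD_eq_getElem gens 1 hk]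
  exact gens_sign k (by simpa [gens] using hk)

theorem centre {σ : Perm (Fin 11)} (hσ : σ ∈ P) (h : ∀ x ∈ P, x * σ = σ * x) : σ = 1 ∨ σ = zP := by
  obtain ⟨i, rfl⟩ := mem_P.1 hσ
  have hc := List.all_eq_true.1 centre_ok i (List.mem_finRange i)
  simp only [Bool.or_eq_true, Nat.beq_eq, List.any_eq_true, Bool.not_eq_true'] at hc
  rcases hc with (e | e) | ⟨g, hg, e⟩
  · exact Or.inl (code_inj e)
  · exact Or.inr (code_inj e)
  · rw [h g (Subgroup.subset_closure hg), Nat.beq_refl] at e
    exact Bool.noConfusion e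

theorem zP_in : zP ∈ P := mem_P.2 (inP_spec.1 zP_mem)

theorem uP_in : uP ∈ P := mem_P.2 (inP_spec.1 uP_mem)

theorem normalizer_le {n : Perm (Fin 11)} (hn : Perm.sign n = 1) (h : ∀ x ∈ P, n * x * n⁻¹ ∈ P)
    (hz : n * zP * n⁻¹ = zP) : n ∈ P := by
  have hc : ∀ x, n (zP x) = zP (n x) := fun x => by
    conv_rhs => rw [← hz]
    simp
  have hm : ∀ x, zP x ≠ x → moved (n x) = true := fun x hx => by
    rw [moved, Bool.not_eq_true', ← Bool.not_eq_true, Nat.beq_eq]
    exact fun e => hx (n.injective ((hc x).trans (Fin.ext e)))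
  have hsw : ∀ a b : Fin 11, swap a b * swap (zP a) (zP b) ∈ P → zP a ≠ a → zP b ≠ b → b ≠ a → b ≠ zP a →
      mate (n a) (n b) = true := fun a b hab ha hb h1 h2 => by
    have e : n * (swap a b * swap (zP a) (zP b)) * n⁻¹ = swap (n a) (n b) * swap (zP (n a)) (zP (n b)) := by
      rw [← hc, ← hc, Equiv.swap_apply_apply n a b, Equiv.swap_apply_apply n (zP a) (zP b)]; group
    simp only [mate, Bool.and_eq_true, Bool.not_eq_true']
    refine ⟨⟨⟨hm b hb, ?_⟩, ?_⟩, inP_spec.2 (mem_P.1 (e ▸ h _ hab))⟩
    · rw [← Bool.not_eq_true, Nat.beq_eq]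
      exact fun q => h1 (n.injective (Fin.ext q))
    · rw [← Bool.not_eq_true, Nat.beq_eq]
      exact fun q => h2 (n.injective ((Fin.ext q).trans (hc a).symm))
  have h24 : mate (n 2) (n 4) = true := hsw 2 4 (mem_P.2 (inP_spec.1 (by decide +kernel)))
    (by decide) (by decide) (by decide) (by decide)
  have h68 : mate (n 6) (n 8) = true := hsw 6 8 (mem_P.2 (inP_spec.1 (by decide +kernel)))
    (by decide) (by decide) (by decide) (by decide)
  have hne : ∀ a b : Fin 11, a ≠ b → Nat.beq (n a).1 (n b).1 = false := fun a b hab => by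
    rw [← Bool.not_eq_true, Nat.beq_eq]
    exact fun q => hab (n.injective (Fin.ext q))
  have hz2 : zP (n 2) = n 3 := (hc 2).symm.trans (congrArg n (by decide))
  have hz4 : zP (n 4) = n 5 := (hc 4).symm.trans (congrArg n (by decide))
  have hf := List.all_eq_true.1 frame_ok (n 2) (List.mem_finRange _)
  simp only [hm 2 (by decide), Bool.not_true, Bool.false_or] at hf
  have hf2 := List.all_eq_true.1 hf (n 4) (List.mem_finRange _)
  simp only [h24, Bool.not_true, Bool.false_or] at hf2
  have hf3 := List.all_eq_true.1 hf2 (n 6) (List.mem_finRange _)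
  simp only [hm 6 (by decide), Bool.not_true, Bool.false_or, hz2, hz4, hne 6 2 (by decide), hne 6 3 (by decide),
    hne 6 4 (by decide), hne 6 5 (by decide)] at hf3
  have hf4 := List.all_eq_true.1 hf3 (n 8) (List.mem_finRange _)
  simp only [h68, Bool.not_true, Bool.false_or, hne 8 2 (by decide), hne 8 3 (by decide),
    hne 8 4 (by decide), hne 8 5 (by decide), List.any_eq_true, Bool.and_eq_true, Nat.beq_eq] at hf4
  obtain ⟨i, -, ⟨⟨e2, e4⟩, e6⟩, e8⟩ := hf4
  have hiz : ∀ x, el i (zP x) = zP (el i x) := by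
    intro x
    have hcz : ∀ g ∈ P, g * zP = zP * g := by
      intro g hg
      obtain ⟨j, rfl⟩ := mem_P.1 hg
      exact code_inj (commz_ok j)
    exact Equiv.ext_iff.1 (hcz _ (el_mem i)) x
  set q := (el i)⁻¹ * n with hq
  have f2 : q 2 = 2 := Perm.inv_eq_iff_eq.2 (Fin.ext e2.symm)
  have f4 : q 4 = 4 := Perm.inv_eq_iff_eq.2 (Fin.ext e4.symm)
  have f6 : q 6 = 6 := Perm.inv_eq_iff_eq.2 (Fin.ext e6.symm)
  have f8 : q 8 = 8 := Perm.inv_eq_iff_eq.2 (Fin.ext e8.symm)
  have qc : ∀ x, q (zP x) = zP (q x) := fun x => by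
    refine Perm.inv_eq_iff_eq.2 ?_
    rw [hiz, hc]
    exact congrArg zP ((el i).apply_symm_apply (n x)).symm
  have f3 : q 3 = 3 := by rw [show (3 : Fin 11) = zP 2 by decide, qc, f2]
  have f5 : q 5 = 5 := by rw [show (5 : Fin 11) = zP 4 by decide, qc, f4]
  have f7 : q 7 = 7 := by rw [show (7 : Fin 11) = zP 6 by decide, qc, f6]
  have f9 : q 9 = 9 := by rw [show (9 : Fin 11) = zP 8 by decide, qc, f8]
  have hs : Perm.sign q = 1 := by
    rw [hq, map_mul, map_inv, Perm.mem_alternatingGroup.1 (P_le_alt (el_mem i)), hn, inv_one, one_mul]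
  have f10 : q 10 = 10 := by
    by_contra e
    -- the fixed point of the whole subgroup stays
    have hfix : ∀ x ∈ P, x (n⁻¹ 10) = n⁻¹ 10 := fun x hx' => by
      obtain ⟨j, hj⟩ := mem_P.1 (h x hx')
      have h2 : (n * x * n⁻¹) 10 = 10 := by rw [← hj]; exact fix10_ok j
      simpa [Perm.mul_apply] using congrArg ⇑(n⁻¹) h2
    have h3 : n⁻¹ 10 = 10 := only10_ok _ (fun k hk => hfix _ (gen_getD_mem k))
    apply e
    rw [hq, Perm.mul_apply]
    have : n 10 = 10 := by conv_lhs => rw [← h3]; simp
    rw [this]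
    exact Perm.inv_eq_iff_eq.2 (fix10_ok i).symm
  have hq1 : q = 1 := by
    have h0 : q 0 = 0 ∨ q 0 = 1 := rest_zero q f2 f3 f4 f5 f6 f7 f8 f9 f10 0 (by decide)
    have h1 : q 1 = 0 ∨ q 1 = 1 := rest_zero q f2 f3 f4 f5 f6 f7 f8 f9 f10 1 (by decide)
    rcases h0 with a | a
    · have b : q 1 = 1 := h1.resolve_left fun b => absurd (q.injective (a.trans b.symm)) (by decide)
      refine Equiv.ext fun x => ?_
      fin_cases x <;> assumption
    · exfalso
      have b : q 1 = 0 := h1.resolve_right fun b => absurd (q.injective (a.trans b.symm)) (by decide)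
      have : q = swap 0 1 := Equiv.ext fun x => by
        fin_cases x <;> assumption
      rw [this, Perm.sign_swap (by decide)] at hs
      exact absurd hs (by decide)
  rw [← inv_mul_eq_one.1 hq1]
  exact el_mem i

end Cfsg.Agent.Lyons.SylA11
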