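import Cfsg.Agent.Lib.Lyons.Centraliser
import Cfsg.Agent.Lib.Lyons.SylA11
import Cfsg.Agent.Lib.Lyons.FusCheck
import Cfsg.Agent.Lib.Fusion.Simple

/-!
The 2-fusion system of the presented Lyons group is simple: a Sylow 2-subgroup lies in the centraliser of an
involution, has centre of order two, is self-normalising, and every strongly closed subgroup that contains the
involution contains a conjugate outside the centre and with it everything.
-/

set_option autoImplicit false
set_option maxRecDepth 100000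
set_option linter.style.haveILetI false

namespace Cfsg.Agent.Lyons

open Cfsg Cfsg.FusionSystem Cfsg.Agent.FusionSys Cfsg.Agent.CosetCert
open Equiv

noncomputable section

theorem cycP_aIdx : (FusData.aIdx.map cycP).prod = SylA11.zP := by decide +kernel

theorem cycP_uIdx : (FusData.uIdx.map cycP).prod = SylA11.uP := by decide +kernel

/-- A nontrivial normal subgroup of a 2-group has a central element other than one. -/
theorem exists_central_of_normal {S : Type*} [Group S] [Finite S] (hS : IsPGroup 2 S) {N : Subgroup S} [N.Normal]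
    (hN : N ≠ ⊥) : ∃ z ∈ N, z ≠ 1 ∧ ∀ y : S, y * z = z * y := by
  haveI : Fact (Nat.Prime 2) := ⟨Nat.prime_two⟩
  haveI : Nontrivial N := (Subgroup.nontrivial_iff_ne_bot N).2 hN
  obtain ⟨k, hk, hcard⟩ := (hS.to_subgroup N).nontrivial_iff_card.1 inferInstance
  have hC : IsPGroup 2 (ConjAct S) := hS.of_equiv ConjAct.toConjAct
  obtain ⟨b, hb, hb1⟩ := hC.exists_fixed_point_of_prime_dvd_card_of_fixed_point N
    (hcard ▸ dvd_pow_self 2 hk.ne') (a := 1) (fun g => smul_one g)
  refine ⟨b, b.2, fun h => hb1 (Subtype.ext h).symm, fun y => ?_⟩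
  have h := congrArg Subtype.val (hb (ConjAct.toConjAct y))
  rw [ConjAct.Subgroup.val_conj_smul, ConjAct.smul_def, ConjAct.ofConjAct_toConjAct] at h
  exact mul_inv_eq_iff_eq_mul.1 h

theorem idx_lt : ∀ i ∈ FusData.aIdx ++ FusData.uIdx, i < 9 := by decide

section

variable (hne : ∃ x, psiLy x ≠ 1)

include hne

theorem exists_sylow : ∃ SS : Subgroup LyG, Nat.card SS = 256 ∧ tLy ∈ SS ∧ (∀ x ∈ SS, x * tLy = tLy * x) ∧
    (∀ x ∈ SS, (∀ y ∈ SS, x * y = y * x) → x = 1 ∨ x = tLy) ∧
    (∀ n : LyG, n * tLy = tLy * n → (∀ x ∈ SS, n * x * n⁻¹ ∈ SS) → n ∈ SS) ∧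
    ∀ T : Subgroup LyG, T ≤ SS → tLy ∈ T → (∀ g : LyG, ∀ x ∈ T, g * x * g⁻¹ ∈ SS → g * x * g⁻¹ ∈ T) → SS ≤ T := by
  classical
  set C := Subgroup.centralizer {tLy} with hC
  set tC : C := ⟨tLy, Subgroup.mem_centralizer_singleton_iff.2 rfl⟩ with htCdef
  obtain ⟨π, hπ, hker, hcyc⟩ := exists_alt_hom hne
  let ρ : C →* Perm (Fin 11) := (alternatingGroup (Fin 11)).subtype.comp π
  have hρ1 : ∀ c : C, ρ c = 1 → c = 1 ∨ c = tC := fun c hc => by
    have h : c ∈ Subgroup.zpowers tC := hker ▸ MonoidHom.mem_ker.2 (Subtype.ext hc)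
    obtain ⟨n, rfl⟩ := Subgroup.mem_zpowers_iff.1 h
    have h2 : tC ^ (2 : ℤ) = 1 := by
      rw [zpow_two]; exact Subtype.ext tLy_sq
    rcases Int.even_or_odd' n with ⟨k, rfl | rfl⟩
    · exact Or.inl (by rw [zpow_mul, h2, one_zpow])
    · exact Or.inr (by rw [zpow_add, zpow_mul, h2, one_zpow, one_mul, zpow_one])
  have hρt : ρ tC = 1 := by
    have : tC ∈ π.ker := hker ▸ Subgroup.mem_zpowers tC
    simp [ρ, MonoidHom.mem_ker.1 this]
  -- lifts of products of three-cycles
  have lift : ∀ ix : List ℕ, (∀ i ∈ ix, i < 9) →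
      ∃ c : C, (c : LyG) = wv lyGen (FusData.liftW ix) ∧ ρ c = (ix.map cycP).prod := by
    intro ix
    induction ix with
    | nil => exact fun _ => ⟨1, by simp [FusData.liftW], by simp⟩
    | cons i ix ih =>
      intro h
      obtain ⟨c, hc, hc'⟩ := ih fun j hj => h j (List.mem_cons_of_mem _ hj)
      have hi := h i List.mem_cons_self
      refine ⟨⟨_, (cyc_facts hi).2⟩ * c, ?_, ?_⟩
      · rw [Subgroup.coe_mul, hc, FusData.liftW, FusData.liftW, List.flatMap_cons, wv_append]
      · rw [map_mul, hc', List.map_cons, List.prod_cons]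
        exact congrArg (· * _) (hcyc i hi _ rfl)
  obtain ⟨A, hA, hAρ⟩ := lift FusData.aIdx fun i hi => idx_lt i (List.mem_append_left _ hi)
  obtain ⟨U, hU, hUρ⟩ := lift FusData.uIdx fun i hi => idx_lt i (List.mem_append_right _ hi)
  rw [cycP_aIdx] at hAρ
  rw [cycP_uIdx] at hUρ
  set g := wv lyGen FusData.gW with hg
  have hw := fusWords_ok
  simp only [Bool.and_eq_true] at hw
  have hgi : wv lyGen FusData.gInv = g⁻¹ := by
    refine eq_inv_of_mul_eq_one_right ?_
    rw [hg, ← wv_append]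
    exact wv_eq_one_of_isOne hw.1
  have hgA : g * tLy * g⁻¹ = A := by
    have h := wv_eq_one_of_isOne hw.2
    rw [wv_append, wv_append, wv_append, wv_invWord, hgi, ← hg, ← hA] at h
    have hsq : g * tLy * g⁻¹ * (g * tLy * g⁻¹) = 1 := by
      calc _ = g * (tLy * tLy) * g⁻¹ := by group
        _ = 1 := by rw [tLy_sq]; group
    rw [← inv_eq_of_mul_eq_one_left hsq]
    exact inv_eq_of_mul_eq_one_right h
  have hAU : A * U ≠ U * A := by
    intro e
    have hc := fusComm_ok
    simp only [Bool.and_eq_true] at hc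
    have h1 := wv_eq_one_of_isOne hc.1
    have h2 := wv_eq_one_of_isOne hc.2
    simp only [wv_append, wv_invWord, ← hA, ← hU] at h1 h2
    have eL : (A : LyG) * U = U * A := congrArg Subtype.val e
    have hAA : (A : LyG) * A = 1 := by
      rw [← hgA]
      calc _ = g * (tLy * tLy) * g⁻¹ := by group
        _ = 1 := by rw [tLy_sq]; group
    have hu : (U : LyG) * U = 1 := by
      rw [← h2]
      calc (U : LyG) * U = (A : LyG) * A * (U * U) := by rw [hAA, one_mul]
        _ = A * (A * U) * U := by simp only [mul_assoc]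
        _ = A * (U * A) * U := by rw [eL]
        _ = _ := by simp only [mul_assoc]
    rw [hu, one_mul] at h1
    exact tH_ne_one (psi_inj hne (h1.trans (map_one psiLy).symm))
  let SC : Subgroup C := SylA11.P.comap ρ
  have hmemC : ∀ {x}, x ∈ SC.map C.subtype ↔ ∃ c : C, ρ c ∈ SylA11.P ∧ (c : LyG) = x := fun {x} => by
    simp [SC, Subgroup.mem_map, Subgroup.mem_comap]
  have hsurj : ∀ σ ∈ alternatingGroup (Fin 11), ∃ c, ρ c = σ := fun σ hσ =>
    ⟨(hπ ⟨σ, hσ⟩).choose, congrArg Subtype.val (hπ ⟨σ, hσ⟩).choose_spec⟩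
  refine ⟨SC.map C.subtype, ?_, hmemC.2 ⟨tC, by rw [hρt]; exact one_mem _, rfl⟩, ?_, ?_, ?_, ?_⟩
  · rw [Subgroup.card_map_of_injective C.subtype_injective]
    have hkc : Nat.card ρ.ker = 2 := by
      have : ρ.ker = π.ker := by ext c; simp [ρ, MonoidHom.mem_ker]
      rw [this, hker, Nat.card_zpowers, ← Subgroup.orderOf_coe]
      exact orderOf_tLy hne
    haveI : Finite CosLy := index_range_le.1
    let f : SC →* SylA11.P := (ρ.comp SC.subtype).codRestrict SylA11.P fun c => c.2
    have hf : Function.Surjective f := fun σ => by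
      obtain ⟨c, hc⟩ := hsurj σ (SylA11.P_le_alt σ.2)
      exact ⟨⟨c, by refine Subgroup.mem_comap.2 ?_; rw [hc]; exact σ.2⟩, Subtype.ext hc⟩
    have hk : Nat.card f.ker = 2 := by
      rw [← hkc]
      refine Nat.card_congr ⟨fun x => ⟨x.1.1, ?_⟩, fun x => ⟨⟨x.1, ?_⟩, ?_⟩, fun x => rfl, fun x => rfl⟩
      · exact MonoidHom.mem_ker.2 (congrArg Subtype.val (MonoidHom.mem_ker.1 x.2))
      · refine Subgroup.mem_comap.2 ?_
        rw [MonoidHom.mem_ker.1 x.2]; exact one_mem _
      · exact MonoidHom.mem_ker.2 (Subtype.ext (MonoidHom.mem_ker.1 x.2))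
    have h := Subgroup.card_mul_index f.ker
    rw [Subgroup.index_ker, MonoidHom.range_eq_top.2 hf, hk, Subgroup.card_top, SylA11.card_P] at h
    exact h.symm
  · intro x hx
    obtain ⟨c, -, rfl⟩ := hmemC.1 hx
    exact Subgroup.mem_centralizer_singleton_iff.1 c.2
  · intro x hx hc
    obtain ⟨c, hcP, rfl⟩ := hmemC.1 hx
    rcases SylA11.centre hcP fun y hy => by
      obtain ⟨d, rfl⟩ := hsurj y (SylA11.P_le_alt hy)
      rw [← map_mul, ← map_mul]
      exact congrArg ρ (Subtype.ext (hc d (hmemC.2 ⟨d, hy, rfl⟩)).symm) with h | h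
    · rcases hρ1 c h with rfl | rfl
      · exact Or.inl rfl
      · exact Or.inr rfl
    · exfalso
      apply hAU
      have hcU : (c : C) * U = U * c :=
        Subtype.ext (hc U (hmemC.2 ⟨U, by rw [hUρ]; exact SylA11.uP_in, rfl⟩))
      rcases hρ1 (c⁻¹ * A) (by rw [map_mul, map_inv, h, hAρ, inv_mul_cancel]) with e | e
      · rwa [← inv_mul_eq_one.1 e]
      · have e' : A = c * tC := by rw [← e, mul_inv_cancel_left]
        have htU : tC * U = U * tC := Subtype.ext (Subgroup.mem_centralizer_singleton_iff.1 U.2).symm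
        rw [e', mul_assoc, htU, ← mul_assoc, hcU, mul_assoc]
  · intro n hn hnS
    let c : C := ⟨n, Subgroup.mem_centralizer_singleton_iff.2 hn⟩
    refine hmemC.2 ⟨c, ?_, rfl⟩
    have hcP : ∀ x ∈ SylA11.P, ρ c * x * (ρ c)⁻¹ ∈ SylA11.P := fun x hx => by
      obtain ⟨d, rfl⟩ := hsurj x (SylA11.P_le_alt hx)
      obtain ⟨d', hd', e⟩ := hmemC.1 (hnS d (hmemC.2 ⟨d, hx, rfl⟩))
      rw [← map_inv, ← map_mul, ← map_mul, show c * d * c⁻¹ = d' from Subtype.ext e.symm]
      exact hd'
    have hs : Perm.sign (ρ c) = 1 := Perm.mem_alternatingGroup.1 (π c).2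
    -- the image of the centre is fixed
    refine SylA11.normalizer_le hs hcP ?_
    have hmem := hcP _ SylA11.zP_in
    have hcen : ∀ x ∈ SylA11.P, x * (ρ c * SylA11.zP * (ρ c)⁻¹) = ρ c * SylA11.zP * (ρ c)⁻¹ * x := by
      intro x hx
      have hfin : ∃ x' ∈ SylA11.P, ρ c * x' * (ρ c)⁻¹ = x := by
        let τ : SylA11.P → SylA11.P := fun y => ⟨_, hcP y y.2⟩
        have hτ : Function.Injective τ := fun a b e => by
          have := congrArg Subtype.val e
          exact Subtype.ext (mul_left_cancel (mul_right_cancel this))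
        obtain ⟨y, hy⟩ := Finite.injective_iff_surjective.1 hτ ⟨x, hx⟩
        exact ⟨y, y.2, congrArg Subtype.val hy⟩
      obtain ⟨x', hx', rfl⟩ := hfin
      obtain ⟨j, rfl⟩ := SylA11.mem_P.1 hx'
      have hz : SylA11.el j * SylA11.zP = SylA11.zP * SylA11.el j := SylA11.code_inj (SylA11.commz_ok j)
      calc ρ c * SylA11.el j * (ρ c)⁻¹ * (ρ c * SylA11.zP * (ρ c)⁻¹)
          = ρ c * (SylA11.el j * SylA11.zP) * (ρ c)⁻¹ := by group
        _ = ρ c * (SylA11.zP * SylA11.el j) * (ρ c)⁻¹ := by rw [hz]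
        _ = _ := by group
    rcases SylA11.centre hmem hcen with h | h
    · exact absurd (conj_eq_one_iff.1 h) (by decide +kernel)
    · exact h
  · intro T hT htT hcl x hx
    have hAS : (A : LyG) ∈ SC.map C.subtype := hmemC.2 ⟨A, by rw [hAρ]; exact SylA11.zP_in, rfl⟩
    have hAT : (A : LyG) ∈ T := by
      have := hcl g tLy htT (hgA ▸ hAS)
      rwa [hgA] at this
    let T' : Subgroup C := T.comap C.subtype
    have hPT : SylA11.P ≤ T'.map ρ := by
      refine (Subgroup.closure_le _).2 fun y hy => ?_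
      obtain ⟨k, hk, rfl⟩ := List.getElem_of_mem hy
      have hk3 : k < 3 := by simpa [SylA11.gens] using hk
      have he := SylA11.code_inj (SylA11.conj_ok k hk3)
      rw [List.getD_eq_getElem SylA11.gens _ hk] at he
      obtain ⟨d, hd⟩ := hsurj _ (Perm.mem_alternatingGroup.2 (SylA11.conjs_sign k hk3))
      refine ⟨d * A * d⁻¹, ?_, by rw [map_mul, map_mul, map_inv, hd, hAρ, he]⟩
      show ((d * A * d⁻¹ : C) : LyG) ∈ T
      refine hcl d A hAT (hmemC.2 ⟨d * A * d⁻¹, ?_, rfl⟩)
      rw [map_mul, map_mul, map_inv, hd, hAρ, he]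
      exact Subgroup.subset_closure (List.getElem_mem hk)
    obtain ⟨c, hc, rfl⟩ := hmemC.1 hx
    obtain ⟨d, hd, e⟩ := hPT hc
    rcases hρ1 (d⁻¹ * c) (by rw [map_mul, map_inv, e, inv_mul_cancel]) with h | h
    · rw [← inv_mul_eq_one.1 h]; exact hd
    · rw [show c = d * tC by rw [← h, mul_inv_cancel_left]]
      exact T.mul_mem hd htT

/-- The fusion system of a copy of the Lyons group on any Sylow 2-subgroup is simple. -/
theorem fus_simple_any {G : Type*} [Group G] [Finite G] (e : G ≃* LyG) (S : Sylow 2 G) :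
    (groupFusionSystem (S : Subgroup G)).IsSimple 2 := by
  haveI : Fact (Nat.Prime 2) := ⟨Nat.prime_two⟩
  obtain ⟨SS, hcard, htS, hcomm, hcen, hnor, hclo⟩ := exists_sylow hne
  let K : Subgroup G := SS.comap (e : G →* LyG)
  have hK : Nat.card K = 2 ^ (Nat.card G).factorization 2 := by
    rw [show Nat.card K = 256 by
        rw [← Subgroup.card_map_of_injective (f := (e : G →* LyG)) e.injective,
          Subgroup.map_comap_eq_self_of_surjective e.surjective, hcard],
      Nat.card_congr e.toEquiv, card_ly hne, ordLy,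
      show (51765179004000000 : ℕ) = 2 ^ 8 * 202207730484375 by norm_num,
      Nat.factorization_mul (by norm_num) (by norm_num),
      Finsupp.add_apply, Nat.Prime.factorization_pow Nat.prime_two, Finsupp.single_eq_same,
      Nat.factorization_eq_zero_of_not_dvd (by norm_num : ¬ 2 ∣ 202207730484375)]
    norm_num
  obtain ⟨c, hcS⟩ := MulAction.exists_smul_eq G S (Sylow.ofCard K hK)
  let e' : G ≃* LyG := (MulAut.conj c).trans e
  have hS : ∀ x, x ∈ (S : Subgroup G) ↔ e' x ∈ SS := fun x => by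
    have h1 : ((c • S : Sylow 2 G) : Subgroup G) = K := by rw [hcS]; rfl
    change x ∈ (S : Subgroup G) ↔ c * x * c⁻¹ ∈ K
    rw [← h1, Sylow.coe_subgroup_smul]
    exact (Subgroup.smul_mem_pointwise_smul_iff (a := MulAut.conj c) (S := (S : Subgroup G)) (x := x)).symm
  have hne1 : tLy ≠ 1 := fun h => by
    have := orderOf_tLy hne
    rw [h, orderOf_one] at this
    omega
  refine group_isSimple_of_generated S (fun h => ?_) (fun U hU => ?_) ?_
  · have hm : e'.symm tLy ∈ (S : Subgroup G) := (hS _).2 (by rw [e'.apply_symm_apply]; exact htS)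
    rw [h, Subgroup.mem_bot] at hm
    exact hne1 (by rw [← e'.apply_symm_apply tLy, hm, map_one])
  · obtain ⟨hUS, hcl⟩ := (group_stronglyClosed_iff S).1 hU
    rcases eq_or_ne U ⊥ with hbot | hbot
    · exact Or.inl hbot
    right
    refine le_antisymm hUS fun x hx => ?_
    have hTS : U.map (e' : G →* LyG) ≤ SS := by
      rintro _ ⟨u, hu, rfl⟩
      exact (hS u).1 (hUS hu)
    have hclT : ∀ g : LyG, ∀ x ∈ U.map (e' : G →* LyG), g * x * g⁻¹ ∈ SS → g * x * g⁻¹ ∈ U.map (e' : G →* LyG) := by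
      rintro g _ ⟨u, hu, rfl⟩ hgx
      have h : e' (e'.symm g * u * (e'.symm g)⁻¹) = g * e' u * g⁻¹ := by simp
      exact ⟨_, hcl (e'.symm g) u hu ((hS _).2 (h ▸ hgx)), h⟩
    have htT : tLy ∈ U.map (e' : G →* LyG) := by
      haveI : ((U.map (e' : G →* LyG)).subgroupOf SS).Normal := ⟨fun u hu s => by
        show ((s : LyG) * (u : LyG) * (s : LyG)⁻¹) ∈ U.map (e' : G →* LyG)
        exact hclT s u hu (SS.mul_mem (SS.mul_mem s.2 u.2) (SS.inv_mem s.2))⟩
      haveI : Finite SS := Nat.finite_of_card_ne_zero (by omega)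
      have hp : IsPGroup 2 SS := IsPGroup.of_card (n := 8) hcard
      have hN : (U.map (e' : G →* LyG)).subgroupOf SS ≠ ⊥ := by
        rw [Ne, Subgroup.subgroupOf_eq_bot, disjoint_iff, inf_eq_left.2 hTS,
          Subgroup.map_eq_bot_iff_of_injective _ e'.injective]
        exact hbot
      obtain ⟨z, hz, hz1, hzc⟩ := exists_central_of_normal hp hN
      rcases hcen z z.2 (fun y hy => (congrArg Subtype.val (hzc ⟨y, hy⟩)).symm) with h | h
      · exact absurd (Subtype.ext h) hz1
      · rwa [Subgroup.mem_subgroupOf, h] at hz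
    obtain ⟨u, hu, he⟩ := hclo _ hTS htT hclT ((hS x).1 hx)
    exact e'.injective he ▸ hu
  · intro n hn
    refine Subgroup.subset_closure ⟨hn, Or.inr (Or.inl ((hS n).2 ?_))⟩
    have hconj : ∀ x ∈ SS, e' n * x * (e' n)⁻¹ ∈ SS := fun x hx => by
      have h := (hS _).1 ((Subgroup.mem_normalizer_iff.1 hn (e'.symm x)).1
        ((hS _).2 (by rw [e'.apply_symm_apply]; exact hx)))
      rwa [map_mul, map_mul, map_inv, e'.apply_symm_apply] at h
    refine hnor _ ?_ hconj
    rcases hcen _ (hconj _ htS) (fun y hy => by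
      have hy' : (e' n)⁻¹ * y * e' n ∈ SS := by
        have h := (hS _).1 ((Subgroup.mem_normalizer_iff''.1 hn (e'.symm y)).1
          ((hS _).2 (by rw [e'.apply_symm_apply]; exact hy)))
        rwa [map_mul, map_mul, map_inv, e'.apply_symm_apply] at h
      have hc := hcomm _ hy'
      calc e' n * tLy * (e' n)⁻¹ * y = e' n * (tLy * ((e' n)⁻¹ * y * e' n)) * (e' n)⁻¹ := by group
        _ = e' n * ((e' n)⁻¹ * y * e' n * tLy) * (e' n)⁻¹ := by rw [hc]
        _ = y * (e' n * tLy * (e' n)⁻¹) := by group) with h | h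
    · exact absurd (conj_eq_one_iff.1 h) hne1
    · exact mul_inv_eq_iff_eq_mul.1 h

end

end

end Cfsg.Agent.Lyons
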