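import Cfsg.Agent.Lib.Lyons.Index
import Cfsg.Prelude.Def_Spor_Ly

/-!
The presented Lyons group satisfies the rules of the deductions.

Letters `0, …, 21` are those of the group presented by relations 1–44, 46, 47; `22` and `23` stand for `z` and its
inverse.
-/

set_option autoImplicit false
set_option linter.style.haveILetI false
set_option maxRecDepth 100000

namespace Cfsg.Agent.Lyons

open Cfsg.Agent.CosetCert

noncomputable section

/-- The presented Lyons group. -/
abbrev LyG : Type := Cfsg.Spor.Ly

/-- The generator of the Lyons group with a name. -/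
abbrev gOf (g : Cfsg.Spor.Ly.Gen) : LyG := PresentedGroup.of g

/-- The twelve generators with numbers. -/
def lyNames : List Cfsg.Spor.Ly.Gen :=
  [.a, .b, .c, .d, .e, .c2, .c3, .c4, .c5, .a2, .a3, .z]

/-- The generators by number. -/
def lyGen (i : ℕ) : LyG := (lyNames.map gOf).getD i 1

/-- The number of a generator, `12` for those which are not numbered. -/
def baseNo : Cfsg.Spor.Ly.Gen → ℕ
  | .a => 0
  | .b => 1
  | .c => 2
  | .d => 3
  | .e => 4
  | .c2 => 5
  | .c3 => 6
  | .c4 => 7
  | .c5 => 8
  | .a2 => 9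
  | .a3 => 10
  | .z => 11
  | _ => 12

/-- The place of the relation defining a generator which is not numbered. -/
def defNo : Cfsg.Spor.Ly.Gen → ℕ
  | .c1 => 5
  | .a1 => 44
  | .a4 => 47
  | .u => 48
  | .x23 => 49
  | .x24 => 50
  | .x25 => 51
  | .x29 => 52
  | .x47 => 53
  | .x96 => 54
  | .x129 => 55
  | .x162 => 56
  | .x163 => 57
  | .x164 => 58
  | .x165 => 59
  | .x166 => 60
  | .x167 => 61
  | .x168 => 62
  | .x169 => 63
  | .x364 => 64
  | .x365 => 65
  | .x366 => 66
  | .x367 => 67
  | .x368 => 68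
  | .x369 => 69
  | .x370 => 70
  | .x371 => 71
  | _ => 0

/-- Relation `k`, as a reduced word. -/
def relT (k : ℕ) : List (Cfsg.Spor.Ly.Gen × Bool) := (Cfsg.Spor.Ly.extra.getD k 1).toWord

/-- A letter read with a code for each generator. -/
def expand (f : Cfsg.Spor.Ly.Gen → List ℕ) (w : List (Cfsg.Spor.Ly.Gen × Bool)) : List ℕ :=
  w.flatMap fun p => bif p.2 then f p.1 else invL (f p.1)

/-- The word of a numbered generator. -/
def baseWord (g : Cfsg.Spor.Ly.Gen) : List ℕ := [2 * baseNo g]

/-- The word of a generator. -/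
def code (g : Cfsg.Spor.Ly.Gen) : List ℕ :=
  bif Nat.blt (baseNo g) 12 then baseWord g else invL (expand baseWord (relT (defNo g)).tail)

/-- Relation `k` in the letters. -/
def relW (k : ℕ) : List ℕ := expand code (relT k)

/-- The value of a signed generator. -/
def tval (p : Cfsg.Spor.Ly.Gen × Bool) : LyG := bif p.2 then gOf p.1 else (gOf p.1)⁻¹

theorem prod_tval (r : FreeGroup Cfsg.Spor.Ly.Gen) :
    PresentedGroup.mk (Cfsg.Spor.coxRelators Cfsg.Spor.Ly.edges ∪ {r | r ∈ Cfsg.Spor.Ly.extra}) r =
      (r.toWord.map tval).prod := by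
  have h : PresentedGroup.mk (Cfsg.Spor.coxRelators Cfsg.Spor.Ly.edges ∪ {r | r ∈ Cfsg.Spor.Ly.extra}) =
      FreeGroup.lift gOf := by
    ext g
    simp [gOf, PresentedGroup.of]
  conv_lhs => rw [h, ← FreeGroup.mk_toWord (x := r)]
  rw [FreeGroup.lift_mk]
  rfl

theorem relT_one (k : ℕ) : ((relT k).map tval).prod = 1 := by
  rw [relT, ← prod_tval]
  by_cases hk : k < Cfsg.Spor.Ly.extra.length
  · rw [List.getD_eq_getElem _ _ hk]
    exact PresentedGroup.one_of_mem (Or.inr (List.getElem_mem hk))
  · rw [List.getD_eq_default _ _ (by omega)]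
    exact map_one _

theorem wv_expand {f : Cfsg.Spor.Ly.Gen → List ℕ} {w : List (Cfsg.Spor.Ly.Gen × Bool)}
    (h : ∀ p ∈ w, wv lyGen (f p.1) = gOf p.1) : wv lyGen (expand f w) = (w.map tval).prod := by
  induction w with
  | nil => rfl
  | cons p w ih =>
    show wv lyGen ((bif p.2 then f p.1 else invL (f p.1)) ++ expand f w) = _
    rw [wv_append, ih fun q hq => h q (List.mem_cons_of_mem _ hq), List.map_cons, List.prod_cons]
    congr 1
    have h1 := h p List.mem_cons_self
    obtain ⟨g, b⟩ := p
    cases b
    · simp [tval, wv_invL, h1]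
    · simp [tval, h1]

theorem wv_baseWord {g : Cfsg.Spor.Ly.Gen} (h : baseNo g < 12) : wv lyGen (baseWord g) = gOf g := by
  cases g <;> first
    | (simp [baseNo] at h; done)
    | simp [baseWord, baseNo, wv, lt', lyGen, lyNames]

/-- The relation defining a generator begins with it and continues with numbered generators. -/
def defCheck (g : Cfsg.Spor.Ly.Gen) : Bool :=
  Nat.blt (baseNo g) 12 ||
    (match relT (defNo g) with
      | (h, true) :: r => decide (h = g) && r.all fun p => Nat.blt (baseNo p.1) 12
      | _ => false)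

theorem defCheck_ok : ∀ g, defCheck g = true := by
  intro g; cases g <;> decide +kernel

theorem wv_code (g : Cfsg.Spor.Ly.Gen) : wv lyGen (code g) = gOf g := by
  unfold code
  have hc := defCheck_ok g
  cases hb : Nat.blt (baseNo g) 12
  swap
  · exact wv_baseWord (Nat.blt_eq ▸ hb)
  · simp only [defCheck, hb, Bool.false_or] at hc
    rw [cond_false, wv_invL]
    have hr := relT_one (defNo g)
    rcases hT : relT (defNo g) with _ | ⟨⟨h, b⟩, r⟩
    · simp [hT] at hc
    · rw [hT] at hc hr
      cases b
      · simp at hc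
      · simp only [Bool.and_eq_true, decide_eq_true_eq, List.all_eq_true, Nat.blt_eq] at hc
        obtain ⟨rfl, hb'⟩ := hc
        rw [List.tail_cons, wv_expand fun p hp => wv_baseWord (hb' p hp)]
        rw [List.map_cons, List.prod_cons] at hr
        exact (eq_inv_of_mul_eq_one_left hr).symm

theorem wv_relW (k : ℕ) : wv lyGen (relW k) = 1 := by
  rw [relW, wv_expand fun p _ => wv_code p.1, relT_one]

/-- Free cancellation at the head. -/
def consR (l : ℕ) : List ℕ → List ℕ
  | [] => [l]
  | h :: t => bif Nat.beq h (flipL l) then t else l :: h :: t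

/-- Free reduction. -/
def fred (w : List ℕ) : List ℕ := List.rec [] (fun l _ r => consR l r) w

theorem wv_fred {G : Type*} [Group G] (gen : ℕ → G) : ∀ w, wv gen (fred w) = wv gen w := by
  intro w
  induction w with
  | nil => rfl
  | cons l w ih =>
    rw [wv_cons, ← ih]
    show wv gen (consR l (fred w)) = _
    cases fred w with
    | nil => simp [consR, wv_cons]
    | cons h t =>
      cases hb : Nat.beq h (flipL l) with
      | false => simp [consR, hb, wv_cons]
      | true =>
        simp only [consR, hb, cond_true, wv_cons]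
        rw [Nat.eq_of_beq_eq_true hb, lt'_flipL, mul_inv_cancel_left]

/-- The relators of the smaller group follow from those of the Lyons group. -/
def relsCheck : Bool :=
  relsH.all fun w => (List.range 86).any fun k => wordEq (fred w) (fred (relW k))

theorem relsCheck_ok : relsCheck = true := by decide +kernel

/-- The map of `⟨a, b, c, d⟩`. -/
def psiLy : H0 →* LyG :=
  PresentedGroup.toGroup (f := fun i : Fin 11 => lyGen i) (by
    rintro r ⟨w, hw, rfl⟩
    rw [map_wv]
    have hl : ∀ l ∈ w, (fun x => FreeGroup.lift (fun i : Fin 11 => lyGen i) (freeGen x)) (l / 2) =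
        lyGen (l / 2) := fun l hl => by
      have := relsH_letters w hw l hl
      simp [freeGen, show l / 2 < 11 by omega]
    rw [wv_congr _ hl]
    obtain ⟨k, -, hk⟩ := List.any_eq_true.1 (List.all_eq_true.1 relsCheck_ok w hw)
    rw [← wv_fred, eq_of_wordEq hk, wv_fred, wv_relW])

theorem psiLy_gen0 {i : ℕ} (hi : i < 11) : psiLy (gen0 i) = lyGen i := by
  simp [psiLy, gen0, hi]

theorem psiLy_el {w : List ℕ} (h : letOK w = true) : psiLy (el w) = wv lyGen w := by
  rw [el, map_wv]
  exact wv_congr _ fun l hl => psiLy_gen0 (by have := letOK_spec h l hl; omega)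

/-- The image of `z`. -/
def zLy : LyG := lyGen 11

theorem wv_z : wv lyGen [22] = zLy := by simp [wv, lt', zLy]

theorem zz_ly : zLy * zLy = psiLy (el wU) := by
  have hk : wordEq (fred (relW 80)) [22, 22, 1, 1] = true := by decide +kernel
  have h := wv_relW 80
  rw [← wv_fred, eq_of_wordEq hk] at h
  rw [psiLy_el (by decide +kernel)]
  simp [wv, lt', wU, zLy] at h ⊢
  rw [← mul_assoc, ← mul_inv_rev] at h
  exact mul_inv_eq_one.1 h

/-- Relation `k` says that `z` conjugates the letter `l` to a word equal to the listed one. -/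
def conjCheck (l k : ℕ) (g : Cfsg.Spor.Ly.Gen) : Bool :=
  wordEq (fred (relW k)) (fred ([23, l, 22] ++ invL (code g))) && letOK (code g) && Nat.blt l 22 &&
    sameW (code g) (FactData.data.sig.get l) &&
    sameW (invL (code g)) (FactData.data.sig.get (flipL l))

theorem conjCheck_ok : (conjCheck 4 72 .x162 && conjCheck 10 73 .x163 && conjCheck 12 74 .x164 &&
    conjCheck 14 75 .x165 && conjCheck 16 76 .x166 && conjCheck 0 77 .x167 && conjCheck 18 78 .x168 &&
    conjCheck 20 79 .x169) = true := by decide +kernel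

theorem conj_both {l k : ℕ} {g : Cfsg.Spor.Ly.Gen} (h : conjCheck l k g = true) :
    zLy⁻¹ * psiLy (el [l]) * zLy = psiLy (el (FactData.data.sig.get l)) ∧
      zLy⁻¹ * psiLy (el [flipL l]) * zLy = psiLy (el (FactData.data.sig.get (flipL l))) := by
  simp only [conjCheck, Bool.and_eq_true, Nat.blt_eq] at h
  obtain ⟨⟨⟨⟨hw, hlet⟩, hl⟩, h1⟩, h2⟩ := h
  have e := wv_relW k
  rw [← wv_fred, eq_of_wordEq hw, wv_fred, wv_append, wv_invL, mul_inv_eq_one,
    ← psiLy_el hlet] at e
  have ee : zLy⁻¹ * psiLy (el [l]) * zLy = psiLy (el (FactData.data.sig.get l)) := by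
    rw [← eq_of_sameW h1, ← e, psiLy_el (by simp [letOK, hl])]
    simp [wv, lt', zLy, mul_assoc]
  refine ⟨ee, ?_⟩
  rw [← eq_of_sameW h2, el_invL, map_inv, eq_of_sameW h1, ← ee]
  rw [show el [flipL l] = (el [l])⁻¹ by simp [el, wv, lt'_flipL], map_inv]
  group

theorem conj_ly : ∀ l ∈ kLets, zLy⁻¹ * psiLy (el [l]) * zLy = psiLy (el (FactData.data.sig.get l)) := by
  have h := conjCheck_ok
  simp only [Bool.and_eq_true] at h
  obtain ⟨⟨⟨⟨⟨⟨⟨h4, h10⟩, h12⟩, h14⟩, h16⟩, h0⟩, h18⟩, h20⟩ := h
  intro l hl
  simp only [kLets, List.mem_cons, List.not_mem_nil, or_false] at hl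
  rcases hl with rfl | rfl | rfl | rfl | rfl | rfl | rfl | rfl | rfl | rfl | rfl | rfl | rfl | rfl | rfl | rfl
  · exact (conj_both h0).1
  · exact (conj_both h0).2
  · exact (conj_both h4).1
  · exact (conj_both h4).2
  · exact (conj_both h10).1
  · exact (conj_both h10).2
  · exact (conj_both h12).1
  · exact (conj_both h12).2
  · exact (conj_both h14).1
  · exact (conj_both h14).2
  · exact (conj_both h16).1
  · exact (conj_both h16).2
  · exact (conj_both h18).1
  · exact (conj_both h18).2
  · exact (conj_both h20).1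
  · exact (conj_both h20).2

/-- Cut a word at the occurrences of `z`, reading `z⁻¹` as `z u⁻¹`. -/
def cutZ (w : List ℕ) : List ℕ × List (List ℕ) :=
  List.rec ([], []) (fun l _ r => bif Nat.beq l 22 then ([], r.1 :: r.2)
    else bif Nat.beq l 23 then ([], (invL wU ++ r.1) :: r.2) else (l :: r.1, r.2)) w

theorem cutZ_spec : ∀ {w : List ℕ}, (∀ l ∈ w, l < 24) → letOK (cutZ w).1 = true ∧
    wv lyGen w = psiLy (el (cutZ w).1) * itemsV psiLy zLy (headW (cutZ w).2) := by
  intro w
  induction w with
  | nil => intro _; exact ⟨rfl, by simp [cutZ, headW, itemsV]⟩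
  | cons l w ih =>
    intro hw
    obtain ⟨hok, ih⟩ := ih fun y hy => hw y (List.mem_cons_of_mem _ hy)
    have hl := hw l List.mem_cons_self
    rw [wv_cons, ih]
    show letOK (bif Nat.beq l 22 then _ else bif Nat.beq l 23 then _ else _ : List ℕ × List (List ℕ)).1 = true ∧ _
    by_cases h22 : l = 22
    · subst h22
      refine ⟨rfl, ?_⟩
      simp [cutZ, headW, itemsV, itemV, lt', zLy, mul_assoc]
    by_cases h23 : l = 23
    · subst h23
      refine ⟨rfl, ?_⟩
      have hz : (lt' lyGen 23) = zLy * (psiLy (el wU))⁻¹ := by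
        rw [← zz_ly]; simp [lt', zLy]
      have hc : cutZ (23 :: w) = ([], (invL wU ++ (cutZ w).1) :: (cutZ w).2) := rfl
      rw [hc, hz]
      simp [headW, itemsV, itemV, el_invL, el_append, mul_assoc]
    · have e1 : Nat.beq l 22 = false := by
        cases hb : Nat.beq l 22 with
        | false => rfl
        | true => exact absurd (Nat.eq_of_beq_eq_true hb) h22
      have e2 : Nat.beq l 23 = false := by
        cases hb : Nat.beq l 23 with
        | false => rfl
        | true => exact absurd (Nat.eq_of_beq_eq_true hb) h23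
      have hc : cutZ (l :: w) = (l :: (cutZ w).1, (cutZ w).2) := by
        show (bif Nat.beq l 22 then _ else bif Nat.beq l 23 then _ else _ : List ℕ × List (List ℕ)) = _
        rw [e1, e2]; rfl
      have hok' : letOK (l :: (cutZ w).1) = true := by
        show (Nat.blt l 22 && letOK (cutZ w).1) = true
        simp [hok]; omega
      refine ⟨by simpa [cutZ, e1, e2] using hok', ?_⟩
      rw [hc, psiLy_el hok', psiLy_el hok, wv_cons, mul_assoc]

/-- Move the leading factor behind the last one. -/
def closeW (c : List ℕ × List (List ℕ)) : List (List ℕ) :=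
  match c.2.reverse with
  | [] => []
  | h :: t => t.reverse ++ [h ++ c.1]

/-- The rotations of a closed relator. -/
def rotOf (k s : ℕ) : List (List ℕ) := (closeW (cutZ (relW k))).drop s ++ (closeW (cutZ (relW k))).take s

/-- Equality of lists of words in the group. -/
def sameL : List (List ℕ) → List (List ℕ) → Bool
  | [], [] => true
  | u :: a, v :: b => sameW u v && sameL a b
  | _, _ => false

/-- The rotated relators. -/
def rotsCheck : Bool :=
  ([81, 82, 83, 84, 85].all fun k => (relW k).all fun l => Nat.blt l 24) &&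
    FactData.data.rots.all fun r => [81, 82, 83, 84, 85].any fun k =>
      (List.range 5).any fun s => sameL r (rotOf k s)

theorem rotsCheck_ok : rotsCheck = true := by decide +kernel

theorem headW_append : ∀ a b : List (List ℕ), headW (a ++ b) = headW a ++ headW b
  | [], _ => rfl
  | h :: a, b => by simp [headW, headW_append a b]

theorem itemsV_head_sameL : ∀ {a b : List (List ℕ)}, sameL a b = true →
    itemsV psiLy zLy (headW a) = itemsV psiLy zLy (headW b)
  | [], [], _ => rfl
  | u :: a, v :: b, h => by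
    simp only [sameL, Bool.and_eq_true] at h
    have ih := itemsV_head_sameL h.2
    simp only [itemsV, headW, itemV, List.map_cons, List.prod_cons] at ih ⊢
    rw [ih, eq_of_sameW h.1]
  | [], _ :: _, h => by simp [sameL] at h
  | _ :: _, [], h => by simp [sameL] at h

theorem rel_ly : ∀ r ∈ FactData.data.rots, itemsV psiLy zLy (headW r) = 1 := by
  have h := rotsCheck_ok
  simp only [rotsCheck, Bool.and_eq_true, List.all_eq_true, List.any_eq_true, Nat.blt_eq] at h
  intro r hr
  obtain ⟨k, hk, s, -, hs⟩ := h.2 r hr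
  rw [itemsV_head_sameL hs]
  obtain ⟨-, e⟩ := cutZ_spec (h.1 k hk)
  rw [wv_relW] at e
  have hclosed : itemsV psiLy zLy (headW (closeW (cutZ (relW k)))) = 1 := by
    generalize cutZ (relW k) = c at e ⊢
    obtain ⟨f, l⟩ := c
    simp only [closeW] at e ⊢
    cases hl : l.reverse with
    | nil => rfl
    | cons x t =>
      have : l = t.reverse ++ [x] := by rw [← List.reverse_cons, ← hl, List.reverse_reverse]
      subst this
      simp only [headW_append, itemsV_append] at e ⊢
      simp only [itemsV, headW, itemV, List.map_cons, List.map_nil, List.prod_cons, List.prod_nil,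
        el_append, map_mul, mul_one] at e ⊢
      rw [eq_comm, ← eq_inv_iff_mul_eq_one] at e
      rw [e]
      group
  rw [rotOf, headW_append, itemsV_append, mul_eq_one_iff_eq_inv]
  rw [← List.take_append_drop s (closeW (cutZ (relW k))), headW_append, itemsV_append,
    mul_eq_one_iff_inv_eq] at hclosed
  exact hclosed.symm

/-- The named elements. -/
def xLy : ℕ → LyG
  | 1 => zLy
  | 2 => zLy * psiLy (el (FactData.data.defs.getD 1 (0, 0, [])).2.2) * zLy
  | 3 => zLy * psiLy (el (FactData.data.defs.getD 2 (0, 0, [])).2.2) * zLy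
  | 4 => zLy * psiLy (el (FactData.data.defs.getD 3 (0, 0, [])).2.2) * zLy
  | _ => 1

/-- The Lyons group satisfies the rules. -/
theorem dRules_ly : DRules psiLy zLy xLy FactData.data where
  x0 := rfl
  x1 := rfl
  zz := zz_ly
  conj := conj_ly
  rel := rel_ly
  def_ := by
    intro d hd
    simp only [FactData.data, FactData.defs, List.mem_cons, List.not_mem_nil, or_false] at hd
    rcases hd with rfl | rfl | rfl | rfl <;>
      simp [xLy, FactData.data, FactData.defs, el]

theorem range_sup_z : psiLy.range ⊔ Subgroup.zpowers zLy = ⊤ := by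
  rw [eq_top_iff, ← PresentedGroup.closure_range_of, Subgroup.closure_le]
  rintro _ ⟨g, rfl⟩
  show gOf g ∈ psiLy.range ⊔ Subgroup.zpowers zLy
  rw [← wv_code g]
  refine wv_mem _ fun l hl => ?_
  have h24 : l < 24 := by
    have : ∀ g, (code g).all (fun l => Nat.blt l 24) = true := by intro g; cases g <;> decide +kernel
    simpa using List.all_eq_true.1 (this g) l hl
  rcases Nat.lt_or_ge (l / 2) 11 with h | h
  · rw [← psiLy_gen0 h]; exact Subgroup.mem_sup_left ⟨_, rfl⟩
  · rw [show l / 2 = 11 by omega]; exact Subgroup.mem_sup_right (Subgroup.mem_zpowers _)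

/-- The index bound in the presented group. -/
theorem index_range_le : Finite (LyG ⧸ psiLy.range) ∧ Nat.card (LyG ⧸ psiLy.range) ≤ 8835156 :=
  index_le dRules_ly range_sup_z

instance finite_LyG : Finite LyG := by
  haveI := index_range_le.1
  haveI : Finite psiLy.range := Finite.of_surjective psiLy.rangeRestrict psiLy.rangeRestrict_surjective
  exact Finite.of_subgroup_quotient psiLy.range

theorem card_range_le : Nat.card psiLy.range ≤ 5859000000 :=
  (Nat.card_le_card_of_surjective _ psiLy.rangeRestrict_surjective).trans card_H0_le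

theorem index_le_ly : psiLy.range.index ≤ 8835156 := by
  rw [Subgroup.index_eq_card]
  exact index_range_le.2

theorem card_LyG_le : Nat.card LyG ≤ 51765179004000000 := by
  rw [← Subgroup.card_mul_index psiLy.range]
  exact (Nat.mul_le_mul card_range_le index_le_ly).trans (by norm_num)

/-- The image of `⟨a, b, c, d⟩` is the range. -/
theorem map_closure_eq_range :
    (Subgroup.closure ({Cfsg.Spor.Ly.a, Cfsg.Spor.Ly.b, Cfsg.Spor.Ly.c, Cfsg.Spor.Ly.d} :
      Set (FreeGroup Cfsg.Spor.Ly.Gen))).map
        (PresentedGroup.mk (Cfsg.Spor.coxRelators Cfsg.Spor.Ly.edges ∪ {r | r ∈ Cfsg.Spor.Ly.extra})) =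
      psiLy.range := by
  refine le_antisymm ?_ ?_
  · rw [MonoidHom.map_closure, Subgroup.closure_le]
    rintro _ ⟨x, hx, rfl⟩
    simp only [Set.mem_insert_iff, Set.mem_singleton_iff] at hx
    rcases hx with rfl | rfl | rfl | rfl
    · exact ⟨gen0 0, by rw [psiLy_gen0 (by norm_num)]; rfl⟩
    · exact ⟨gen0 1, by rw [psiLy_gen0 (by norm_num)]; rfl⟩
    · exact ⟨gen0 2, by rw [psiLy_gen0 (by norm_num)]; rfl⟩
    · exact ⟨gen0 3, by rw [psiLy_gen0 (by norm_num)]; rfl⟩
  · set S := (Subgroup.closure ({Cfsg.Spor.Ly.a, Cfsg.Spor.Ly.b, Cfsg.Spor.Ly.c, Cfsg.Spor.Ly.d} :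
      Set (FreeGroup Cfsg.Spor.Ly.Gen))).map
        (PresentedGroup.mk (Cfsg.Spor.coxRelators Cfsg.Spor.Ly.edges ∪ {r | r ∈ Cfsg.Spor.Ly.extra})) with hS
    have base : ∀ i < 4, lyGen i ∈ S := fun i hi => by
      rw [hS]
      interval_cases i
      · exact ⟨_, Subgroup.subset_closure (Or.inl rfl), rfl⟩
      · exact ⟨_, Subgroup.subset_closure (Or.inr (Or.inl rfl)), rfl⟩
      · exact ⟨_, Subgroup.subset_closure (Or.inr (Or.inr (Or.inl rfl))), rfl⟩
      · exact ⟨_, Subgroup.subset_closure (Or.inr (Or.inr (Or.inr rfl))), rfl⟩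
    have step : ∀ (i k : ℕ) (ok : List ℕ), (∀ j ∈ ok, lyGen j ∈ S) →
        (match fred (relW k) with
          | h :: r => Nat.beq h (2 * i) && r.all fun l => ok.any fun j => Nat.beq j (l / 2)
          | [] => false) = true → lyGen i ∈ S := by
      intro i k ok hok h
      have e := wv_relW k
      rw [← wv_fred] at e
      rcases hf : fred (relW k) with _ | ⟨x, r⟩
      · simp [hf] at h
      · rw [hf] at h e
        simp only [Bool.and_eq_true, Nat.beq_eq, List.all_eq_true, List.any_eq_true] at h
        obtain ⟨rfl, hr⟩ := h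
        rw [wv_cons, mul_eq_one_iff_eq_inv] at e
        simp [lt'] at e
        rw [e]
        refine inv_mem (wv_mem _ fun l hl => ?_)
        obtain ⟨j, hj, rfl⟩ := hr l hl
        exact hok _ hj
    have h4 : lyGen 4 ∈ S := step 4 28 [0, 1, 2, 3] (by simpa using ⟨base 0 (by norm_num), base 1 (by norm_num),
      base 2 (by norm_num), base 3 (by norm_num)⟩) (by decide +kernel)
    have h5 : lyGen 5 ∈ S := step 5 6 [0, 2] (by simpa using ⟨base 0 (by norm_num), base 2 (by norm_num)⟩)
      (by decide +kernel)
    have h6 : lyGen 6 ∈ S := step 6 7 [1, 2] (by simpa using ⟨base 1 (by norm_num), base 2 (by norm_num)⟩)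
      (by decide +kernel)
    have h7 : lyGen 7 ∈ S := step 7 8 [1, 2] (by simpa using ⟨base 1 (by norm_num), base 2 (by norm_num)⟩)
      (by decide +kernel)
    have h8 : lyGen 8 ∈ S := step 8 9 [2, 5] (by simpa using ⟨base 2 (by norm_num), h5⟩)
      (by decide +kernel)
    have h9 : lyGen 9 ∈ S := step 9 45 [0, 1] (by simpa using ⟨base 0 (by norm_num), base 1 (by norm_num)⟩)
      (by decide +kernel)
    have h10 : lyGen 10 ∈ S := step 10 46 [0, 1] (by simpa using ⟨base 0 (by norm_num), base 1 (by norm_num)⟩)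
      (by decide +kernel)
    rintro _ ⟨h, rfl⟩
    have hh : h ∈ Subgroup.closure (gen0 '' {x | x < 11}) := closure_gen0 ▸ Subgroup.mem_top h
    have : Subgroup.closure (gen0 '' {x | x < 11}) ≤ S.comap psiLy := by
      rw [Subgroup.closure_le]
      rintro _ ⟨i, hi, rfl⟩
      show psiLy (gen0 i) ∈ S
      rw [psiLy_gen0 hi]
      have hi' : i < 11 := hi
      interval_cases i
      exacts [base 0 (by norm_num), base 1 (by norm_num), base 2 (by norm_num), base 3 (by norm_num),
        h4, h5, h6, h7, h8, h9, h10]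
    exact this hh

end

end Cfsg.Agent.Lyons
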