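import Cfsg.Agent.Lib.G2Iso.Iso
import Cfsg.Agent.Lib.Lyons.Presentation
import Cfsg.Agent.S1059
import Mathlib.Algebra.Field.ZMod

/-! Words for the isomorphism with `G₂(5)`. -/

set_option autoImplicit false

namespace Cfsg.Agent.Lyons

/-- The images of the eleven generators as products of root elements. -/
def g2Img : List (List (ℕ × ℕ)) := [
  [(7, 2), (7, 1), (4, 4), (7, 1), (6, 3), (5, 3), (6, 3), (6, 4), (5, 1), (6, 4), (7, 4), (4, 1), (7, 4), (7, 4), (4, 1), (7, 4), (7, 3)],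
  [(7, 2), (7, 1), (4, 4), (7, 1), (7, 2), (4, 2), (7, 2), (7, 4), (4, 1), (7, 4), (7, 2)],
  [(6, 2), (8, 3), (9, 4), (11, 2)],
  [(6, 1), (5, 4), (6, 1), (7, 1), (4, 4), (7, 1), (6, 1), (5, 4), (6, 1), (7, 1), (4, 4), (7, 1), (6, 1), (5, 4), (6, 1), (6, 4), (5, 1), (6, 4), (6, 4), (5, 1), (6, 4), (7, 3), (4, 3), (7, 3), (7, 4), (4, 1), (7, 4)],
  [(9, 3), (7, 1), (4, 4), (7, 1), (6, 1), (5, 4), (6, 1), (7, 1), (4, 4), (7, 1), (6, 2), (8, 1), (9, 2), (11, 3)],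
  [(6, 4), (8, 4), (10, 1), (11, 3)],
  [(6, 2), (8, 2), (9, 4), (11, 3)],
  [(6, 3), (8, 4), (9, 4), (11, 1)],
  [(11, 4)],
  [(7, 3), (7, 1), (4, 4), (7, 1), (6, 3), (5, 3), (6, 3), (6, 4), (5, 1), (6, 4), (7, 4), (4, 1), (7, 4), (7, 4), (4, 1), (7, 4), (7, 2)],
  [(7, 2), (7, 1), (4, 4), (7, 1), (6, 3), (5, 3), (6, 3), (6, 4), (5, 1), (6, 4), (7, 3), (4, 3), (7, 3), (7, 4), (4, 1), (7, 4), (7, 3)]]

/-- Words for the twelve root elements with parameter one. -/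
def g2Root : List (List ℕ) := [
  [1, 1, 16, 6, 17],
  [0, 18, 15, 18, 13, 0, 8, 10, 3],
  [1, 13, 21, 4, 18, 8, 0, 21, 8],
  [21, 11, 15, 19, 1, 6, 8, 2, 1, 1],
  [2, 2],
  [0, 19, 14, 16, 1, 14, 8, 20, 18, 11],
  [5, 12, 5, 14],
  [0, 0, 20, 18, 2, 2],
  [4, 13, 17],
  [18, 10, 15, 19],
  [5, 10, 14, 17],
  [17]]

end Cfsg.Agent.Lyons
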