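import Cfsg.Agent.Lib.Lyons.G2Data

/-!
The group presented by relations 1–44, 46, 47 of the Lyons group is `G₂(5)`.
-/

set_option autoImplicit false
set_option maxRecDepth 100000
set_option linter.style.haveILetI false

namespace Cfsg.Agent.Lyons

open Matrix Cfsg.Lie Cfsg.Agent.G2Oct Cfsg.Agent.G2Iso Cfsg.Agent.CosetCert

noncomputable section

local instance fact_five : Fact (Nat.Prime 5) := ⟨by norm_num⟩

/-- A product of root elements. -/
def pW (w : List (ℕ × ℕ)) : GL (Fin 8) (ZMod 5) := (w.map fun p => gen p.1 ((p.2 : ℕ) : ZMod 5)).prod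

theorem pW_append (u v : List (ℕ × ℕ)) : pW (u ++ v) = pW u * pW v := by simp [pW]

theorem pW_mem (w : List (ℕ × ℕ)) : pW w ∈ Lie.G2 (ZMod 5) :=
  Subgroup.list_prod_mem _ fun x hx => by
    obtain ⟨p, -, rfl⟩ := List.mem_map.1 hx
    exact gen_mem _ _

/-- Coordinate `i` of a coded vector. -/
def vGet (v i : ℕ) : ℕ := Nat.land (Nat.shiftRight v (3 * i)) 7

/-- One coordinate of the image of a coded vector under a root element. -/
def rowV (r t v i : ℕ) : ℕ :=
  ((row r i).map fun e => (e.2.1 % 5).toNat * t ^ e.2.2 * vGet v e.1).sum % 5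

/-- A root element on a coded vector. -/
def actV (r t v : ℕ) : ℕ :=
  force v fun v => rowV r t v 0 + 8 * rowV r t v 1 + 64 * rowV r t v 2 + 512 * rowV r t v 3 +
    4096 * rowV r t v 4 + 32768 * rowV r t v 5 + 262144 * rowV r t v 6 + 2097152 * rowV r t v 7

/-- A word on a coded vector, last letter first. -/
def wordV : List (ℕ × ℕ) → ℕ → ℕ
  | [], v => v
  | p :: w, v => force (wordV w v) fun x => actV p.1 p.2 x

/-- The decoded vector. -/
def decV (v : ℕ) : Fin 8 → ZMod 5 := fun i => (vGet v i : ZMod 5)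

theorem rowV_lt (r t v i : ℕ) : rowV r t v i < 8 := (Nat.mod_lt _ (by norm_num)).trans (by norm_num)

theorem vGet_eq (v i : ℕ) : vGet v i = v / 8 ^ i % 8 := by
  show (v >>> (3 * i)) &&& 7 = _
  rw [Nat.shiftRight_eq_div_pow, pow_mul, show (7 : ℕ) = 2 ^ 3 - 1 from rfl, Nat.and_two_pow_sub_one_eq_mod]
  rfl

theorem vGet_actV (r t v : ℕ) {i : ℕ} (hi : i < 8) : vGet (actV r t v) i = rowV r t v i := by
  rw [vGet_eq, actV, force_eq]
  have h0 := rowV_lt r t v 0
  have h1 := rowV_lt r t v 1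
  have h2 := rowV_lt r t v 2
  have h3 := rowV_lt r t v 3
  have h4 := rowV_lt r t v 4
  have h5 := rowV_lt r t v 5
  have h6 := rowV_lt r t v 6
  have h7 := rowV_lt r t v 7
  interval_cases i <;> norm_num <;> omega

theorem decV_actV {r : ℕ} (hr : r < 12) (t v : ℕ) :
    decV (actV r t v) = app (gen r (t : ZMod 5)) (decV v) := by
  funext i
  rw [app_gen hr, decV, vGet_actV r t v i.2, rowV, rAct]
  have hcol : ∀ r < 12, ∀ i < 8, ((row r i).all fun e => Nat.blt e.1 8) = true := by decide +kernel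
  have h5 : ((5 : ℕ) : ZMod 5) = 0 := ZMod.natCast_self 5
  rw [ZMod.natCast_mod, Nat.cast_list_sum, List.map_map]
  refine congrArg List.sum (List.map_congr_left fun e he => ?_)
  have h8 : e.1 < 8 := by simpa using List.all_eq_true.1 (hcol r hr i i.2) e he
  have hc : (((e.2.1 % 5).toNat : ℕ) : ZMod 5) = (e.2.1 : ZMod 5) := by
    rw [← Int.cast_natCast, Int.toNat_of_nonneg (Int.emod_nonneg _ (by norm_num))]
    exact ZMod.intCast_mod e.2.1 5
  simp [ext8, h8, decV, hc]

theorem decV_wordV : ∀ {w : List (ℕ × ℕ)}, (∀ p ∈ w, p.1 < 12) → ∀ v : ℕ,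
    decV (wordV w v) = app (pW w) (decV v)
  | [], _, v => by simp [pW, wordV, app_one]
  | p :: w, hw, v => by
    show decV (force (wordV w v) fun x => actV p.1 p.2 x) = _
    rw [force_eq, decV_actV (hw p List.mem_cons_self),
      decV_wordV (fun q hq => hw q (List.mem_cons_of_mem _ hq)) v]
    exact (app_mul _ _ _).symm

/-- Two words give the same matrix. -/
def eqW (u w : List (ℕ × ℕ)) : Bool :=
  u.all (fun p => Nat.blt p.1 12) && w.all (fun p => Nat.blt p.1 12) &&
    allBelow (fun j => Nat.beq (wordV u (8 ^ j)) (wordV w (8 ^ j))) 8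

theorem eq_of_eqW {u w : List (ℕ × ℕ)} (h : eqW u w = true) : pW u = pW w := by
  simp only [eqW, Bool.and_eq_true, List.all_eq_true, Nat.blt_eq] at h
  obtain ⟨⟨hu, hw⟩, hj⟩ := h
  refine gl_ext_single fun j i => ?_
  have hs : decV (8 ^ (j : ℕ)) = Pi.single j 1 := by
    have : ∀ j i : Fin 8, decV (8 ^ (j : ℕ)) i = (Pi.single j 1 : Fin 8 → ZMod 5) i := by decide +kernel
    exact funext (this j)
  rw [← hs, ← decV_wordV hu, ← decV_wordV hw, Nat.eq_of_beq_eq_true (allBelow_spec hj j.2)]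

/-- The inverse word. -/
def invW (w : List (ℕ × ℕ)) : List (ℕ × ℕ) := (w.map fun p => (p.1, 5 - p.2)).reverse

theorem invCheck_ok : allBelow (fun r => allBelow (fun t => eqW [(r, t), (r, 5 - t)] []) 6) 12 = true := by
  decide +kernel

theorem pW_invW (w : List (ℕ × ℕ)) (hw : ∀ p ∈ w, p.1 < 12 ∧ p.2 < 6) : pW (invW w) = (pW w)⁻¹ := by
  induction w with
  | nil => exact inv_one.symm
  | cons p w ih =>
    obtain ⟨h1, h2⟩ := hw p List.mem_cons_self
    have e : pW ([(p.1, p.2)] ++ [(p.1, 5 - p.2)]) = pW [] :=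
      eq_of_eqW (allBelow_spec (allBelow_spec invCheck_ok h1) h2)
    rw [pW_append] at e
    have hs : invW (p :: w) = invW w ++ [(p.1, 5 - p.2)] := by
      unfold invW
      rw [List.map_cons, List.reverse_cons]
    rw [hs, pW_append, ih fun q hq => hw q (List.mem_cons_of_mem _ hq),
      show p :: w = [(p.1, p.2)] ++ w from rfl, pW_append, _root_.mul_inv_rev, inv_eq_of_mul_eq_one_right e]

/-- The word of the image of a generator. -/
def imgW (i : ℕ) : List (ℕ × ℕ) := g2Img.getD i []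

/-- A word in the generators, expanded. -/
def expW (w : List ℕ) : List (ℕ × ℕ) :=
  w.flatMap fun l => bif Nat.beq (l % 2) 0 then imgW (l / 2) else invW (imgW (l / 2))

theorem imgW_ok : ∀ i, ∀ p ∈ imgW i, p.1 < 12 ∧ p.2 < 6 := by
  intro i p hp
  have h : ∀ l ∈ g2Img, ∀ p ∈ l, p.1 < 12 ∧ p.2 < 6 := by decide +kernel
  rw [imgW, List.getD_eq_getElem?_getD] at hp
  cases hi : g2Img[i]? with
  | none => simp [hi] at hp
  | some l => rw [hi] at hp; exact h l (List.mem_of_getElem? hi) p hp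

theorem pW_expW (w : List ℕ) : pW (expW w) = wv (fun i => pW (imgW i)) w := by
  induction w with
  | nil => rfl
  | cons l w ih =>
    rw [wv_cons, ← ih]
    show pW (_ ++ expW w) = _
    rw [pW_append]
    congr 1
    cases hb : Nat.beq (l % 2) 0
    · simp only [hb, cond_false]
      rw [pW_invW _ (imgW_ok _), lt', if_neg (Nat.ne_of_beq_eq_false hb)]
    · simp only [hb, cond_true]
      rw [lt', if_pos (Nat.eq_of_beq_eq_true hb)]

theorem g2Rels_ok : relsH.all (fun w => eqW (expW w) []) = true := by decide +kernel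

/-- The map to `G₂(5)`. -/
def toG2 : H0 →* GL (Fin 8) (ZMod 5) :=
  PresentedGroup.toGroup (f := fun i : Fin 11 => pW (imgW i)) (by
    rintro r ⟨w, hw, rfl⟩
    rw [map_wv]
    have hl : ∀ l ∈ w, (fun x => FreeGroup.lift (fun i : Fin 11 => pW (imgW i)) (freeGen x)) (l / 2) =
        (fun i => pW (imgW i)) (l / 2) := fun l hl => by
      have := relsH_letters w hw l hl
      simp [freeGen, show l / 2 < 11 by omega]
    rw [wv_congr (gen' := fun i => pW (imgW i)) (fun x => FreeGroup.lift (fun i : Fin 11 => pW (imgW i)) (freeGen x)) hl,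
      ← pW_expW]
    exact eq_of_eqW (List.all_eq_true.1 g2Rels_ok w hw))

theorem toG2_el {w : List ℕ} (h : letOK w = true) : toG2 (el w) = pW (expW w) := by
  rw [el, map_wv, pW_expW]
  exact wv_congr _ fun l hl => by
    have := letOK_spec h l hl
    simp [toG2, gen0, show l / 2 < 11 by omega]

/-- The root elements lie in the image. -/
def rootCheck : Bool :=
  allBelow (fun r => letOK (g2Root.getD r []) && eqW (expW (g2Root.getD r [])) [(r, 1)] &&
    allBelow (fun t => eqW [(r, t)] (List.replicate t (r, 1))) 5) 12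

theorem rootCheck_ok : rootCheck = true := by decide +kernel

theorem gen_mem_range (r : ℕ) (t : ZMod 5) : gen r t ∈ toG2.range := by
  by_cases hr : r < 12
  swap
  · rw [gen_out hr]; exact one_mem _
  have h := allBelow_spec rootCheck_ok hr
  simp only [Bool.and_eq_true] at h
  obtain ⟨⟨hl, hw⟩, ht⟩ := h
  have h1 : gen r (1 : ZMod 5) ∈ toG2.range := ⟨el (g2Root.getD r []), by
    rw [toG2_el hl, eq_of_eqW hw]; simp [pW]⟩
  have h2 := eq_of_eqW (allBelow_spec ht t.val_lt)
  simp only [pW, List.map_cons, List.map_nil, List.prod_cons, List.prod_nil, mul_one, List.map_replicate,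
    List.prod_replicate, Nat.cast_one, ZMod.natCast_zmod_val] at h2
  rw [h2]
  exact pow_mem h1 _

theorem toG2_mem (h : H0) : toG2 h ∈ Lie.G2 (ZMod 5) := by
  have hh : h ∈ Subgroup.closure (gen0 '' {x | x < 11}) := closure_gen0 ▸ Subgroup.mem_top h
  have : Subgroup.closure (gen0 '' {x | x < 11}) ≤ (Lie.G2 (ZMod 5)).comap toG2 := by
    rw [Subgroup.closure_le]
    rintro _ ⟨i, hi, rfl⟩
    have hi' : i < 11 := hi
    show toG2 (gen0 i) ∈ Lie.G2 (ZMod 5)
    simp only [toG2, gen0, dif_pos hi', PresentedGroup.toGroup.of]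
    exact pW_mem _
  exact this hh

theorem rep_range_le : (G2Iso.rep (ZMod 5)).range ≤ toG2.range := by
  rintro _ ⟨x, rfl⟩
  have hx : x ∈ Subgroup.closure (Set.range (PresentedGroup.of (rels := chevG2.steinbergRelsAB (ZMod 5)))) := by
    rw [PresentedGroup.closure_range_of]; exact Subgroup.mem_top x
  induction hx using Subgroup.closure_induction with
  | mem y hy =>
    obtain ⟨p, rfl⟩ := hy
    simp only [G2Iso.rep, PresentedGroup.toGroup.of]
    exact gen_mem_range _ _
  | one => rw [map_one]; exact one_mem _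
  | mul a b _ _ ha hb => rw [map_mul]; exact mul_mem ha hb
  | inv a _ ha => rw [map_inv]; exact inv_mem ha

theorem card_chev : Nat.card ↥(chevG2.group (ZMod 5)) = 5859000000 := by
  rw [Cfsg.Agent.S1059.result (q := 5) (ZMod.card 5)]; norm_num

theorem isSimple_chev : IsSimpleGroup ↥(chevG2.group (ZMod 5)) := by
  obtain ⟨T, g, hT, -⟩ := Chev.exists_goodS (D := chevG2) (by simp)
  rw [← hT]
  exact (Chev.Tab.group_simple g (Or.inr ⟨2, by decide, by decide⟩)).1

theorem card_rep_range : Nat.card (G2Iso.rep (ZMod 5)).range = Nat.card (Lie.G2 (ZMod 5)) := by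
  obtain ⟨θ₀⟩ := steinberg_equiv (ZMod 5)
  obtain ⟨e, -⟩ := Cfsg.Agent.S2397.result (K := ZMod 5) chevG2 (by simp) (fun _ => ⟨2, by decide, by decide⟩)
  let θ := e.trans θ₀
  haveI := isSimple_chev
  haveI := θ.isSimpleGroup
  rcases (inferInstance : (G2Iso.rep (ZMod 5)).ker.Normal).eq_bot_or_eq_top with h | h
  · have hinj := (MonoidHom.ker_eq_bot_iff _).1 h
    rw [Nat.card_congr (MonoidHom.ofInjective hinj).toEquiv.symm, Nat.card_congr θ.toEquiv, card_chev,
      card_G2_eq, ZMod.card]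
    norm_num
  · exfalso
    have h1 : gen (F := ZMod 5) 6 1 = 1 := by
      have : G2Iso.rep (ZMod 5) (PresentedGroup.of (⟨6, by decide⟩, 1)) = 1 :=
        MonoidHom.mem_ker.1 (h ▸ Subgroup.mem_top _)
      simpa [G2Iso.rep] using this
    have h2 := app_gen (F := ZMod 5) (show 6 < 12 by norm_num) 1 (Pi.single 1 1) 2
    rw [h1, app_one] at h2
    simp [rAct, G2Iso.row, G2Iso.tab, ext8] at h2

theorem toG2_range : toG2.range = Lie.G2 (ZMod 5) := by
  refine le_antisymm (by rintro _ ⟨h, rfl⟩; exact toG2_mem h) ?_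
  have hle : (G2Iso.rep (ZMod 5)).range ≤ Lie.G2 (ZMod 5) := by rintro _ ⟨x, rfl⟩; exact G2Iso.rep_mem x
  rw [← Subgroup.eq_of_le_of_card_ge hle card_rep_range.ge]
  exact rep_range_le

theorem card_H0 : Nat.card H0 = 5859000000 := by
  refine le_antisymm card_H0_le ?_
  have h := Nat.card_le_card_of_surjective _ toG2.rangeRestrict_surjective
  rwa [toG2_range, card_G2_eq, ZMod.card] at h

/-- The presented group is `G₂(5)`. -/
theorem nonempty_H0_equiv : Nonempty (H0 ≃* ↥(chevG2.group (ZMod 5))) := by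
  obtain ⟨e⟩ := exists_iso (F := ZMod 5) (by simp)
  let f : H0 →* ↥(Lie.G2 (ZMod 5)) := toG2.codRestrict _ toG2_mem
  have hs : Function.Surjective f := fun y => by
    obtain ⟨h, hh⟩ : (y : GL (Fin 8) (ZMod 5)) ∈ toG2.range := by rw [toG2_range]; exact y.2
    exact ⟨h, Subtype.ext hh⟩
  have hc : Nat.card H0 = Nat.card ↥(Lie.G2 (ZMod 5)) := by
    rw [card_H0, ← card_chev, Nat.card_congr e.toEquiv]
  exact ⟨(MulEquiv.ofBijective f ((Nat.bijective_iff_surjective_and_card f).2 ⟨hs, hc⟩)).trans e.symm⟩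

theorem isSimple_H0 : IsSimpleGroup H0 := by
  obtain ⟨e⟩ := nonempty_H0_equiv
  haveI := isSimple_chev
  exact e.isSimpleGroup

/-- Once the image is not trivial it is `G₂(5)`. -/
theorem nonempty_range_equiv (h : ∃ x, psiLy x ≠ 1) :
    Nonempty (↥psiLy.range ≃* ↥(chevG2.group (ZMod 5))) := by
  obtain ⟨e⟩ := nonempty_H0_equiv
  haveI := isSimple_H0
  have hinj : Function.Injective psiLy := by
    rcases (inferInstance : psiLy.ker.Normal).eq_bot_or_eq_top with h' | h'
    · exact (MonoidHom.ker_eq_bot_iff _).1 h'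
    · obtain ⟨x, hx⟩ := h
      exact absurd (MonoidHom.mem_ker.1 (h' ▸ Subgroup.mem_top x)) hx
  exact ⟨(MonoidHom.ofInjective hinj).symm.trans e⟩

theorem card_range_eq (h : ∃ x, psiLy x ≠ 1) : Nat.card psiLy.range = 5859000000 := by
  obtain ⟨e⟩ := nonempty_range_equiv h
  rw [Nat.card_congr e.toEquiv, card_chev]

end

end Cfsg.Agent.Lyons
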