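import Cfsg.Agent.Lib.Lyons.HRels
import Cfsg.Agent.Lib.Lyons.ChainGL
import Cfsg.Agent.Lib.Lyons.ChainN
import Cfsg.Agent.Lib.Lyons.ChainH
import Mathlib.GroupTheory.PresentedGroup

/-!
The group presented by relations 1–44, 46 and 47 of the Lyons group has at most 5859000000 elements.
-/

set_option autoImplicit false
set_option maxRecDepth 100000

namespace Cfsg.Agent.Lyons

open Cfsg.Agent.CosetCert

noncomputable section

/-- The free generator with number `x`. -/
def freeGen (x : ℕ) : FreeGroup (Fin 11) := if h : x < 11 then FreeGroup.of ⟨x, h⟩ else 1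

/-- The relators as elements of the free group. -/
def relSetH : Set (FreeGroup (Fin 11)) := {r | ∃ w ∈ relsH, r = wv freeGen w}

/-- The presented group. -/
abbrev H0 : Type := PresentedGroup relSetH

/-- The generator with number `x`. -/
def gen0 (x : ℕ) : H0 := if h : x < 11 then PresentedGroup.of ⟨x, h⟩ else 1

theorem mk_freeGen (x : ℕ) : PresentedGroup.mk relSetH (freeGen x) = gen0 x := by
  unfold freeGen gen0
  split
  · rfl
  · exact map_one _

theorem rel0 {w : List ℕ} (h : w ∈ relsH) : wv gen0 w = 1 := by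
  rw [← funext mk_freeGen, ← map_wv]
  exact PresentedGroup.one_of_mem ⟨w, h, rfl⟩

theorem closure_gen0 : Subgroup.closure (gen0 '' {x | x < 11}) = ⊤ := by
  rw [eq_top_iff, ← PresentedGroup.closure_range_of relSetH, Subgroup.closure_le]
  rintro _ ⟨i, rfl⟩
  exact Subgroup.subset_closure ⟨i, i.2, by simp [gen0]⟩

/-- The selection of generators used by the table of the parabolic subgroup. -/
def embN (i : ℕ) : ℕ := [0, 1, 2, 5, 6, 7, 8].getD i 11

/-- Translate the letters. -/
def embW (e : ℕ → ℕ) (w : List ℕ) : List ℕ := w.map fun l => 2 * e (l / 2) + l % 2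

theorem wv_embW {G : Type*} [Group G] (g : ℕ → G) (e : ℕ → ℕ) (w : List ℕ) :
    wv (fun i => g (e i)) w = wv g (embW e w) := by
  induction w with
  | nil => rfl
  | cons l w ih =>
    rw [wv_cons, ih]
    show _ = wv g ((2 * e (l / 2) + l % 2) :: embW e w)
    rw [wv_cons]
    congr 1
    have h1 : (2 * e (l / 2) + l % 2) / 2 = e (l / 2) := by omega
    have h2 : (2 * e (l / 2) + l % 2) % 2 = l % 2 := by omega
    simp [lt', h1, h2]

/-- The relators of a table are among those of `H0`. -/
def relsOK (e : ℕ → ℕ) (t : WTab) : Bool :=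
  t.entries.all fun w => decide (w = [] ∨ embW e w ∈ relsH)

theorem rels_of_ok {e : ℕ → ℕ} {t : WTab} (h : relsOK e t = true) (i : ℕ) :
    wv (fun i => gen0 (e i)) (t.get i) = 1 := by
  have := List.all_eq_true.1 h _ (WTab.get_mem t i)
  rcases of_decide_eq_true this with h0 | h0
  · rw [h0, wv_nil]
  · rw [wv_embW]; exact rel0 h0

theorem relsGL_ok : relsOK id ChainGL.cert.rels = true := by decide +kernel
theorem relsN_ok : relsOK embN ChainN.cert.rels = true := by decide +kernel
theorem relsH_ok : relsOK id ChainH.cert.rels = true := by decide +kernel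

/-- The two parabolic generators are redundant. -/
theorem gen_a2 : gen0 9 = gen0 1 * gen0 0 * (gen0 1)⁻¹ := by
  have h := rel0 (w := [18, 2, 1, 3]) (by decide +kernel)
  simp only [wv, List.map_cons, List.map_nil, List.prod_cons, List.prod_nil, lt', mul_one] at h
  norm_num at h
  rw [eq_inv_of_mul_eq_one_left h]
  simp [mul_assoc]

theorem gen_a3 : gen0 10 = gen0 1 * gen0 1 * gen0 0 * (gen0 1)⁻¹ * (gen0 1)⁻¹ := by
  have h := rel0 (w := [20, 2, 2, 1, 3, 3]) (by decide +kernel)
  simp only [wv, List.map_cons, List.map_nil, List.prod_cons, List.prod_nil, lt', mul_one] at h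
  norm_num at h
  rw [eq_inv_of_mul_eq_one_left h]
  simp [mul_assoc]

theorem cardLe_H0 : CardLe (⊤ : Subgroup H0) 5859000000 := by
  have h1 : CardLe (Subgroup.closure (gen0 '' {x | x < 2})) (480 * 1) :=
    ChainGL.cardLe (gen := gen0) (fun i => rels_of_ok relsGL_ok i) (by intro l hl; simp [ChainGL.sub] at hl)
      cardLe_bot
  have h2 : CardLe (Subgroup.closure ((fun i => gen0 (embN i)) '' {x | x < 7})) (3125 * (480 * 1)) :=
    ChainN.cardLe (fun i => rels_of_ok relsN_ok i) (by
      intro l hl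
      have : l = 0 ∨ l = 2 := by simpa [ChainN.sub] using hl
      rcases this with rfl | rfl
      · exact lt'_mem _ (Subgroup.subset_closure ⟨0, by norm_num, rfl⟩)
      · exact lt'_mem _ (Subgroup.subset_closure ⟨1, by norm_num, rfl⟩)) h1
  have h3 : CardLe (Subgroup.closure (gen0 '' {x | x < 9})) (3906 * (3125 * (480 * 1))) :=
    ChainH.cardLe (gen := gen0) (fun i => rels_of_ok relsH_ok i) (by
      intro l hl
      have : l = 0 ∨ l = 2 ∨ l = 4 ∨ l = 10 ∨ l = 12 ∨ l = 14 ∨ l = 16 := by simpa [ChainH.sub] using hl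
      rcases this with rfl | rfl | rfl | rfl | rfl | rfl | rfl
      · exact lt'_mem _ (Subgroup.subset_closure ⟨0, by norm_num, rfl⟩)
      · exact lt'_mem _ (Subgroup.subset_closure ⟨1, by norm_num, rfl⟩)
      · exact lt'_mem _ (Subgroup.subset_closure ⟨2, by norm_num, rfl⟩)
      · exact lt'_mem _ (Subgroup.subset_closure ⟨3, by norm_num, rfl⟩)
      · exact lt'_mem _ (Subgroup.subset_closure ⟨4, by norm_num, rfl⟩)
      · exact lt'_mem _ (Subgroup.subset_closure ⟨5, by norm_num, rfl⟩)
      · exact lt'_mem _ (Subgroup.subset_closure ⟨6, by norm_num, rfl⟩)) h2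
  refine CardLe.mono h3 ?_
  rw [← closure_gen0, Subgroup.closure_le]
  rintro _ ⟨x, hx, rfl⟩
  have hm : ∀ y < 9, gen0 y ∈ Subgroup.closure (gen0 '' {x | x < 9}) := fun y hy =>
    Subgroup.subset_closure ⟨y, hy, rfl⟩
  rcases lt_or_ge x 9 with h9 | h9
  · exact hm x h9
  · obtain rfl | rfl : x = 9 ∨ x = 10 := by have := Set.mem_ofPred_eq ▸ hx; omega
    · rw [gen_a2]
      exact mul_mem (mul_mem (hm 1 (by norm_num)) (hm 0 (by norm_num))) (inv_mem (hm 1 (by norm_num)))
    · rw [gen_a3]
      exact mul_mem (mul_mem (mul_mem (mul_mem (hm 1 (by norm_num)) (hm 1 (by norm_num))) (hm 0 (by norm_num)))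
        (inv_mem (hm 1 (by norm_num)))) (inv_mem (hm 1 (by norm_num)))

instance : Finite H0 := (cardLe_H0.of_top).1

theorem card_H0_le : Nat.card H0 ≤ 5859000000 := (cardLe_H0.of_top).2

end

end Cfsg.Agent.Lyons
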