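import Cfsg.Agent.Lib.Lyons.OrbData

/-! Kernel checks of the orbit certificates and of the table. -/

set_option autoImplicit false
set_option maxHeartbeats 0

namespace Cfsg.Agent.Lyons

open Cfsg.Agent.CosetCert


theorem top_ok : orbCheck OrbData.top = true := by decide +kernel
theorem top_full : orbFull OrbData.top = true := by decide +kernel
theorem kOne_ok : orbCheck OrbData.kOne = true := by decide +kernel
theorem kTwo_ok : orbCheck OrbData.kTwo = true := by decide +kernel
theorem stab1a_ok : orbCheck OrbData.stab1a = true := by decide +kernel
theorem stab1b_ok : orbCheck OrbData.stab1b = true := by decide +kernel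
theorem stab2a_ok : orbCheck OrbData.stab2a = true := by decide +kernel
theorem stab2b_ok : orbCheck OrbData.stab2b = true := by decide +kernel
theorem stab3a_ok : orbCheck OrbData.stab3a = true := by decide +kernel
theorem stab3b_ok : orbCheck OrbData.stab3b = true := by decide +kernel
theorem stab4a_ok : orbCheck OrbData.stab4a = true := by decide +kernel
theorem stab4b_ok : orbCheck OrbData.stab4b = true := by decide +kernel

end Cfsg.Agent.Lyons
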