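import Cfsg.Agent.Lib.Lyons.PermBase

/-! The relators fix every block with the identity inside, part 0. -/

set_option autoImplicit false
set_option maxHeartbeats 0

namespace Cfsg.Agent.Lyons

open Cfsg.Agent.CosetCert

theorem relBlk0 : allBelow (fun i => relsH.all fun w => Nat.beq (blkW w (128 * (0 + i))) (128 * (0 + i))) 977 = true := by
  decide +kernel

end Cfsg.Agent.Lyons
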