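import Cfsg.Agent.Lib.Lyons.HGroup
import Cfsg.Agent.Lib.Lyons.PermCheck0
import Cfsg.Agent.Lib.Lyons.PermCheck1
import Cfsg.Agent.Lib.Lyons.PermCheck2
import Cfsg.Agent.Lib.Lyons.PermCheck3
import Cfsg.Agent.Lib.Lyons.OrbCheck
import Cfsg.Agent.Lib.Lyons.BlockCheck
import Mathlib.GroupTheory.GroupAction.Quotient

/-!
The action of the group of order 5859000000 on 19530 points: three base points determine an element.
-/

set_option autoImplicit false
set_option maxRecDepth 100000

namespace Cfsg.Agent.Lyons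

open Cfsg.Agent.CosetCert

noncomputable section

theorem pimg_lt {k i : ℕ} (hk : k < 120) (hi : i < 5) : pimg k i < 5 := by
  have := allBelow_spec (allBelow_spec pimgCheck_ok hk) hi
  simp only [Bool.and_eq_true, Nat.blt_eq] at this
  exact this.1

theorem pimg_zero {i : ℕ} (hi : i < 5) : pimg 0 i = i := by
  have := allBelow_spec (allBelow_spec pimgCheck_ok (i := 0) (by norm_num)) hi
  simp only [Bool.and_eq_true, Bool.or_eq_true, Nat.beq_eq, Bool.not_eq_true'] at this
  exact this.2.resolve_left (by simp)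

theorem cay_spec {k m : ℕ} (hk : k < 120) (hm : m < 120) :
    cay k m < 120 ∧ ∀ i < 5, pimg (cay k m) i = pimg m (pimg k i) := by
  have := allBelow_spec cayCheck_ok hk
  simp only [Bool.and_eq_true] at this
  have h2 := allBelow_spec this.2 hm
  simp only [Bool.and_eq_true, Nat.blt_eq] at h2
  exact ⟨h2.1, fun i hi => Nat.eq_of_beq_eq_true (allBelow_spec h2.2 hi)⟩

theorem cay_zero {k : ℕ} (hk : k < 120) : cay 0 k = k := by
  have := allBelow_spec cayCheck_ok hk
  simp only [Bool.and_eq_true, Nat.beq_eq] at this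
  exact this.1

theorem blk_spec {l p : ℕ} (hl : l < 22) (hp : p < 3906) :
    blk l p / 128 < 3906 ∧ blk l p % 128 < 120 ∧ blkW [l, flipL l] (128 * p) = 128 * p := by
  have := allBelow_spec (blkCheck_ok p hp) hl
  simp only [Bool.and_eq_true, Nat.blt_eq, Nat.beq_eq] at this
  exact ⟨this.1.1, this.1.2, this.2⟩

theorem actL_eq {l p i : ℕ} (hi : i < 5) : actL l (5 * p + i) = 5 * (blk l p / 128) + pimg (blk l p % 128) i := by
  have h1 : (5 * p + i) / 5 = p := by omega
  have h2 : (5 * p + i) % 5 = i := by omega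
  simp only [actL, putPt, force_eq]
  show 5 * (blk l ((5 * p + i) / 5) / 128) + pimg (blk l ((5 * p + i) / 5) % 128) ((5 * p + i) % 5) = _
  rw [h1, h2]

theorem blkW_cons (l : ℕ) (w : List ℕ) (s : ℕ) : blkW (l :: w) s =
    blkW w (128 * (blk l (s / 128) / 128) + cay (s % 128) (blk l (s / 128) % 128)) := by
  show (force s fun s => force (blk l (Nat.div s 128)) fun e =>
      blkW w (Nat.add (Nat.mul 128 (Nat.div e 128)) (cay (Nat.mod s 128) (Nat.mod e 128)))) = _
  simp only [force_eq]
  rfl

theorem actW_cons (l : ℕ) (w : List ℕ) (q : ℕ) : actW (l :: w) q = actW w (actL l q) := by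
  show (force q fun q => actW w (actL l q)) = _
  rw [force_eq]

theorem blkW_spec : ∀ {w : List ℕ}, (∀ l ∈ w, l < 22) → ∀ {p k i : ℕ}, p < 3906 → k < 120 → i < 5 →
    ∃ p' k', p' < 3906 ∧ k' < 120 ∧ blkW w (128 * p + k) = 128 * p' + k' ∧
      actW w (5 * p + pimg k i) = 5 * p' + pimg k' i := by
  intro w
  induction w with
  | nil => intro _ p k i hp hk _; exact ⟨p, k, hp, hk, rfl, rfl⟩
  | cons l w ih =>
    intro hw p k i hp hk hi
    obtain ⟨h1, h2, -⟩ := blk_spec (hw l List.mem_cons_self) hp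
    obtain ⟨h3, h4⟩ := cay_spec hk h2
    obtain ⟨p', k', a, b, c, d⟩ := ih (fun y hy => hw y (List.mem_cons_of_mem _ hy)) h1 h3 hi
    refine ⟨p', k', a, b, ?_, ?_⟩
    · rw [blkW_cons, show (128 * p + k) / 128 = p by omega, show (128 * p + k) % 128 = k by omega, c]
    · rw [actW_cons, actL_eq (pimg_lt hk hi), ← h4 i hi, d]

theorem actW_block {w : List ℕ} (hw : ∀ l ∈ w, l < 22) {p i : ℕ} (hp : p < 3906) (hi : i < 5)
    (h : blkW w (128 * p) = 128 * p) : actW w (5 * p + i) = 5 * p + i := by
  obtain ⟨p', k', -, hk', e1, e2⟩ := blkW_spec hw (k := 0) hp (by norm_num) hi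
  rw [pimg_zero hi] at e2
  rw [add_zero, h] at e1
  obtain ⟨rfl, rfl⟩ : p' = p ∧ k' = 0 := by omega
  rw [e2, pimg_zero hi]

theorem actL_spec {l q : ℕ} (hl : l < 22) (hq : q < 19530) :
    actL l q < 19530 ∧ actL (flipL l) (actL l q) = q := by
  obtain ⟨p, i, hp, hi, rfl⟩ : ∃ p i, p < 3906 ∧ i < 5 ∧ q = 5 * p + i :=
    ⟨q / 5, q % 5, by omega, by omega, by omega⟩
  obtain ⟨h1, h2, h3⟩ := blk_spec hl hp
  refine ⟨?_, ?_⟩
  · rw [actL_eq hi]
    have := pimg_lt h2 hi
    omega
  · have hw : ∀ x ∈ [l, flipL l], x < 22 := by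
      intro x hx
      simp only [List.mem_cons, List.not_mem_nil, or_false] at hx
      rcases hx with rfl | rfl
      · exact hl
      · simp only [flipL]
        cases h : Nat.beq (Nat.mod l 2) 0
        · show l - 1 < 22
          omega
        · show l + 1 < 22
          have : l % 2 = 0 := Nat.eq_of_beq_eq_true h
          omega
    simpa [actW_cons, actW] using actW_block hw hp hi h3

theorem relsH_letters : ∀ w ∈ relsH, ∀ l ∈ w, l < 22 := by decide +kernel

theorem actW_lt {w : List ℕ} (hw : ∀ l ∈ w, l < 22) : ∀ {q : ℕ}, q < 19530 → actW w q < 19530 := by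
  induction w with
  | nil => intro q hq; exact hq
  | cons l w ih =>
    intro q hq
    rw [actW_cons]
    exact ih (fun x hx => hw x (List.mem_cons_of_mem _ hx)) (actL_spec (hw l List.mem_cons_self) hq).1

theorem actW_fix {w : List ℕ} (hw : w ∈ relsH) {q : ℕ} (hq : q < 19530) : actW w q = q := by
  obtain ⟨p, i, hp, hi, rfl⟩ : ∃ p i, p < 3906 ∧ i < 5 ∧ q = 5 * p + i :=
    ⟨q / 5, q % 5, by omega, by omega, by omega⟩
  refine actW_block (relsH_letters w hw) hp hi ?_
  have key : ∀ {n s : ℕ},
      allBelow (fun i => relsH.all fun w => Nat.beq (blkW w (128 * (s + i))) (128 * (s + i))) n = true →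
        s ≤ p → p < s + n → blkW w (128 * p) = 128 * p := by
    intro n s h h1 h2
    have := List.all_eq_true.1 (allBelow_spec h (i := p - s) (by omega)) w hw
    rw [Nat.add_sub_cancel' h1] at this
    exact Nat.eq_of_beq_eq_true this
  rcases lt_or_ge p 977 with h | h
  · exact key relBlk0 (by omega) (by omega)
  rcases lt_or_ge p 1954 with h' | h'
  · exact key relBlk1 (by omega) (by omega)
  rcases lt_or_ge p 2931 with h'' | h''
  · exact key relBlk2 (by omega) (by omega)
  · exact key relBlk3 (by omega) (by omega)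

/-- The generator `i` on all numbers. -/
def genP (i : ℕ) : Equiv.Perm ℕ where
  toFun q := if i < 11 ∧ q < 19530 then actL (2 * i + 1) q else q
  invFun q := if i < 11 ∧ q < 19530 then actL (2 * i) q else q
  left_inv q := by
    by_cases h : i < 11 ∧ q < 19530
    · obtain ⟨h1, h2⟩ := actL_spec (show 2 * i + 1 < 22 by omega) h.2
      have hf : flipL (2 * i + 1) = 2 * i := by
        have hm : Nat.mod (2 * i + 1) 2 = 1 := show (2 * i + 1) % 2 = 1 by omega
        rw [flipL, hm]
        rfl
      rw [hf] at h2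
      simp [h, h1, h2]
    · simp [h]
  right_inv q := by
    by_cases h : i < 11 ∧ q < 19530
    · obtain ⟨h1, h2⟩ := actL_spec (show 2 * i < 22 by omega) h.2
      have hf : flipL (2 * i) = 2 * i + 1 := by
        have hm : Nat.mod (2 * i) 2 = 0 := show 2 * i % 2 = 0 by omega
        rw [flipL, hm]
        rfl
      rw [hf] at h2
      simp [h, h1, h2]
    · simp [h]

theorem wv_genP_symm : ∀ (w : List ℕ), (∀ l ∈ w, l < 22) → ∀ {q : ℕ}, q < 19530 →
    (wv genP w).symm q = actW w q := by
  intro w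
  induction w with
  | nil => intro _ q _; simp [wv, actW, Equiv.Perm.one_def]
  | cons l w ih =>
    intro hw q hq
    have hl := hw l List.mem_cons_self
    rw [wv_cons, Equiv.Perm.mul_def, Equiv.symm_trans_apply]
    have hs : (lt' genP l).symm q = actL l q := by
      by_cases he : l % 2 = 0
      · rw [lt', if_pos he]
        show (if l / 2 < 11 ∧ q < 19530 then actL (2 * (l / 2)) q else q) = _
        rw [if_pos ⟨by omega, hq⟩]
        congr 1
        omega
      · rw [lt', if_neg he]
        show (if l / 2 < 11 ∧ q < 19530 then actL (2 * (l / 2) + 1) q else q) = _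
        rw [if_pos ⟨by omega, hq⟩]
        congr 1
        omega
    rw [hs]
    rw [ih (fun x hx => hw x (List.mem_cons_of_mem _ hx)) (actL_spec hl hq).1, actW_cons]

theorem genP_out (i : ℕ) {q : ℕ} (hq : ¬ q < 19530) : genP i q = q := if_neg fun h => hq h.2

theorem wv_genP_out (w : List ℕ) {q : ℕ} (hq : ¬ q < 19530) : wv genP w q = q := by
  induction w with
  | nil => simp
  | cons l w ih =>
    rw [wv_cons, Equiv.Perm.mul_apply, ih]
    by_cases he : l % 2 = 0
    · rw [lt', if_pos he, genP_out _ hq]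
    · rw [lt', if_neg he]
      conv_lhs => rw [← genP_out (l / 2) hq]
      exact (genP (l / 2)).symm_apply_apply q

theorem wv_genP_rel {w : List ℕ} (hw : w ∈ relsH) : wv genP w = 1 := by
  refine inv_eq_one.1 (Equiv.ext fun q => ?_)
  show (wv genP w).symm q = q
  by_cases hq : q < 19530
  · rw [wv_genP_symm w (relsH_letters w hw) hq, actW_fix hw hq]
  · conv_lhs => rw [← wv_genP_out w hq]
    exact (wv genP w).symm_apply_apply q

/-- The permutation representation. -/
def perm : H0 →* Equiv.Perm ℕ :=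
  PresentedGroup.toGroup (f := fun i : Fin 11 => genP i) (by
    rintro r ⟨w, hw, rfl⟩
    rw [map_wv]
    have : (fun x => FreeGroup.lift (fun i : Fin 11 => genP i) (freeGen x)) = genP := by
      funext x
      by_cases hx : x < 11
      · simp [freeGen, hx]
      · simp only [freeGen, dif_neg hx, map_one]
        exact (Equiv.ext fun q => (if_neg fun h => hx h.1).symm)
    rw [this]
    exact wv_genP_rel hw)

/-- The image of a point, from the right. -/
def pt (h : H0) (q : ℕ) : ℕ := (perm h).symm q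

theorem pt_mul (g h : H0) (q : ℕ) : pt (g * h) q = pt h (pt g q) := by
  simp [pt, Equiv.Perm.mul_def]

theorem pt_one (q : ℕ) : pt 1 q = q := by simp [pt, Equiv.Perm.one_def]

/-- An element given by a word. -/
abbrev el (w : List ℕ) : H0 := wv gen0 w

theorem pt_el {w : List ℕ} (hw : ∀ l ∈ w, l < 22) {q : ℕ} (hq : q < 19530) : pt (el w) q = actW w q := by
  rw [pt, map_wv]
  have : wv (fun x => perm (gen0 x)) w = wv genP w := wv_congr _ fun l hl => by
    have := hw l hl
    simp [gen0, show l / 2 < 11 by omega, perm]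
  rw [this, wv_genP_symm w hw hq]

/-- The action from the left. -/
local instance actionH0 : MulAction H0 ℕ := MulAction.compHom ℕ perm

theorem inv_smul_eq_pt (h : H0) (q : ℕ) : h⁻¹ • q = pt h q := by
  show perm h⁻¹ q = _
  rw [map_inv]; rfl

theorem perm_out (k : H0) {q : ℕ} (hq : ¬ q < 19530) : perm k q = q := by
  have hk : k ∈ Subgroup.closure (gen0 '' {x | x < 11}) := closure_gen0 ▸ Subgroup.mem_top k
  induction hk using Subgroup.closure_induction with
  | mem x hx =>
    obtain ⟨i, hi, rfl⟩ := hx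
    simp [gen0, Set.mem_ofPred_eq ▸ hi, perm, genP_out _ hq]
  | one => simp
  | mul x y _ _ hx hy => rw [map_mul, Equiv.Perm.mul_apply, hy, hx]
  | inv x _ hx =>
    rw [map_inv]
    conv_lhs => rw [← hx]
    exact (perm x).symm_apply_apply q

theorem orb_spec {O : Orb} (hO : orbCheck O = true) {S : Subgroup H0}
    (hS : ∀ w ∈ O.ws, el w ∈ S) {j : ℕ} (hj : j < O.n) : ∃ h ∈ S, pt h O.b = O.pts.get j := by
  simp only [orbCheck, Bool.and_eq_true, Nat.blt_eq, Nat.beq_eq, List.all_eq_true] at hO
  obtain ⟨⟨⟨⟨-, hb⟩, h0⟩, hl⟩, hall⟩ := hO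
  induction j using Nat.strong_induction_on with
  | _ j ih =>
    have := allLong_spec hall hj
    simp only [Bool.and_eq_true, Bool.or_eq_true, Nat.beq_eq, Nat.blt_eq] at this
    rcases this.2 with rfl | ⟨h1, h2⟩
    · exact ⟨1, S.one_mem, by rw [pt_one, h0]⟩
    · obtain ⟨h, hh, e⟩ := ih _ h1 (h1.trans hj)
      rcases lt_or_ge (O.gen.get j) O.ws.length with hg | hg
      · have hmem : getW O.ws (O.gen.get j) ∈ O.ws := by
          rw [getW_eq, List.getD_eq_getElem _ _ hg]; exact List.getElem_mem hg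
        refine ⟨h * el (getW O.ws (O.gen.get j)), S.mul_mem hh (hS _ hmem), ?_⟩
        rw [pt_mul, e, pt_el (letOK_spec (hl _ hmem)) ?_, h2]
        · have hlt : ∀ k : H0, pt k O.b < 19530 := fun k => by
            by_contra hk
            have := (perm k).apply_symm_apply O.b
            rw [show (perm k).symm O.b = pt k O.b from rfl] at this
            have hfix : perm k (pt k O.b) = pt k O.b := perm_out k hk
            exact hk (by rw [← hfix, this]; exact hb)
          exact e ▸ hlt h
      · rw [getW_eq, List.getD_eq_default _ _ hg] at h2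
        exact ⟨h, hh, e.trans h2⟩

theorem orb_le {O : Orb} (hO : orbCheck O = true) {S T : Subgroup H0} (hS : ∀ w ∈ O.ws, el w ∈ S)
    (hT : T ≤ S) (hTb : ∀ t ∈ T, pt t O.b = O.b) : O.n * Nat.card T ≤ Nat.card S := by
  let f : Fin O.n × T → S := fun q => ⟨(q.2 : H0) * (orb_spec hO hS q.1.2).choose,
    S.mul_mem (hT q.2.2) (orb_spec hO hS q.1.2).choose_spec.1⟩
  have hf : Function.Injective f := by
    rintro ⟨i, t⟩ ⟨j, u⟩ e
    have e' : (t : H0) * _ = (u : H0) * _ := congrArg Subtype.val e
    have h1 := congrArg (fun h => pt h O.b) e'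
    simp only [pt_mul, hTb _ t.2, hTb _ u.2, (orb_spec hO hS i.2).choose_spec.2,
      (orb_spec hO hS j.2).choose_spec.2] at h1
    simp only [orbCheck, Bool.and_eq_true] at hO
    have ii := allLong_spec hO.2 i.2
    have jj := allLong_spec hO.2 j.2
    simp only [Bool.and_eq_true, Nat.beq_eq] at ii jj
    obtain rfl : i = j := Fin.ext (by rw [← ii.1, h1, jj.1])
    exact Prod.ext rfl (Subtype.ext (mul_right_cancel e'))
  simpa [Nat.card_prod] using Nat.card_le_card_of_injective f hf

/-- The subgroup fixing a point. -/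
def fixPt (q : ℕ) : Subgroup H0 where
  carrier := {h | pt h q = q}
  one_mem' := pt_one q
  mul_mem' := fun {g h} hg hh => by
    show pt (g * h) q = q
    rw [pt_mul, show pt g q = q from hg, show pt h q = q from hh]
  inv_mem' := fun {g} hg => by
    show pt g⁻¹ q = q
    have : pt (g * g⁻¹) q = q := by rw [mul_inv_cancel, pt_one]
    rwa [pt_mul, show pt g q = q from hg] at this

/-- The subgroup generated by the letters `a, c, c2, c3, c4, c5, a2, a3`. -/
def subK : Subgroup H0 := Subgroup.closure (el '' {w | w ∈ OrbData.kOne.ws})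

/-- The subgroup generated by some words. -/
def wSub (ws : List (List ℕ)) : Subgroup H0 := Subgroup.closure (el '' {w | w ∈ ws})

theorem mem_wSub {ws : List (List ℕ)} {w : List ℕ} (h : w ∈ ws) : el w ∈ wSub ws :=
  Subgroup.subset_closure ⟨w, h, rfl⟩

/-- Words fixing some points. -/
def fixCheck (ws : List (List ℕ)) (qs : List ℕ) : Bool :=
  ws.all fun w => letOK w && qs.all fun q => Nat.blt q 19530 && Nat.beq (actW w q) q

theorem wSub_le_fix {ws : List (List ℕ)} {qs : List ℕ} (h : fixCheck ws qs = true) {q : ℕ} (hq : q ∈ qs) :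
    wSub ws ≤ fixPt q := by
  rw [wSub, Subgroup.closure_le]
  rintro _ ⟨w, hw, rfl⟩
  have := List.all_eq_true.1 h w hw
  simp only [Bool.and_eq_true, List.all_eq_true, Nat.blt_eq, Nat.beq_eq] at this
  show pt (el w) q = q
  rw [pt_el (letOK_spec this.1) (this.2 q hq).1, (this.2 q hq).2]

theorem subK_le : subK ≤ fixPt 0 := wSub_le_fix (ws := OrbData.kOne.ws) (qs := [0]) (by decide +kernel) (by simp)

theorem card_fix_le : Nat.card (fixPt 0) ≤ 300000 := by
  have h := orb_le top_ok (S := ⊤) (T := fixPt 0) (fun _ _ => Subgroup.mem_top _) le_top (fun t ht => ht)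
  rw [Subgroup.card_top, show OrbData.top.n = 19530 from rfl] at h
  have := h.trans card_H0_le
  omega

theorem kTwo_mem : ∀ w ∈ OrbData.kTwo.ws, el w ∈ subK := by
  have h : (OrbData.kTwo.ws.all fun w => w.all fun l =>
      decide (l / 2 ∈ [0, 2, 5, 6, 7, 8, 9, 10])) = true := by decide +kernel
  intro w hw
  simp only [List.all_eq_true, decide_eq_true_eq] at h
  refine wv_mem _ fun l hl => ?_
  have e : [2 * (l / 2)] ∈ OrbData.kOne.ws :=
    (by decide +kernel : ∀ x ∈ [0, 2, 5, 6, 7, 8, 9, 10], [2 * x] ∈ OrbData.kOne.ws) _ (h w hw l hl)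
  have := Subgroup.subset_closure (k := el '' {w | w ∈ OrbData.kOne.ws}) ⟨_, e, rfl⟩
  simpa [el, wv, lt', Nat.mul_div_cancel_left, subK] using this

theorem card_subK : 300000 ≤ Nat.card subK := by
  have h2 := orb_le kTwo_ok (S := wSub OrbData.kTwo.ws) (T := ⊥) (fun w hw => mem_wSub hw) bot_le
    (fun t ht => by rw [Subgroup.mem_bot.1 ht, pt_one])
  have h1 := orb_le kOne_ok (S := subK) (T := wSub OrbData.kTwo.ws)
    (fun w hw => Subgroup.subset_closure ⟨w, hw, rfl⟩)
    (by rw [wSub, Subgroup.closure_le]; rintro _ ⟨w, hw, rfl⟩; exact kTwo_mem w hw)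
    (fun t ht => wSub_le_fix (qs := [OrbData.kOne.b]) (by decide +kernel) (by simp) ht)
  rw [show OrbData.kTwo.n = 24 from rfl, Subgroup.card_bot, mul_one] at h2
  rw [show OrbData.kOne.n = 12500 from rfl] at h1
  omega

theorem subK_eq : subK = fixPt 0 :=
  Subgroup.eq_of_le_of_card_ge subK_le (card_fix_le.trans card_subK)

/-- An element fixing the three base points is trivial. -/
theorem eq_one_of_fix {h : H0} (h0 : pt h 0 = 0) (h1 : pt h 11120 = 11120) (h2 : pt h 15658 = 15658) : h = 1 := by
  set T₁ := subK ⊓ fixPt 11120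
  set T₂ := T₁ ⊓ fixPt 15658
  have hk2 : wSub OrbData.kTwo.ws ≤ T₁ := le_inf
    (by rw [wSub, Subgroup.closure_le]; rintro _ ⟨w, hw, rfl⟩; exact kTwo_mem w hw)
    (wSub_le_fix (qs := [11120]) (by decide +kernel) (by simp))
  have a := orb_le kTwo_ok (S := T₁) (T := T₂) (fun w hw => hk2 (mem_wSub hw)) inf_le_left
    (fun t ht => ht.2)
  have b := orb_le kOne_ok (S := subK) (T := T₁) (fun w hw => Subgroup.subset_closure ⟨w, hw, rfl⟩)
    inf_le_left (fun t ht => ht.2)
  rw [show OrbData.kTwo.n = 24 from rfl] at a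
  rw [show OrbData.kOne.n = 12500 from rfl] at b
  have := card_fix_le
  rw [← subK_eq] at this
  have hc : Nat.card T₂ ≤ 1 := by omega
  have hh : h ∈ T₂ := ⟨⟨subK_eq ▸ h0, h1⟩, h2⟩
  rw [Subgroup.card_le_one_iff_eq_bot] at hc
  rw [hc] at hh
  exact Subgroup.mem_bot.1 hh

/-- Equality of two words in the group. -/
def sameW (u v : List ℕ) : Bool :=
  letOK u && letOK v && Nat.beq (actW u 0) (actW v 0) && Nat.beq (actW u 11120) (actW v 11120) &&
    Nat.beq (actW u 15658) (actW v 15658)

theorem eq_of_sameW {u v : List ℕ} (h : sameW u v = true) : el u = el v := by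
  simp only [sameW, Bool.and_eq_true, Nat.beq_eq] at h
  obtain ⟨⟨⟨⟨hu, hv⟩, e0⟩, e1⟩, e2⟩ := h
  have hu := letOK_spec hu
  have hv := letOK_spec hv
  have key : ∀ q, q < 19530 → actW u q = actW v q → pt (el u * (el v)⁻¹) q = q := by
    intro q hq e
    rw [pt_mul, pt_el hu hq, e, ← pt_el hv hq, ← pt_mul, mul_inv_cancel, pt_one]
  exact mul_inv_eq_one.1
    (eq_one_of_fix (key 0 (by norm_num) e0) (key 11120 (by norm_num) e1) (key 15658 (by norm_num) e2))

/-- The point of a left coset of `subK`. -/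
def lptW (w : List ℕ) : ℕ := actW (invL w) 0

theorem el_invL (w : List ℕ) : el (invL w) = (el w)⁻¹ := wv_invL _ w

end

end Cfsg.Agent.Lyons
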