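import Cfsg.Agent.Lib.Lyons.Table

/-! The relators of the presented Lyons group among `a, b, c, d, e, c2, c3, c4, c5, a2, a3` (numbered `0, …, 10`;
relations 1–44, 46 and 47 of the presentation, with `c1 = c` and `a1 = a`). -/

set_option autoImplicit false

namespace Cfsg.Agent.Lyons

/-- The relators. -/
def relsH : List (List ℕ) := [[0, 0, 0, 0, 0, 0, 0, 0], [2, 2, 2, 2, 2], [0, 2, 0, 2, 0, 2, 0, 2], [1, 1, 3, 0, 0, 2], [1, 3, 0, 2, 1, 3, 0, 2, 1, 3, 0, 2], [10, 1, 5, 0], [12, 3, 5, 2], [14, 2, 5, 3], [16, 11, 5, 10, 4], [4, 4, 4, 4, 4], [16, 16, 16, 16, 16], [5, 17, 4, 16], [11, 17, 10, 16], [13, 17, 12, 16], [15, 17, 14, 16], [5, 13, 4, 12, 16, 16], [5, 15, 4, 14, 17, 17], [11, 13, 10, 12, 16], [11, 15, 10, 14], [13, 15, 12, 14, 16], [1, 10, 0, 4, 4], [1, 12, 0, 15, 5, 12, 12],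 [1, 14, 0, 15, 5, 15, 12, 10, 5], [1, 16, 0, 17, 17], [3, 10, 2, 14, 4, 14, 13, 11], [3, 12, 2, 12, 12, 15, 5, 5], [3, 16, 2, 17], [8, 7, 5, 7, 2, 1, 3, 5, 7, 1, 5, 0, 5, 1, 4, 0, 2, 2], [8, 8], [9, 4, 8, 4, 3, 13, 3], [9, 12, 8, 0, 14, 4, 11, 1, 3, 3], [9, 14, 8, 15, 12, 3, 3], [9, 16, 8, 14, 5, 12, 5], [8, 0, 0, 8, 14, 17, 5, 1, 2, 1, 3, 3, 1], [9, 2, 8, 14, 14, 12, 5], [8, 0, 2, 2, 0, 3, 0, 8, 14, 17, 5, 1, 1], [8, 10, 8, 11, 8, 10, 15, 0, 12, 0, 0, 0], [6, 9, 3, 10, 1, 9, 1, 9, 1, 16, 14, 4, 2, 0, 3, 3, 1], [6, 6, 1, 1, 1, 1], [3, 7, 2, 6], [7, 0, 6, 1, 1, 1], [6, 16, 6, 16, 6, 16, 6, 16, 6, 16], [6, 16, 6, 17, 6, 16, 1, 1], [18, 2, 1, 3], [20, 2, 2, 1, 3, 3]]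

end Cfsg.Agent.Lyons
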