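import Cfsg.Agent.Lib.Lyons.FactCheck
import Cfsg.Agent.Lib.Lyons.CoverCheck1
import Cfsg.Agent.Lib.Lyons.CoverCheck2
import Cfsg.Agent.Lib.Lyons.CoverCheck3
import Cfsg.Agent.Lib.Lyons.CoverCheck4
import Mathlib.GroupTheory.GroupAction.Quotient

/-!
A group satisfying the rules is the union of five double cosets of the image of the group of order 5859000000,
and that image has index at most 8835156.
-/

set_option autoImplicit false
set_option maxRecDepth 100000

namespace Cfsg.Agent.Lyons

open Cfsg.Agent.CosetCert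

noncomputable section

theorem getN_eq (l : List ℕ) : ∀ i, getN l i = l.getD i 0 := by
  induction l with
  | nil => intro i; simp [getN]
  | cons w ws ih =>
    intro i
    change (bif Nat.beq i 0 then w else getN ws (i - 1)) = _
    cases i with
    | zero => simp
    | succ i => simpa [show Nat.beq (i + 1) 0 = false from rfl] using ih i

theorem getN_mem {l : List ℕ} {i : ℕ} (h : i < l.length) : getN l i ∈ l := by
  rw [getN_eq, List.getD_eq_getElem _ _ h]; exact List.getElem_mem h

variable {G : Type*} [Group G] {ψ : H0 →* G} {z : G} {x : ℕ → G}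

/-- The union of the named double cosets. -/
def cosX (ψ : H0 →* G) (x : ℕ → G) : Set G := {g | ∃ k < 5, ∃ h h' : H0, g = ψ h * x k * ψ h'}

theorem cosX_left {g : G} (hg : g ∈ cosX ψ x) (a : H0) : ψ a * g ∈ cosX ψ x := by
  obtain ⟨k, hk, h, h', rfl⟩ := hg
  exact ⟨k, hk, a * h, h', by simp [map_mul, mul_assoc]⟩

theorem cosX_right {g : G} (hg : g ∈ cosX ψ x) (a : H0) : g * ψ a ∈ cosX ψ x := by
  obtain ⟨k, hk, h, h', rfl⟩ := hg
  exact ⟨k, hk, h, h' * a, by simp [map_mul, mul_assoc]⟩

theorem conj_subK (R : DRules ψ z x FactData.data) {c : H0} (hc : c ∈ subK) : z⁻¹ * ψ c * z ∈ ψ.range := by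
  have hone : ∀ w ∈ OrbData.kOne.ws, ∀ l ∈ w, l ∈ kLets := by decide +kernel
  induction hc using Subgroup.closure_induction with
  | mem y hy =>
    obtain ⟨w, hw, rfl⟩ := hy
    exact ⟨el (sigW FactData.data w), (conj_sigW R fun l hl => hone w hw l hl).symm⟩
  | one => exact ⟨1, by simp⟩
  | mul a b _ _ ha hb =>
    obtain ⟨u, hu⟩ := ha
    obtain ⟨v, hv⟩ := hb
    exact ⟨u * v, by rw [map_mul, map_mul, hu, hv]; group⟩
  | inv a _ ha =>
    obtain ⟨u, hu⟩ := ha
    exact ⟨u⁻¹, by rw [map_inv, map_inv, hu]; group⟩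

theorem pt_lt (h : H0) {q : ℕ} (hq : q < 19530) : pt h q < 19530 := by
  by_contra hk
  have hfix : perm h (pt h q) = pt h q := perm_out h hk
  rw [show perm h (pt h q) = q from (perm h).apply_symm_apply q] at hfix
  exact hk (hfix ▸ hq)

theorem lt_of_pts {k : ℕ} {O : Orb} {edges stab : List ℕ}
    (hstep : ∀ j < 19530, covStep FactData.data O edges stab j = true)
    (hG : ∀ n ∈ stab, ((((n < 95 ∧ (FactData.data.fact n).e = 0) ∧ (FactData.data.fact n).i = k) ∧
      (FactData.data.fact n).j = k) ∧ sameW (FactData.data.fact n).v [] = true) ∧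
      letOK (invL (FactData.data.fact n).u) = true)
    (hE : ∀ n ∈ edges, (((n < 95 ∧ (FactData.data.fact n).e = 1) ∧ (FactData.data.fact n).i = k) ∧
      (FactData.data.fact n).j < 5) ∧ letOK (invL (FactData.data.fact n).u) = true) :
    ∀ {j : ℕ}, j < 19530 → O.pts.get j < 19530 := by
  intro j
  induction j using Nat.strong_induction_on with
  | _ j ih =>
    intro hj
    have hs := hstep j hj
    unfold covStep at hs
    cases hc : Nat.blt j edges.length with
    | true =>
      rw [hc, cond_true, Nat.beq_eq] at hs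
      rw [← hs]
      exact actW_lt (letOK_spec (hE _ (getN_mem (by simpa [Nat.blt_eq] using hc))).2) (by norm_num)
    | false =>
      rw [hc, cond_false] at hs
      simp only [Bool.and_eq_true, Nat.blt_eq, Nat.beq_eq] at hs
      rw [← hs.2]
      exact actW_lt (letOK_spec (hG _ (getN_mem hs.1.1)).2) (ih _ hs.1.2 (hs.1.2.trans hj))

theorem cover (R : DRules ψ z x FactData.data) {k : ℕ} {O : Orb} {edges stab : List ℕ}
    (hS : shapeCheck FactData.data k edges stab = true) (hF : orbFull O = true) (hn : O.n = 19530)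
    (hA : allLong (fun j => covStep FactData.data O edges stab j) 9765 = true)
    (hB : allLong (fun j => covStep FactData.data O edges stab (9765 + j)) 9765 = true) (h : H0) :
    x k * ψ h * z ∈ cosX ψ x := by
  simp only [shapeCheck, Bool.and_eq_true, List.all_eq_true, Nat.beq_eq, Nat.blt_eq] at hS
  obtain ⟨hE, hG⟩ := hS
  have hstep : ∀ j < 19530, covStep FactData.data O edges stab j = true := fun j hj => by
    rcases lt_or_ge j 9765 with hlt | hge
    · exact allLong_spec hA hlt
    · have := allLong_spec hB (j := j - 9765) (by omega)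
      rwa [Nat.add_sub_cancel' hge] at this
  have key : ∀ j < 19530, ∀ h : H0, pt h⁻¹ 0 = O.pts.get j → x k * ψ h * z ∈ cosX ψ x := by
    intro j
    induction j using Nat.strong_induction_on with
    | _ j ih =>
      intro hj h hp
      have hs := hstep j hj
      unfold covStep at hs
      cases hc : Nat.blt j edges.length with
      | true =>
        rw [hc, cond_true] at hs
        have hlt : j < edges.length := by simpa [Nat.blt_eq] using hc
        obtain ⟨⟨⟨⟨hn', he⟩, hi⟩, hj'⟩, hl⟩ := hE _ (getN_mem hlt)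
        have hf := holds_all R _ hn'
        simp only [Holds, he, pow_one, hi] at hf
        set f := FactData.data.fact (getN edges j)
        have hroot : pt (el f.u)⁻¹ 0 = O.pts.get j := by
          rw [← el_invL, pt_el (letOK_spec hl) (by norm_num)]
          exact Nat.eq_of_beq_eq_true hs
        have hc0 : (el f.u)⁻¹ * h ∈ subK := by
          rw [subK_eq]
          show pt ((el f.u)⁻¹ * h) 0 = 0
          rw [pt_mul, hroot, ← hp, ← pt_mul, inv_mul_cancel, pt_one]
        obtain ⟨c', hc'⟩ := conj_subK R hc0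
        have : x k * ψ h * z = ψ (el f.A) * x f.j * ψ (el f.v * c') := by
          rw [map_mul ψ (el f.v), hc', ← mul_assoc, ← hf, map_mul, map_inv]
          group
        rw [this]
        exact ⟨f.j, hj', el f.A, el f.v * c', rfl⟩
      | false =>
        rw [hc, cond_false] at hs
        simp only [Bool.and_eq_true, Nat.blt_eq, Nat.beq_eq] at hs
        obtain ⟨⟨hg, hpar⟩, hact⟩ := hs
        obtain ⟨⟨⟨⟨⟨hn', he⟩, hi⟩, hj'⟩, hv⟩, hl⟩ := hG _ (getN_mem hg)
        have hf := holds_all R _ hn'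
        simp only [Holds, he, pow_zero, mul_one, hi, hj', eq_of_sameW hv, wv_nil, map_one] at hf
        set s := el (FactData.data.fact (getN stab (O.gen.get j))).u
        set a := el (FactData.data.fact (getN stab (O.gen.get j))).A
        have hq : O.pts.get (O.par.get j) < 19530 := lt_of_pts hstep hG hE (hpar.trans hj)
        have hp' : pt (s⁻¹ * h)⁻¹ 0 = O.pts.get (O.par.get j) := by
          rw [mul_inv_rev, inv_inv, pt_mul, hp, ← hact]
          have : actW (rootWord FactData.data stab (O.gen.get j)) (O.pts.get (O.par.get j)) =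
              pt s⁻¹ (O.pts.get (O.par.get j)) := by
            rw [← el_invL, pt_el (letOK_spec hl) hq]; rfl
          rw [this, ← pt_mul, inv_mul_cancel, pt_one]
        have hrec := cosX_left (ih _ hpar (hpar.trans hj) (s⁻¹ * h) hp') a
        have : x k * ψ h * z = ψ a * (x k * ψ (s⁻¹ * h) * z) := by
          rw [← mul_assoc (ψ a), ← mul_assoc (ψ a), ← hf, map_mul, map_inv]
          group
        rw [this]
        exact hrec
  have hpt : pt h⁻¹ 0 < 19530 := pt_lt _ (by norm_num)
  have hfull := allLong_spec hF hpt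
  simp only [Bool.and_eq_true, Nat.blt_eq, Nat.beq_eq] at hfull
  exact key _ (hn ▸ hfull.1) h hfull.2.symm

theorem range_union_top (R : DRules ψ z x FactData.data) (hgen : ψ.range ⊔ Subgroup.zpowers z = ⊤) (g : G) :
    g ∈ cosX ψ x := by
  have hz : ∀ g ∈ cosX ψ x, g * z ∈ cosX ψ x := by
    rintro _ ⟨k, hk, h, h', rfl⟩
    have hcov : x k * ψ h' * z ∈ cosX ψ x := by
      interval_cases k
      · exact ⟨1, by norm_num, h', 1, by rw [R.x0, R.x1]; simp⟩
      · exact cover R shape1_ok full1_ok rfl cov1a_ok cov1b_ok h'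
      · exact cover R shape2_ok full2_ok rfl cov2a_ok cov2b_ok h'
      · exact cover R shape3_ok full3_ok rfl cov3a_ok cov3b_ok h'
      · exact cover R shape4_ok full4_ok rfl cov4a_ok cov4b_ok h'
    simpa [mul_assoc] using cosX_left hcov h
  have hz' : ∀ g ∈ cosX ψ x, g * z⁻¹ ∈ cosX ψ x := fun g hg => by
    rw [z_inv R, ← mul_assoc]
    exact cosX_right (hz g hg) _
  have hg : g ∈ Subgroup.closure (Set.range ψ ∪ {z}) := by
    have : Subgroup.closure (Set.range ψ ∪ {z}) = ⊤ := by
      rw [Subgroup.closure_union, ← Subgroup.zpowers_eq_closure, ← MonoidHom.coe_range, Subgroup.closure_eq, hgen]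
    rw [this]; trivial
  induction hg using Subgroup.closure_induction_right with
  | one => exact ⟨0, by norm_num, 1, 1, by simp [R.x0]⟩
  | mul_right a b _ hb ih =>
    rcases hb with ⟨h, rfl⟩ | rfl
    · exact cosX_right ih h
    · exact hz a ih
  | mul_inv_cancel a b _ hb ih =>
    rcases hb with ⟨h, rfl⟩ | rfl
    · rw [← map_inv]; exact cosX_right ih _
    · exact hz' a ih

/-- The coset of `x k`. -/
def cos (ψ : H0 →* G) (x : ℕ → G) (k : ℕ) : G ⧸ ψ.range := (x k : G ⧸ ψ.range)

theorem orbit_le (R : DRules ψ z x FactData.data) {k : ℕ} {edges stab : List ℕ} {Oa Ob : Orb}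
    {wit : List (List ℕ)} (hS : shapeCheck FactData.data k edges stab = true)
    (hW : stabWords FactData.data stab Oa Ob wit = true) (hOa : orbCheck Oa = true) (hOb : orbCheck Ob = true)
    {t s : ℕ} (ht : t ≤ Oa.n * Ob.n) (hts : t * s = 5859000000) (ht0 : 0 < t) :
    letI := MulAction.compHom (G ⧸ ψ.range) ψ
    Finite (MulAction.orbit H0 (cos ψ x k)) ∧ Nat.card (MulAction.orbit H0 (cos ψ x k)) ≤ s := by
  letI := MulAction.compHom (G ⧸ ψ.range) ψ
  simp only [shapeCheck, Bool.and_eq_true, List.all_eq_true, Nat.beq_eq, Nat.blt_eq] at hS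
  simp only [stabWords, Bool.and_eq_true, Nat.beq_eq] at hW
  obtain ⟨⟨⟨hlen, hA⟩, hlw, hB⟩, hfix⟩ := hW
  have hws : ∀ g < Oa.ws.length, getW Oa.ws g ∈ Oa.ws := fun g hg => by
    rw [getW_eq, List.getD_eq_getElem _ _ hg]; exact List.getElem_mem hg
  have hmem : ∀ w ∈ Oa.ws, el w ∈ MulAction.stabilizer H0 (cos ψ x k) := by
    intro w hw
    obtain ⟨g, hg, rfl⟩ := List.getElem_of_mem hw
    obtain ⟨⟨⟨⟨⟨hn', he⟩, hi⟩, hj'⟩, hv⟩, -⟩ := hS.2 _ (getN_mem (hlen ▸ hg))
    have hf := holds_all R _ hn'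
    simp only [Holds, he, pow_zero, mul_one, hi, hj', eq_of_sameW hv, wv_nil, map_one] at hf
    have hwA := eq_of_wordEq (allBelow_spec hA hg)
    rw [getW_eq, List.getD_eq_getElem _ _ hg] at hwA
    rw [hwA] at hf
    rw [MulAction.mem_stabilizer_iff]
    show ψ (el Oa.ws[g]) • (x k : G ⧸ ψ.range) = (x k : G ⧸ ψ.range)
    rw [MulAction.Quotient.smul_mk, smul_eq_mul, ← hf]
    exact QuotientGroup.mk_mul_of_mem _ ⟨_, rfl⟩
  have hb : wSub Ob.ws ≤ wSub Oa.ws := by
    rw [wSub, Subgroup.closure_le]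
    rintro _ ⟨w, hw, rfl⟩
    obtain ⟨g, hg, rfl⟩ := List.getElem_of_mem hw
    have h' := allBelow_spec hB hg
    simp only [Bool.and_eq_true, List.all_eq_true, Nat.blt_eq] at h'
    have e := eq_of_sameW h'.2
    rw [getW_eq, List.getD_eq_getElem _ _ hg] at e
    rw [e]
    clear e
    have hall := h'.1
    generalize getW wit g = l at hall ⊢
    induction l with
    | nil => exact Subgroup.one_mem _
    | cons c l ih =>
      rw [List.flatMap_cons, el_append]
      refine Subgroup.mul_mem _ ?_ (ih fun y hy => hall y (List.mem_cons_of_mem _ hy))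
      have hc := hws _ (hall c List.mem_cons_self)
      cases Nat.beq (Nat.mod c 2) 0
      · rw [cond_false, el_invL]; exact Subgroup.inv_mem _ (mem_wSub hc)
      · rw [cond_true]; exact mem_wSub hc
  have a := orb_le hOa (S := wSub Oa.ws) (T := wSub Ob.ws) (fun w hw => mem_wSub hw) hb
    (fun t' ht' => wSub_le_fix hfix (by simp) ht')
  have b := orb_le hOb (S := wSub Ob.ws) (T := ⊥) (fun w hw => mem_wSub hw) bot_le
    (fun t' ht' => by rw [Subgroup.mem_bot.1 ht', pt_one])
  rw [Subgroup.card_bot, mul_one] at b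
  have c : Nat.card (wSub Oa.ws) ≤ Nat.card (MulAction.stabilizer H0 (cos ψ x k)) := by
    refine Nat.le_of_dvd Nat.card_pos (Subgroup.card_dvd_of_le ?_)
    rw [wSub, Subgroup.closure_le]
    rintro _ ⟨w, hw, rfl⟩
    exact hmem w hw
  have hst : t ≤ Nat.card (MulAction.stabilizer H0 (cos ψ x k)) :=
    ht.trans (((Nat.mul_le_mul_left _ b).trans a).trans c)
  have horb : Nat.card (MulAction.orbit H0 (cos ψ x k)) * Nat.card (MulAction.stabilizer H0 (cos ψ x k)) =
      Nat.card H0 := by
    rw [← Nat.card_prod]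
    exact Nat.card_congr (MulAction.orbitProdStabilizerEquivGroup _ _)
  refine ⟨Finite.of_surjective (fun h : H0 => (⟨h • cos ψ x k, MulAction.mem_orbit _ h⟩ :
    MulAction.orbit H0 (cos ψ x k))) (fun ⟨_, h, e⟩ => ⟨h, Subtype.ext e⟩), ?_⟩
  have := card_H0_le
  by_contra hlt
  have h1 : t * (s + 1) ≤
      Nat.card (MulAction.stabilizer H0 (cos ψ x k)) * Nat.card (MulAction.orbit H0 (cos ψ x k)) :=
    Nat.mul_le_mul hst (by omega)
  rw [Nat.mul_comm (Nat.card _) (Nat.card (MulAction.orbit H0 (cos ψ x k))), horb, mul_add, hts] at h1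
  omega

/-- The index bound. -/
theorem index_le (R : DRules ψ z x FactData.data) (hgen : ψ.range ⊔ Subgroup.zpowers z = ⊤) :
    Finite (G ⧸ ψ.range) ∧ Nat.card (G ⧸ ψ.range) ≤ 8835156 := by
  letI := MulAction.compHom (G ⧸ ψ.range) ψ
  obtain ⟨f1, c1⟩ := orbit_le R shape1_ok stabWords1_ok stab1a_ok stab1b_ok (t := 300000) (s := 19530)
    (by decide +kernel) (by norm_num) (by norm_num)
  obtain ⟨f2, c2⟩ := orbit_le R shape2_ok stabWords2_ok stab2a_ok stab2b_ok (t := 2880) (s := 2034375)
    (by decide +kernel) (by norm_num) (by norm_num)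
  obtain ⟨f3, c3⟩ := orbit_le R shape3_ok stabWords3_ok stab3a_ok stab3b_ok (t := 1008) (s := 5812500)
    (by decide +kernel) (by norm_num) (by norm_num)
  obtain ⟨f4, c4⟩ := orbit_le R shape4_ok stabWords4_ok stab4a_ok stab4b_ok (t := 6048) (s := 968750)
    (by decide +kernel) (by norm_num) (by norm_num)
  let T := (((Unit ⊕ MulAction.orbit H0 (cos ψ x 1)) ⊕ MulAction.orbit H0 (cos ψ x 2)) ⊕
    MulAction.orbit H0 (cos ψ x 3)) ⊕ MulAction.orbit H0 (cos ψ x 4)
  let f : T → G ⧸ ψ.range :=
    Sum.elim (Sum.elim (Sum.elim (Sum.elim (fun _ => ((1 : G) : G ⧸ ψ.range)) Subtype.val) Subtype.val) Subtype.val)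
      Subtype.val
  have hf : Function.Surjective f := by
    intro q
    obtain ⟨g, rfl⟩ := QuotientGroup.mk_surjective q
    obtain ⟨k, hk, h, h', rfl⟩ := range_union_top R hgen g
    have e : ((ψ h * x k * ψ h' : G) : G ⧸ ψ.range) = ((ψ h * x k : G) : G ⧸ ψ.range) :=
      QuotientGroup.mk_mul_of_mem _ ⟨h', rfl⟩
    rw [e]
    have hin : ((ψ h * x k : G) : G ⧸ ψ.range) ∈ MulAction.orbit H0 (cos ψ x k) := ⟨h, rfl⟩
    interval_cases k
    · refine ⟨Sum.inl (Sum.inl (Sum.inl (Sum.inl ()))), ?_⟩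
      show ((1 : G) : G ⧸ ψ.range) = _
      rw [R.x0, mul_one, eq_comm, QuotientGroup.eq]
      exact ψ.range.mul_mem (ψ.range.inv_mem ⟨h, rfl⟩) ψ.range.one_mem
    · exact ⟨Sum.inl (Sum.inl (Sum.inl (Sum.inr ⟨_, hin⟩))), rfl⟩
    · exact ⟨Sum.inl (Sum.inl (Sum.inr ⟨_, hin⟩)), rfl⟩
    · exact ⟨Sum.inl (Sum.inr ⟨_, hin⟩), rfl⟩
    · exact ⟨Sum.inr ⟨_, hin⟩, rfl⟩
  haveI := f1; haveI := f2; haveI := f3; haveI := f4
  refine ⟨Finite.of_surjective f hf, (Nat.card_le_card_of_surjective f hf).trans ?_⟩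
  simp only [T, Nat.card_sum, Nat.card_unique]
  omega

end

end Cfsg.Agent.Lyons
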