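import Cfsg.Agent.Lib.Lyons.HPerm

/-! Closed orbit certificates: the order of the generated group is a multiple of the orbit lengths. -/

set_option autoImplicit false
set_option maxRecDepth 100000
set_option linter.style.haveILetI false

namespace Cfsg.Agent.Lyons

open Cfsg.Agent.CosetCert

noncomputable section

/-- The listed points are closed under the generators. -/
def closedB (O : Orb) : Bool :=
  O.ws.all fun w => allLong (fun j => force (actW w (O.pts.get j)) fun q =>
    Nat.blt (O.idx.get q) O.n && Nat.beq (O.pts.get (O.idx.get q)) q) O.n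

theorem closed2a_ok : closedB OrbData.stab2a = true := by decide +kernel
theorem closed2b_ok : closedB OrbData.stab2b = true := by decide +kernel
theorem closed3a_ok : closedB OrbData.stab3a = true := by decide +kernel
theorem closed3b_ok : closedB OrbData.stab3b = true := by decide +kernel
theorem closed4a_ok : closedB OrbData.stab4a = true := by decide +kernel
theorem closed4b_ok : closedB OrbData.stab4b = true := by decide +kernel

theorem pt_stays (h : H0) {q : ℕ} (hq : q < 19530) : pt h q < 19530 := by
  by_contra hk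
  have hfix : perm h (pt h q) = pt h q := perm_out h hk
  rw [show perm h (pt h q) = q from (perm h).apply_symm_apply q] at hfix
  exact hk (hfix ▸ hq)

theorem orb_card_eq {O : Orb} (hO : orbCheck O = true) (hc : closedB O = true) :
    Nat.card (wSub O.ws) = O.n * Nat.card ↥(wSub O.ws ⊓ fixPt O.b) := by
  classical
  set S := wSub O.ws with hS
  refine le_antisymm ?_ (orb_le hO (fun w hw => mem_wSub hw) inf_le_left fun t ht => ht.2)
  have hO' := hO
  simp only [orbCheck, Bool.and_eq_true, Nat.blt_eq, Nat.beq_eq, List.all_eq_true] at hO'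
  obtain ⟨⟨⟨⟨hn, hb⟩, h0⟩, hl⟩, hall⟩ := hO'
  have hlt : ∀ j < O.n, O.pts.get j < 19530 := fun j hj => by
    obtain ⟨h, -, e⟩ := orb_spec hO (S := S) (fun w hw => mem_wSub hw) hj
    exact e ▸ pt_stays h hb
  have hidx : ∀ j < O.n, O.idx.get (O.pts.get j) = j := fun j hj => by
    have := allLong_spec hall hj
    simp only [Bool.and_eq_true, Nat.beq_eq] at this
    exact this.1
  have hclosed : ∀ g ∈ S, ∀ j : Fin O.n, ∃ i : Fin O.n, pt g (O.pts.get j) = O.pts.get i := by
    intro g hg
    induction hg using Subgroup.closure_induction with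
    | mem y hy =>
      obtain ⟨w, hw, rfl⟩ := hy
      intro j
      have := allLong_spec (List.all_eq_true.1 hc w hw) j.2
      simp only [force_eq, Bool.and_eq_true, Nat.blt_eq, Nat.beq_eq] at this
      exact ⟨⟨_, this.1⟩, by rw [pt_el (letOK_spec (hl w hw)) (hlt j j.2)]; exact this.2.symm⟩
    | one => exact fun j => ⟨j, pt_one _⟩
    | mul a b _ _ ha hb =>
      intro j
      obtain ⟨i, hi⟩ := ha j
      obtain ⟨k, hk⟩ := hb i
      exact ⟨k, by rw [pt_mul, hi, hk]⟩
    | inv a _ ha =>
      choose σ hσ using ha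
      have hinj : Function.Injective σ := fun i j e => by
        have h1 : pt a (O.pts.get i) = pt a (O.pts.get j) := by rw [hσ, hσ, e]
        have h2 := (perm a).symm.injective h1
        exact Fin.ext (by rw [← hidx i i.2, h2, hidx j j.2])
      intro j
      obtain ⟨i, hi⟩ := (Finite.injective_iff_surjective.1 hinj) j
      refine ⟨i, ?_⟩
      rw [← hi, ← hσ, ← pt_mul, mul_inv_cancel, pt_one]
  choose h hh using fun j : Fin O.n => orb_spec hO (S := S) (fun w hw => mem_wSub hw) j.2
  let f : Fin O.n × ↥(S ⊓ fixPt O.b) → S := fun q => ⟨(q.2 : H0) * h q.1, S.mul_mem q.2.2.1 (hh q.1).1⟩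
  have hf : Function.Surjective f := by
    rintro ⟨g, hg⟩
    obtain ⟨j, hj⟩ := hclosed g hg ⟨0, hn⟩
    rw [h0] at hj
    refine ⟨(j, ⟨g * (h j)⁻¹, S.mul_mem hg (S.inv_mem (hh j).1), ?_⟩), Subtype.ext (inv_mul_cancel_right g (h j))⟩
    show pt (g * (h j)⁻¹) O.b = O.b
    rw [pt_mul, hj, ← (hh j).2, ← pt_mul, mul_inv_cancel, pt_one]
  simpa [Nat.card_prod] using Nat.card_le_card_of_surjective f hf

theorem dvd_card_wSub {Oa Ob : Orb} (ha : orbCheck Oa = true) (hca : closedB Oa = true) (hb : orbCheck Ob = true)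
    (hcb : closedB Ob = true) (hle : wSub Ob.ws ≤ wSub Oa.ws) (hfix : fixCheck Ob.ws [Oa.b] = true) :
    Oa.n * Ob.n ∣ Nat.card (wSub Oa.ws) := by
  rw [orb_card_eq ha hca]
  refine Nat.mul_dvd_mul_left _ ((Dvd.intro _ (orb_card_eq hb hcb).symm).trans (Subgroup.card_dvd_of_le ?_))
  exact le_inf hle (wSub_le_fix hfix (by simp))

end

end Cfsg.Agent.Lyons
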