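import Cfsg.Agent.Lib.Lyons.Eval

/-! Certificates for the order of the presented Lyons group. -/

set_option autoImplicit false
set_option maxRecDepth 100000
set_option maxHeartbeats 0

namespace Cfsg.Agent.Lyons

open Cfsg.Agent.CosetCert

noncomputable section

/-- A word of order 67 at the first node. -/
def word67 : List ℕ := [18, 0, 21, 10, 19, 14, 0, 2, 6, 5, 21, 8, 19, 22, 0, 0, 0, 0, 6, 4, 20, 15, 5]

/-- A word of order 37. -/
def word37 : List ℕ := [2, 5, 22, 4, 7, 7, 6, 22, 5, 22]

/-- A word of order 11. -/
def word11 : List ℕ := [7, 7, 8, 10, 6, 22, 8, 7, 22]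

/-- The word of a named element, `k ≠ 0`. -/
def nodeWord (k : ℕ) : List ℕ :=
  bif Nat.beq k 1 then [22] else 22 :: (FactData.data.defs.getD (k - 1) (0, 0, [])).2.2 ++ [22]

/-- The element which `z` would have to be refutes the relation `z * z = u`. -/
def zRefute : Bool :=
  match nf word67 with
  | some s => force s.k fun k =>
    let e := invL s.A ++ invL s.u
    Nat.beq k 1 && letOK (e ++ e) && !Nat.beq (actW (e ++ e) 0) (actW wU 0) ||
      (Nat.beq k 1 && letOK (e ++ e) && !Nat.beq (actW (e ++ e) 11120) (actW wU 11120))
  | none => false

theorem zRefute_ok : zRefute = true := by decide +kernel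

theorem pow67_ok : isOne (List.replicate 67 word67).flatten = true := by decide +kernel

theorem pow37_ok : isOne (List.replicate 37 word37).flatten = true := by decide +kernel

theorem pow11_ok : isOne (List.replicate 11 word11).flatten = true := by decide +kernel

theorem node37_ok : (List.range 5).any (fun k => !Nat.beq k 0 && atNode word37 k) = true := by decide +kernel

theorem node11_ok : (List.range 5).any (fun k => !Nat.beq k 0 && atNode word11 k) = true := by decide +kernel

theorem hit2_ok : atNode (nodeWord 2 ++ [3, 6] ++ nodeWord 2) 1 = true := by decide +kernel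

theorem hit3_ok : atNode (nodeWord 3 ++ [3, 0, 5, 0, 3] ++ nodeWord 3) 1 = true := by decide +kernel

theorem hit4_ok : atNode (nodeWord 4 ++ [5] ++ nodeWord 4) 1 = true := by decide +kernel

/-- Only the trivial root of the first tree leads back to the base coset. -/
def edge0Check : Bool :=
  Nat.beq (CoverData.cov1.pts.get 0) 0 && allLong (fun j => force j fun j =>
    bif Nat.blt j CoverData.edges1.length
    then Nat.beq j 0 || !Nat.beq (FactData.data.fact (getN CoverData.edges1 j)).j 0
    else !Nat.beq (CoverData.cov1.par.get j) 0) 19530

theorem edge0Check_ok : edge0Check = true := by decide +kernel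

/-- The divisors of a product of prime powers. -/
def divsOf : List (ℕ × ℕ) → List ℕ
  | [] => [1]
  | p :: l => (List.range (p.2 + 1)).flatMap fun i => (divsOf l).map fun d => p.1 ^ i * d

/-- Possible lengths of a suborbit: `0` for one already counted. -/
def cand (l : List (ℕ × ℕ)) : List ℕ := 0 :: (divsOf l).filter fun d => Nat.blt d 2 || Nat.ble 31 d

/-- The index is determined by these conditions. -/
def indexCheck : Bool :=
  (cand [(3, 1), (5, 5), (7, 1), (31, 1)]).all fun a => force a fun a =>
    (cand [(2, 2), (3, 1), (5, 6), (31, 1)]).all fun b => force (Nat.add (Nat.add 19531 a) b) fun ab =>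
      (cand [(2, 1), (5, 6), (31, 1)]).all fun c => force (Nat.add ab c) fun t =>
        !Nat.beq (Nat.mod t 27269) 0 || Nat.beq t 8835156

theorem indexCheck_ok : indexCheck = true := by decide +kernel

end

end Cfsg.Agent.Lyons
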