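import Cfsg.Agent.Lib.Lyons.Simple
import Cfsg.Agent.Lib.Lyons.OrderCert
import Cfsg.Agent.Lib.Lyons.OrbClosed
import Mathlib.GroupTheory.Perm.Cycle.Type

/-!
The order of the presented Lyons group, given that the image of `⟨a, b, c, d⟩` is not trivial:
the first suborbit is exact, the index is a multiple of 11, 37 and 67 and the other suborbit lengths divide the
known bounds, which leaves one possibility.
-/

set_option autoImplicit false
set_option maxRecDepth 100000
set_option linter.style.haveILetI false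

namespace Cfsg.Agent.Lyons

open Cfsg.Agent.CosetCert

noncomputable section

theorem mem_divsOf : ∀ {l : List (ℕ × ℕ)}, (∀ p ∈ l, p.1.Prime) → ∀ {d : ℕ},
    d ∣ (l.map fun p => p.1 ^ p.2).prod → d ∈ divsOf l
  | [], _, d, h => by simpa [divsOf] using h
  | p :: l, hp, d, h => by
    rw [List.map_cons, List.prod_cons, Nat.dvd_mul] at h
    obtain ⟨d₁, d₂, h1, h2, rfl⟩ := h
    obtain ⟨i, hi, rfl⟩ := (Nat.dvd_prime_pow (hp p List.mem_cons_self)).1 h1
    simp only [divsOf, List.mem_flatMap, List.mem_range, List.mem_map]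
    exact ⟨i, by omega, d₂, mem_divsOf (fun q hq => hp q (List.mem_cons_of_mem _ hq)) h2, rfl⟩

theorem wv_flatten {G : Type*} [Group G] (gen : ℕ → G) (w : List ℕ) : ∀ n : ℕ,
    wv gen (List.replicate n w).flatten = wv gen w ^ n
  | 0 => by simp
  | n + 1 => by rw [List.replicate_succ, List.flatten_cons, wv_append, wv_flatten gen w n, pow_succ']

section

variable (hne : ∃ x, psiLy x ≠ 1)

include hne

theorem psi_inj : Function.Injective psiLy := by
  haveI := isSimple_H0
  rcases (inferInstance : psiLy.ker.Normal).eq_bot_or_eq_top with h' | h'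
  · exact (MonoidHom.ker_eq_bot_iff _).1 h'
  · obtain ⟨x, hx⟩ := hne
    exact absurd (MonoidHom.mem_ker.1 (h' ▸ Subgroup.mem_top x)) hx

theorem zLy_notMem : zLy ∉ psiLy.range := by
  rintro ⟨h, hh⟩
  have hc := zRefute_ok
  unfold zRefute at hc
  split at hc
  swap
  · exact absurd hc (by simp)
  rename_i s hs
  simp only [force_eq, Bool.or_eq_true, Bool.and_eq_true, Bool.not_eq_true', Nat.beq_eq] at hc
  have hk : s.k = 1 := by rcases hc with ⟨⟨a, -⟩, -⟩ | ⟨⟨a, -⟩, -⟩ <;> exact a
  have hw : wv lyGen word67 = psiLy (el s.A * h * el s.u) := by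
    rw [nf_sound hs, sval, DSt.val, hk, dRules_ly.x1, ← hh, map_mul, map_mul]
  have h67 : (el s.A * h * el s.u) ^ 67 = 1 := psi_inj hne (by
    rw [map_pow, map_one, ← hw, ← wv_flatten, wv_eq_one_of_isOne pow67_ok])
  have he1 : el s.A * h * el s.u = 1 := by
    rw [← orderOf_eq_one_iff, ← Nat.dvd_one]
    have := Nat.dvd_gcd (orderOf_dvd_of_pow_eq_one h67) (orderOf_dvd_natCard (el s.A * h * el s.u))
    rwa [card_H0, show Nat.gcd 67 5859000000 = 1 by norm_num] at this
  have he : h = el (invL s.A ++ invL s.u) := by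
    rw [el_append, el_invL, el_invL]
    calc h = (el s.A)⁻¹ * (el s.A * h * el s.u) * (el s.u)⁻¹ := by group
      _ = _ := by rw [he1, mul_one]
  have hee : el (invL s.A ++ invL s.u ++ (invL s.A ++ invL s.u)) = el wU := by
    rw [el_append, ← he]
    exact psi_inj hne (by rw [map_mul, hh, zz_ly])
  have hpt : ∀ q < 19530, letOK (invL s.A ++ invL s.u ++ (invL s.A ++ invL s.u)) = true →
      actW (invL s.A ++ invL s.u ++ (invL s.A ++ invL s.u)) q = actW wU q := fun q hq hl => by
    rw [← pt_el (letOK_spec hl) hq, hee, pt_el (by decide) hq]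
  rcases hc with ⟨⟨-, hl⟩, hne'⟩ | ⟨⟨-, hl⟩, hne'⟩
  · rw [hpt 0 (by norm_num) hl, Nat.beq_refl] at hne'
    exact Bool.noConfusion hne'
  · rw [hpt 11120 (by norm_num) hl, Nat.beq_refl] at hne'
    exact Bool.noConfusion hne'

omit hne in
theorem xLy_eq_word {k : ℕ} (h1 : 1 ≤ k) (h4 : k ≤ 4) : xLy k = wv lyGen (nodeWord k) := by
  have key : ∀ w : List ℕ, letOK w = true → zLy * psiLy (el w) * zLy = wv lyGen (22 :: w ++ [22]) := fun w hw => by
    rw [psiLy_el hw, List.cons_append, wv_cons, wv_append]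
    simp [wv, lt', zLy, mul_assoc]
  interval_cases k
  · simp [xLy, nodeWord, wv, lt', zLy]
  · exact key _ (by decide +kernel)
  · exact key _ (by decide +kernel)
  · exact key _ (by decide +kernel)

theorem xLy_notMem {k : ℕ} (h1 : 1 ≤ k) (h4 : k ≤ 4) : xLy k ∉ psiLy.range := by
  have hit : ∀ {j : ℕ} {h : List ℕ}, 1 ≤ j → j ≤ 4 → letOK h = true →
      atNode (nodeWord j ++ h ++ nodeWord j) 1 = true → xLy j ∉ psiLy.range := by
    intro j h hj hj' hl hat hm
    apply wv_notMem_range hat (by rw [dRules_ly.x1]; exact zLy_notMem hne)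
    rw [wv_append, wv_append, ← xLy_eq_word hj hj', ← psiLy_el hl]
    exact psiLy.range.mul_mem (psiLy.range.mul_mem hm ⟨_, rfl⟩) hm
  interval_cases k
  · rw [dRules_ly.x1]; exact zLy_notMem hne
  · exact hit (by norm_num) (by norm_num) (by decide) hit2_ok
  · exact hit (by norm_num) (by norm_num) (by decide) hit3_ok
  · exact hit (by norm_num) (by norm_num) (by decide) hit4_ok

theorem orderOf_word {p : ℕ} (hp : p.Prime) {w : List ℕ} (hpow : isOne (List.replicate p w).flatten = true)
    (hnode : (List.range 5).any (fun k => !Nat.beq k 0 && atNode w k) = true) :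
    orderOf (wv lyGen w) = p := by
  haveI := Fact.mk hp
  refine orderOf_eq_prime ?_ fun h1 => ?_
  · rw [← wv_flatten, wv_eq_one_of_isOne hpow]
  · simp only [List.any_eq_true, List.mem_range, Bool.and_eq_true, Bool.not_eq_true'] at hnode
    obtain ⟨k, hk5, hk0, hat⟩ := hnode
    refine wv_notMem_range hat (xLy_notMem hne ?_ (by omega)) (h1 ▸ psiLy.range.one_mem)
    rcases Nat.eq_zero_or_pos k with rfl | h
    · simp at hk0
    · exact h

theorem node67 : (List.range 5).any (fun k => !Nat.beq k 0 && atNode word67 k) = true := by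
  have hc := zRefute_ok
  unfold zRefute at hc
  split at hc
  swap
  · exact absurd hc (by simp)
  rename_i s hs
  simp only [force_eq, Bool.or_eq_true, Bool.and_eq_true, Nat.beq_eq] at hc
  refine List.any_eq_true.2 ⟨1, by simp, ?_⟩
  have hk : s.k = 1 := by rcases hc with ⟨⟨a, -⟩, -⟩ | ⟨⟨a, -⟩, -⟩ <;> exact a
  show (!Nat.beq 1 0 && atNode word67 1) = true
  simp only [atNode, hs, hk]
  rfl

theorem dvd_index : 27269 ∣ psiLy.range.index := by
  have hr : Nat.card psiLy.range = 5859000000 := card_range_eq hne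
  have hd : ∀ {p : ℕ} {w : List ℕ}, p.Prime → ¬ p ∣ 5859000000 → orderOf (wv lyGen w) = p →
      p ∣ psiLy.range.index := fun {p w} hp hn ho => by
    have h := orderOf_dvd_natCard (wv lyGen w)
    rw [ho, ← Subgroup.card_mul_index psiLy.range, hr] at h
    exact ((Nat.Prime.dvd_mul hp).1 h).resolve_left hn
  have h67 := hd (by norm_num) (by norm_num) (orderOf_word hne (by norm_num) pow67_ok (node67 hne))
  have h37 := hd (by norm_num) (by norm_num) (orderOf_word hne (by norm_num) pow37_ok node37_ok)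
  have h11 := hd (by norm_num) (by norm_num) (orderOf_word hne (by norm_num) pow11_ok node11_ok)
  exact Nat.Coprime.mul_dvd_of_dvd_of_dvd (m := 67 * 37) (n := 11) (by norm_num)
    (Nat.Coprime.mul_dvd_of_dvd_of_dvd (by norm_num) h67 h37) h11

theorem mem_fix_of_stab {h : H0} (hh : h • cosLy 1 = cosLy 1) : h ∈ fixPt 0 := by
  have hm : zLy⁻¹ * psiLy h * zLy ∈ psiLy.range := by
    have := QuotientGroup.eq.1 (show ((psiLy h * xLy 1 : LyG) : CosLy) = ((xLy 1 : LyG) : CosLy) from hh)
    rw [dRules_ly.x1, mul_inv_rev] at this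
    have h2 := psiLy.range.inv_mem this
    simpa [mul_assoc] using h2
  have hzm : zLy * psiLy ((el wU)⁻¹ * h) * zLy ∈ psiLy.range := by
    have e : zLy⁻¹ = zLy * (psiLy (el wU))⁻¹ := by rw [← zz_ly]; group
    rw [e] at hm
    simpa [mul_assoc] using hm
  obtain ⟨hpts0, hall⟩ := Bool.and_eq_true_iff.1 edge0Check_ok
  have hS := shape1_ok
  simp only [shapeCheck, Bool.and_eq_true, List.all_eq_true, Nat.beq_eq, Nat.blt_eq] at hS
  obtain ⟨hE, hG⟩ := hS
  set O := CoverData.cov1
  have hstep : ∀ j < 19530, covStep FactData.data O CoverData.edges1 CoverData.stab1 j = true := fun j hj => by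
    rcases lt_or_ge j 9765 with hlt | hge
    · exact allLong_spec cov1a_ok hlt
    · have := allLong_spec cov1b_ok (j := j - 9765) (by omega)
      rwa [Nat.add_sub_cancel' hge] at this
  have key : ∀ j, j < 19530 → ∀ g : H0, pt g⁻¹ 0 = O.pts.get j →
      zLy * psiLy g * zLy ∈ psiLy.range → j = 0 := by
    intro j
    induction j using Nat.strong_induction_on with
    | _ j ih =>
      intro hj g hp hg
      have hs := hstep j hj
      have hc' := allLong_spec hall hj
      simp only [force_eq] at hc'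
      unfold covStep at hs
      cases hc : Nat.blt j CoverData.edges1.length with
      | true =>
        rw [hc, cond_true] at hs hc'
        rcases Nat.eq_zero_or_pos j with h0 | hpos
        · exact h0
        exfalso
        have hlt : j < CoverData.edges1.length := by simpa [Nat.blt_eq] using hc
        obtain ⟨⟨⟨⟨hn', he⟩, hi⟩, hj'⟩, hl⟩ := hE _ (getN_mem hlt)
        have hne0 : (FactData.data.fact (getN CoverData.edges1 j)).j ≠ 0 := fun e0 => by
          simp only [Bool.or_eq_true, Bool.not_eq_true', Nat.beq_eq] at hc'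
          rcases hc' with h | h
          · omega
          · rw [e0] at h; exact Bool.noConfusion h
        have hf := holds_ly _ hn'
        simp only [Holds, he, pow_one, hi, dRules_ly.x1] at hf
        set f := FactData.data.fact (getN CoverData.edges1 j)
        have hc0 : (el f.u)⁻¹ * g ∈ subK := by
          rw [subK_eq]
          show pt ((el f.u)⁻¹ * g) 0 = 0
          have hroot : pt (el f.u)⁻¹ 0 = O.pts.get j := by
            rw [← el_invL, pt_el (letOK_spec hl) (by norm_num)]
            exact Nat.eq_of_beq_eq_true hs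
          rw [pt_mul, hroot, ← hp, ← pt_mul, inv_mul_cancel, pt_one]
        obtain ⟨c', hc'e⟩ := conj_subK dRules_ly hc0
        have e : zLy * psiLy g * zLy = psiLy (el f.A) * xLy f.j * (psiLy (el f.v) * psiLy c') := by
          rw [hc'e, ← mul_assoc, ← hf, map_mul, map_inv]
          group
        refine xLy_notMem hne (Nat.pos_of_ne_zero hne0) (by omega) ?_
        have h2 := psiLy.range.mul_mem (psiLy.range.mul_mem (psiLy.range.inv_mem ⟨el f.A, rfl⟩) hg)
          (psiLy.range.inv_mem (psiLy.range.mul_mem ⟨el f.v, rfl⟩ ⟨c', rfl⟩))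
        rw [e] at h2
        simpa [mul_assoc] using h2
      | false =>
        rw [hc, cond_false] at hs hc'
        simp only [Bool.and_eq_true, Nat.blt_eq, Nat.beq_eq] at hs
        obtain ⟨⟨hg', hpar⟩, hact⟩ := hs
        obtain ⟨⟨⟨⟨⟨hn', he⟩, hi⟩, hj'⟩, hv⟩, hl⟩ := hG _ (getN_mem hg')
        have hf := holds_ly _ hn'
        simp only [Holds, he, pow_zero, mul_one, hi, hj', eq_of_sameW hv, wv_nil, map_one, dRules_ly.x1] at hf
        set s := el (FactData.data.fact (getN CoverData.stab1 (O.gen.get j))).u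
        set a := el (FactData.data.fact (getN CoverData.stab1 (O.gen.get j))).A
        have hq : O.pts.get (O.par.get j) < 19530 := lt_of_pts hstep hG hE (hpar.trans hj)
        have hp' : pt (s⁻¹ * g)⁻¹ 0 = O.pts.get (O.par.get j) := by
          rw [mul_inv_rev, inv_inv, pt_mul, hp, ← hact]
          have : actW (rootWord FactData.data CoverData.stab1 (O.gen.get j)) (O.pts.get (O.par.get j)) =
              pt s⁻¹ (O.pts.get (O.par.get j)) := by
            rw [← el_invL, pt_el (letOK_spec hl) hq]; rfl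
          rw [this, ← pt_mul, inv_mul_cancel, pt_one]
        have h2 := psiLy.range.mul_mem (psiLy.range.inv_mem ⟨a, rfl⟩) hg
        have e2 : (psiLy a)⁻¹ * zLy = zLy * (psiLy s)⁻¹ := by
          rw [eq_mul_inv_iff_mul_eq, mul_assoc, inv_mul_eq_iff_eq_mul]
          exact hf
        have e : (psiLy a)⁻¹ * (zLy * psiLy g * zLy) = zLy * psiLy (s⁻¹ * g) * zLy := by
          rw [map_mul, map_inv, ← mul_assoc zLy, ← e2]
          group
        rw [e] at h2
        have h0 := ih _ hpar (hpar.trans hj) _ hp' h2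
        simp [h0] at hc'
  have hP : pt ((el wU)⁻¹ * h)⁻¹ 0 < 19530 := pt_lt _ (by norm_num)
  have hfull := allLong_spec full1_ok hP
  simp only [Bool.and_eq_true, Nat.blt_eq, Nat.beq_eq] at hfull
  have h0 := key _ (show _ < 19530 from hfull.1) _ hfull.2.symm hzm
  have hfix : ((el wU)⁻¹ * h)⁻¹ ∈ fixPt 0 := by
    show pt _ 0 = 0
    rw [← hfull.2, h0, Nat.eq_of_beq_eq_true hpts0]
  have hu : el wU ∈ fixPt 0 := by
    show pt (el wU) 0 = 0
    rw [pt_el (by decide) (by norm_num)]
    decide +kernel
  have := (fixPt 0).mul_mem hu ((fixPt 0).inv_mem hfix)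
  rwa [inv_inv, mul_inv_cancel_left] at this

omit hne in
theorem orbit_mul_stab (q : CosLy) :
    Nat.card (MulAction.orbit H0 q) * Nat.card (MulAction.stabilizer H0 q) = 5859000000 := by
  rw [← Nat.card_prod, ← card_H0]
  exact Nat.card_congr (MulAction.orbitProdStabilizerEquivGroup _ _)

theorem orbit_one_card : Nat.card (MulAction.orbit H0 (cosLy 1)) = 19530 := by
  refine le_antisymm (orbit_cos_le 0) ?_
  have h := orbit_mul_stab (cosLy 1)
  have hle : MulAction.stabilizer H0 (cosLy 1) ≤ fixPt 0 := fun g hg =>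
    mem_fix_of_stab hne (MulAction.mem_stabilizer_iff.1 hg)
  have h3 := (Nat.le_of_dvd Nat.card_pos (Subgroup.card_dvd_of_le hle)).trans card_fix_le
  have := Nat.mul_le_mul_left (Nat.card (MulAction.orbit H0 (cosLy 1))) h3
  omega

omit hne in
theorem orbit_dvd {k : ℕ} {edges stab : List ℕ} {Oa Ob : Orb} {wit : List (List ℕ)}
    (hS : shapeCheck FactData.data k edges stab = true) (hW : stabWords FactData.data stab Oa Ob wit = true)
    (hOa : orbCheck Oa = true) (hOb : orbCheck Ob = true) (hca : closedB Oa = true) (hcb : closedB Ob = true)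
    {t s : ℕ} (ht : t = Oa.n * Ob.n) (hts : t * s = 5859000000) :
    Nat.card (MulAction.orbit H0 (cosLy k)) ∣ s := by
  simp only [shapeCheck, Bool.and_eq_true, List.all_eq_true, Nat.beq_eq, Nat.blt_eq] at hS
  simp only [stabWords, Bool.and_eq_true, Nat.beq_eq] at hW
  obtain ⟨⟨⟨hlen, hA⟩, hlw, hB⟩, hfix⟩ := hW
  have hws : ∀ g < Oa.ws.length, getW Oa.ws g ∈ Oa.ws := fun g hg => by
    rw [getW_eq, List.getD_eq_getElem _ _ hg]; exact List.getElem_mem hg
  have hle : wSub Oa.ws ≤ MulAction.stabilizer H0 (cosLy k) := by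
    rw [wSub, Subgroup.closure_le]
    rintro _ ⟨w, hw, rfl⟩
    obtain ⟨g, hg, rfl⟩ := List.getElem_of_mem hw
    obtain ⟨⟨⟨⟨⟨hn', he⟩, hi⟩, hj'⟩, hv⟩, -⟩ := hS.2 _ (getN_mem (hlen ▸ hg))
    have hf := holds_ly _ hn'
    simp only [Holds, he, pow_zero, mul_one, hi, hj', eq_of_sameW hv, wv_nil, map_one] at hf
    have hwA := eq_of_wordEq (allBelow_spec hA hg)
    rw [getW_eq, List.getD_eq_getElem _ _ hg] at hwA
    rw [hwA] at hf
    show psiLy (el Oa.ws[g]) • (xLy k : CosLy) = (xLy k : CosLy)
    rw [MulAction.Quotient.smul_mk, smul_eq_mul, ← hf]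
    exact QuotientGroup.mk_mul_of_mem _ ⟨_, rfl⟩
  have hb : wSub Ob.ws ≤ wSub Oa.ws := by
    rw [wSub, Subgroup.closure_le]
    rintro _ ⟨w, hw, rfl⟩
    obtain ⟨g, hg, rfl⟩ := List.getElem_of_mem hw
    have h' := allBelow_spec hB hg
    simp only [Bool.and_eq_true, List.all_eq_true, Nat.blt_eq] at h'
    have e := eq_of_sameW h'.2
    rw [getW_eq, List.getD_eq_getElem _ _ hg] at e
    rw [e]
    clear e
    have hall := h'.1
    generalize getW wit g = l at hall ⊢
    induction l with
    | nil => exact Subgroup.one_mem _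
    | cons c l ih =>
      rw [List.flatMap_cons, el_append]
      refine Subgroup.mul_mem _ ?_ (ih fun y hy => hall y (List.mem_cons_of_mem _ hy))
      have hc := hws _ (hall c List.mem_cons_self)
      cases Nat.beq (Nat.mod c 2) 0
      · rw [cond_false, el_invL]; exact Subgroup.inv_mem _ (mem_wSub hc)
      · rw [cond_true]; exact mem_wSub hc
  obtain ⟨c, hc⟩ := (dvd_card_wSub hOa hca hOb hcb hb hfix).trans (Subgroup.card_dvd_of_le hle)
  have h := orbit_mul_stab (cosLy k)
  rw [hc, ← ht, ← hts] at h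
  have ht0 : 0 < t := Nat.pos_of_ne_zero fun e => by simp [e] at hts
  exact ⟨c, Nat.eq_of_mul_eq_mul_left ht0 (by rw [← h]; ring)⟩

omit hne in
theorem orbit_small {q : CosLy} (h : Nat.card (MulAction.orbit H0 q) < 31) :
    Nat.card (MulAction.orbit H0 q) ≤ 1 := by
  classical
  haveI := isSimple_H0
  haveI : Finite CosLy := index_range_le.1
  haveI : Fact (Nat.Prime 31) := ⟨by norm_num⟩
  let φ : H0 →* Equiv.Perm (MulAction.orbit H0 q) := MulAction.toPermHom H0 _
  rcases (inferInstance : φ.ker.Normal).eq_bot_or_eq_top with hk | hk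
  · exfalso
    have hinj := (MonoidHom.ker_eq_bot_iff φ).1 hk
    have hd : Nat.card H0 ∣ Nat.card (Equiv.Perm (MulAction.orbit H0 q)) :=
      Subgroup.card_dvd_of_injective φ hinj
    rw [card_H0, Nat.card_perm] at hd
    have h31 : 31 ∣ (Nat.card (MulAction.orbit H0 q)).factorial := (by norm_num : 31 ∣ 5859000000).trans hd
    rw [Nat.Prime.dvd_factorial (by norm_num)] at h31
    omega
  · haveI : Subsingleton (MulAction.orbit H0 q) := ⟨fun a b => by
      obtain ⟨g, hg⟩ := MulAction.exists_smul_eq H0 a b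
      have : φ g = 1 := MonoidHom.mem_ker.1 (hk ▸ Subgroup.mem_top g)
      rw [← hg]
      exact (DFunLike.congr_fun this a).symm⟩
    exact Finite.card_le_one_iff_subsingleton.2 inferInstance

omit hne in
theorem mem_cand {l : List (ℕ × ℕ)} (hl : ∀ p ∈ l, p.1.Prime) {d : ℕ}
    (hd : d ∣ (l.map fun p => p.1 ^ p.2).prod) (hs : d < 31 → d ≤ 1) : d ∈ cand l := by
  refine List.mem_cons_of_mem _ (List.mem_filter.2 ⟨mem_divsOf hl hd, ?_⟩)
  simp only [Bool.or_eq_true, Nat.blt_eq, Nat.ble_eq]
  omega

theorem index_range_eq : psiLy.range.index = 8835156 := by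
  classical
  haveI : Finite CosLy := index_range_le.1
  let S : Finset (Fin 4) := Finset.univ.filter fun k =>
    ∀ l : Fin 4, l < k → MulAction.orbit H0 (cosLy (l + 1)) ≠ MulAction.orbit H0 (cosLy (k + 1))
  let f : Unit ⊕ (Σ k : S, MulAction.orbit H0 (cosLy ((k : Fin 4) + 1))) → CosLy :=
    Sum.elim (fun _ => baseLy) fun p => p.2.1
  have hbase : ∀ (k : Fin 4) (q : CosLy), q ∈ MulAction.orbit H0 (cosLy (k + 1)) → q ≠ baseLy := by
    rintro k _ ⟨h, rfl⟩ e
    have hm := QuotientGroup.eq.1 (show ((psiLy h * xLy (k + 1) : LyG) : CosLy) = ((1 : LyG) : CosLy) from e)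
    rw [mul_one, Subgroup.inv_mem_iff] at hm
    refine xLy_notMem hne (k := (k : ℕ) + 1) (by omega) (by omega) ?_
    simpa using psiLy.range.mul_mem (psiLy.range.inv_mem ⟨h, rfl⟩) hm
  have hf : Function.Bijective f := by
    constructor
    · rintro (⟨⟩ | ⟨⟨k, hk⟩, q, hq⟩) (⟨⟩ | ⟨⟨l, hl⟩, r, hr⟩) e
      · rfl
      · exact absurd (show baseLy = r from e).symm (hbase l r hr)
      · exact absurd (show q = baseLy from e) (hbase k q hq)
      · have e' : q = r := e
        subst e'
        have he : MulAction.orbit H0 (cosLy (k + 1)) = MulAction.orbit H0 (cosLy (l + 1)) :=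
          (MulAction.orbit_eq_iff.2 hq).symm.trans (MulAction.orbit_eq_iff.2 hr)
        simp only [S, Finset.mem_filter, Finset.mem_univ, true_and] at hk hl
        obtain rfl : k = l := by
          rcases lt_trichotomy k l with hh | hh | hh
          · exact absurd he (hl k hh)
          · exact hh
          · exact absurd he.symm (hk l hh)
        rfl
    · intro q
      rcases cos_cases q with rfl | ⟨k, hk⟩
      · exact ⟨Sum.inl (), rfl⟩
      let F : Finset (Fin 4) := Finset.univ.filter fun l => q ∈ MulAction.orbit H0 (cosLy (l + 1))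
      have hF : F.Nonempty := ⟨k, by simp [F, hk]⟩
      have hmin := F.min'_mem hF
      simp only [F, Finset.mem_filter, Finset.mem_univ, true_and] at hmin
      refine ⟨Sum.inr ⟨⟨F.min' hF, ?_⟩, q, hmin⟩, rfl⟩
      simp only [S, Finset.mem_filter, Finset.mem_univ, true_and]
      intro l hl e
      have hlF : l ∈ F := by simp [F, e, hmin]
      exact absurd (F.min'_le l hlF) (not_le.2 hl)
  let c : Fin 4 → ℕ := fun k => if k ∈ S then Nat.card (MulAction.orbit H0 (cosLy (k + 1))) else 0
  have hcard : psiLy.range.index = 1 + (c 0 + c 1 + c 2 + c 3) := by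
    rw [Subgroup.index_eq_card, ← Nat.card_eq_of_bijective f hf, Nat.card_sum, Nat.card_sigma, Nat.card_unique,
      Finset.sum_coe_sort S (fun k : Fin 4 => Nat.card (MulAction.orbit H0 (cosLy (k + 1)))),
      ← Fin.sum_univ_four c]
    simp [c, Finset.sum_ite_mem]
  have hc0 : c 0 = 19530 := by
    have h0 : (0 : Fin 4) ∈ S := by simp [S]
    simp only [c, if_pos h0]
    exact orbit_one_card hne
  have hcand : ∀ (k : Fin 4) {l : List (ℕ × ℕ)} {s : ℕ}, (∀ p ∈ l, p.1.Prime) →
      (l.map fun p => p.1 ^ p.2).prod = s → Nat.card (MulAction.orbit H0 (cosLy (k + 1))) ∣ s → c k ∈ cand l := by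
    intro k l s hl hs hd
    by_cases hk : k ∈ S
    · simp only [c, if_pos hk]
      exact mem_cand hl (hs ▸ hd) orbit_small
    · simp [c, hk, cand]
  have h1 := hcand 1 (l := [(3, 1), (5, 5), (7, 1), (31, 1)]) (by decide +kernel) rfl
    (orbit_dvd shape2_ok stabWords2_ok stab2a_ok stab2b_ok closed2a_ok closed2b_ok (t := 2880) (s := 2034375)
      (by decide +kernel) (by norm_num))
  have h2 := hcand 2 (l := [(2, 2), (3, 1), (5, 6), (31, 1)]) (by decide +kernel) rfl
    (orbit_dvd shape3_ok stabWords3_ok stab3a_ok stab3b_ok closed3a_ok closed3b_ok (t := 1008) (s := 5812500)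
      (by decide +kernel) (by norm_num))
  have h3 := hcand 3 (l := [(2, 1), (5, 6), (31, 1)]) (by decide +kernel) rfl
    (orbit_dvd shape4_ok stabWords4_ok stab4a_ok stab4b_ok closed4a_ok closed4b_ok (t := 6048) (s := 968750)
      (by decide +kernel) (by norm_num))
  have hc := indexCheck_ok
  simp only [indexCheck, List.all_eq_true, force_eq] at hc
  have := hc _ h1 _ h2 _ h3
  simp only [Bool.or_eq_true, Bool.not_eq_true', Nat.beq_eq, Nat.add_eq] at this
  have hsum : 19531 + c 1 + c 2 + c 3 = psiLy.range.index := by omega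
  rw [hsum] at this
  rcases this with h | h
  · have hm : Nat.mod psiLy.range.index 27269 = 0 := Nat.mod_eq_zero_of_dvd (dvd_index hne)
    rw [hm] at h
    exact absurd h (by simp)
  · exact h

/-- The order of the Lyons group, given one non-trivial image. -/
theorem card_ly : Nat.card LyG = ordLy := by
  rw [← Subgroup.card_mul_index psiLy.range, index_range_eq hne, card_range_eq hne]

end

end

end Cfsg.Agent.Lyons
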