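import Cfsg.Agent.Lib.Lyons.HRels
import Cfsg.Agent.Lib.Lyons.PermData

/-!
Coded actions of words on 19530 points and orbit certificates.
-/

set_option autoImplicit false

namespace Cfsg.Agent.Lyons

open Cfsg.Agent.CosetCert

noncomputable section

/-- Entry `i` of a table with entries of 32 bits. -/
def get32 (t : Tab) : ℕ → ℕ :=
  Tab.rec (fun v i => Nat.land (Nat.shiftRight v (Nat.mul 32 i)) 4294967295)
    (fun _ _ l r i => Bool.rec r l (Nat.beq (Nat.mod i 2) 0) (Nat.div i 2)) t

/-- The image of the block `p` under the letter `l`, with the permutation inside. -/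
def blk (l p : ℕ) : ℕ := get32 PermData.blockTab (Nat.add (Nat.mul 32 p) l)

/-- The image of `i < 5` under the permutation with code `k`. -/
def pimg (k i : ℕ) : ℕ := Nat.land (Nat.shiftRight PermData.permImg (Nat.mul 3 (Nat.add (Nat.mul 5 k) i))) 7

/-- The image of the point `q = 5 p + i`, given the entry of the block. -/
def putPt (e i : ℕ) : ℕ := force e fun e => Nat.add (Nat.mul 5 (Nat.div e 128)) (pimg (Nat.mod e 128) i)

/-- The image of `q` under the letter `l`. -/
def actL (l q : ℕ) : ℕ := force q fun q => putPt (blk l (Nat.div q 5)) (Nat.mod q 5)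

/-- The code of the product of two permutations. -/
def cay (k m : ℕ) : ℕ := PermData.cayley.get (Nat.add (Nat.mul 120 k) m)

/-- A word on a block: `128` times the block, plus the accumulated permutation. -/
def blkW (w : List ℕ) (s : ℕ) : ℕ :=
  List.rec (fun s => s) (fun l _ r s => force s fun s =>
    force (blk l (Nat.div s 128)) fun e =>
      r (Nat.add (Nat.mul 128 (Nat.div e 128)) (cay (Nat.mod s 128) (Nat.mod e 128)))) w s

/-- A word on points, first letter first. -/
def actW (w : List ℕ) (q : ℕ) : ℕ := List.rec (fun q => q) (fun l _ r q => force q fun q => r (actL l q)) w q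

/-- All letters of a word are in range. -/
def letOK (w : List ℕ) : Bool := List.rec true (fun l _ r => Nat.blt l 22 && r) w

theorem letOK_spec {w : List ℕ} (h : letOK w = true) : ∀ l ∈ w, l < 22 := by
  induction w with
  | nil => simp
  | cons x w ih =>
    change (Nat.blt x 22 && letOK w) = true at h
    simp only [Bool.and_eq_true, Nat.blt_eq] at h
    intro l hl
    rcases List.mem_cons.1 hl with rfl | hl
    · exact h.1
    · exact ih h.2 l hl

/-- `f` holds below `n`, checked in rows of 500 so that the recursion stays shallow. -/
def allLong (f : ℕ → Bool) (n : ℕ) : Bool :=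
  allBelow (fun c => allBelow (fun i => force (Nat.add (Nat.mul 500 c) i) fun j => (!Nat.blt j n) || f j) 500)
    (Nat.add (Nat.div n 500) 1)

theorem allLong_spec {f : ℕ → Bool} {n : ℕ} (h : allLong f n = true) {j : ℕ} (hj : j < n) : f j = true := by
  have h1 := allBelow_spec h (i := j / 500) (by show j / 500 < n / 500 + 1; omega)
  have h2 := allBelow_spec h1 (i := j % 500) (Nat.mod_lt _ (by norm_num))
  rw [force_eq, show Nat.add (Nat.mul 500 (j / 500)) (j % 500) = j from Nat.div_add_mod j 500] at h2
  simp only [Bool.or_eq_true, Bool.not_eq_true'] at h2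
  exact h2.resolve_left fun e => by
    have hb : Nat.blt j n = true := by rw [Nat.blt_eq]; exact hj
    rw [hb] at e
    exact Bool.noConfusion e

/-- An orbit certificate: `n` points `pts j`, each but the first the image of an earlier one `par j` under
the word numbered `gen j`; `idx` inverts `pts`. -/
structure Orb where
  b : ℕ
  ws : List (List ℕ)
  n : ℕ
  pts : Tab
  idx : Tab
  par : Tab
  gen : Tab

/-- A word of a list by its number. -/
def getW (ws : List (List ℕ)) (i : ℕ) : List ℕ :=
  List.rec (motive := fun _ => ℕ → List ℕ) (fun _ => [])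
    (fun w _ r i => bif Nat.beq i 0 then w else r (Nat.sub i 1)) ws i

theorem getW_eq (ws : List (List ℕ)) : ∀ i, getW ws i = ws.getD i [] := by
  induction ws with
  | nil => intro i; simp [getW]
  | cons w ws ih =>
    intro i
    change (bif Nat.beq i 0 then w else getW ws (i - 1)) = _
    cases i with
    | zero => simp
    | succ i => simpa [show Nat.beq (i + 1) 0 = false from rfl] using ih i

/-- The orbit check. -/
def orbCheck (O : Orb) : Bool :=
  Nat.blt 0 O.n && Nat.blt O.b 19530 && Nat.beq (O.pts.get 0) O.b && O.ws.all letOK &&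
    allLong (fun j => Nat.beq (O.idx.get (O.pts.get j)) j &&
      (Nat.beq j 0 || (Nat.blt (O.par.get j) j &&
        Nat.beq (actW (getW O.ws (O.gen.get j)) (O.pts.get (O.par.get j))) (O.pts.get j)))) O.n

/-- Every point occurs in the orbit. -/
def orbFull (O : Orb) : Bool :=
  allLong (fun q => Nat.blt (O.idx.get q) O.n && Nat.beq (O.pts.get (O.idx.get q)) q) 19530

end

end Cfsg.Agent.Lyons
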