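import Cfsg.Agent.Lib.Compute.CosetCardLe

/-!
Coset tables for groups whose generators need not be involutions.

Letters `2 i` and `2 i + 1` stand for the generator `i` and its inverse. A certificate is a table, a spanning
tree and scans of relators in which all edges but one are already known; the known edges are a bit mask, so
long certificates can be checked in pieces.
-/

set_option autoImplicit false

namespace Cfsg.Agent.Lyons

open Cfsg.Agent.CosetCert

noncomputable section

/-- Evaluate a number before it is passed on. -/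
def force {α : Type} (n : ℕ) (k : ℕ → α) : α := Nat.rec (k 0) (fun m _ => k (Nat.succ m)) n

@[simp] theorem force_eq {α : Type} (n : ℕ) (k : ℕ → α) : force n k = k n := by cases n <;> rfl

/-- The inverse letter. -/
def flipL (l : ℕ) : ℕ := Bool.rec (Nat.sub l 1) (Nat.add l 1) (Nat.beq (Nat.mod l 2) 0)

/-- The value of a letter. -/
def lt' {G : Type*} [Group G] (gen : ℕ → G) (l : ℕ) : G := if l % 2 = 0 then gen (l / 2) else (gen (l / 2))⁻¹

/-- The value of a word. -/
def wv {G : Type*} [Group G] (gen : ℕ → G) (w : List ℕ) : G := (w.map (lt' gen)).prod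

section words

variable {G : Type*} [Group G] (gen : ℕ → G)

@[simp] theorem wv_nil : wv gen [] = 1 := rfl

theorem wv_cons (l : ℕ) (w : List ℕ) : wv gen (l :: w) = lt' gen l * wv gen w := by simp [wv]

theorem wv_append (u v : List ℕ) : wv gen (u ++ v) = wv gen u * wv gen v := by simp [wv]

theorem lt'_flipL (l : ℕ) : lt' gen (flipL l) = (lt' gen l)⁻¹ := by
  cases h : Nat.beq (Nat.mod l 2) 0
  · have hm : ¬ l % 2 = 0 := Nat.ne_of_beq_eq_false h
    have h1 : (l - 1) % 2 = 0 := by omega
    have h2 : (l - 1) / 2 = l / 2 := by omega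
    simp [flipL, h, lt', hm, h1, h2]
  · have hm : l % 2 = 0 := Nat.eq_of_beq_eq_true h
    have h1 : ¬ (l + 1) % 2 = 0 := by omega
    have h2 : (l + 1) / 2 = l / 2 := by omega
    simp [flipL, h, lt', hm, h1, h2]

/-- The inverse word. -/
def invL (w : List ℕ) : List ℕ := List.rec [] (fun l _ r => r ++ [flipL l]) w

theorem wv_invL (w : List ℕ) : wv gen (invL w) = (wv gen w)⁻¹ := by
  induction w with
  | nil => simp [invL]
  | cons l w ih =>
    show wv gen (invL w ++ [flipL l]) = _
    rw [wv_append, ih, wv_cons, wv_cons, wv_nil, mul_one, lt'_flipL, mul_inv_rev]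

theorem map_lt' {M : Type*} [Group M] (φ : G →* M) (l : ℕ) : φ (lt' gen l) = lt' (fun x => φ (gen x)) l := by
  by_cases h : l % 2 = 0 <;> simp [lt', h]

theorem map_wv {M : Type*} [Group M] (φ : G →* M) (w : List ℕ) : φ (wv gen w) = wv (fun x => φ (gen x)) w := by
  induction w with
  | nil => simp
  | cons l w ih => rw [wv_cons, wv_cons, map_mul, ih, map_lt']

theorem wv_congr {gen' : ℕ → G} {w : List ℕ} (h : ∀ l ∈ w, gen (l / 2) = gen' (l / 2)) :
    wv gen w = wv gen' w := by
  rw [wv, wv]
  congr 1
  exact List.map_congr_left fun l hl => by simp [lt', h l hl]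

theorem lt'_mem {H : Subgroup G} {l : ℕ} (h : gen (l / 2) ∈ H) : lt' gen l ∈ H := by
  by_cases he : l % 2 = 0 <;> simp [lt', he, h]

theorem wv_mem {H : Subgroup G} : ∀ {w : List ℕ}, (∀ l ∈ w, gen (l / 2) ∈ H) → wv gen w ∈ H
  | [], _ => by simp
  | l :: w, h => by
    rw [wv_cons]
    exact mul_mem (lt'_mem gen (h l List.mem_cons_self)) (wv_mem fun x hx => h x (List.mem_cons_of_mem _ hx))

end words

/-- A certificate: the number of points and letters, the table (entry `c * nl + l`), the relators and the
spanning tree (entry `j` is the edge leading to the point `j + 1`). -/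
structure Cert where
  n : ℕ
  nl : ℕ
  T : Tab
  rels : WTab
  tree : Tab

variable (C : Cert)

/-- The image of a point under a letter. -/
def nxt (c l : ℕ) : ℕ := C.T.get (Nat.add (Nat.mul c C.nl) l)

/-- Record an edge and, if the table is consistent there, its reverse. -/
def mark (m c l : ℕ) : ℕ :=
  Bool.rec (insBit m (Nat.add (Nat.mul c C.nl) l))
    (insBit (insBit m (Nat.add (Nat.mul c C.nl) l)) (Nat.add (Nat.mul (nxt C c l) C.nl) (flipL l)))
    (Nat.blt l C.nl && Nat.blt (flipL l) C.nl && Nat.beq (nxt C (nxt C c l) (flipL l)) c)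

/-- An edge that may be used. -/
def known (m c l : ℕ) : Bool := Nat.blt l C.nl && bit m (Nat.add (Nat.mul c C.nl) l)

/-- Follow known edges; `none` if an edge is missing. -/
def walkK (m : ℕ) (w : List ℕ) : ℕ → Option ℕ :=
  List.rec (fun c => some c)
    (fun l _ r c => force c fun c => Bool.rec none (r (nxt C c l)) (known C m c l)) w

/-- One scan, coded `((c * 64) + r) * 64 + p`. -/
def step (m s : ℕ) : ℕ :=
  let w := C.rels.get (Nat.mod (Nat.div s 64) 64)
  let p := Nat.mod s 64
  let c := Nat.div s 4096
  match walkK C m (w.take p) c, w.drop p with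
  | some f, l :: rest =>
    match walkK C m rest (nxt C f l) with
    | some e => Bool.rec m (mark C m f l) (Nat.blt l C.nl && Nat.beq e c)
    | none => m
  | _, _ => m

/-- A list of scans. -/
def run (L : List ℕ) : ℕ → ℕ := List.rec (fun m => m) (fun s _ r m => force m fun m => r (step C m s)) L

/-- The edges known at the start: the loops of the subgroup letters at the point `0` and the tree. -/
def start (sub : List ℕ) : ℕ :=
  let m0 : ℕ := List.rec 0 (fun l _ r => Bool.rec r (mark C r 0 l) (Nat.blt l C.nl && Nat.beq (nxt C 0 l) 0)) sub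
  Nat.rec m0 (fun j r =>
    let e := C.tree.get j
    Bool.rec r (mark C r (Nat.div e C.nl) (Nat.mod e C.nl))
      (Nat.ble (Nat.div e C.nl) j && Nat.beq (nxt C (Nat.div e C.nl) (Nat.mod e C.nl)) (Nat.add j 1) && Nat.blt 0 C.nl))
    (Nat.sub C.n 1)

/-- All edges are known and stay in range. -/
def finished (m : ℕ) : Bool :=
  Nat.beq m (2 ^ (C.n * C.nl) - 1) && Nat.blt 0 C.n &&
    allBelow (fun e => Nat.blt (C.T.get e) C.n) (C.n * C.nl)

variable {G : Type*} [Group G] (gen : ℕ → G) (H : Subgroup G)

/-- The representative read from the tree. -/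
def rep : ℕ → G
  | 0 => 1
  | j + 1 =>
    if h : C.tree.get j / C.nl ≤ j then
      have : C.tree.get j / C.nl < j + 1 := Nat.lt_succ_of_le h
      rep (C.tree.get j / C.nl) * lt' gen (C.tree.get j % C.nl)
    else 1
  termination_by c => c

/-- All recorded edges are true of the representatives. -/
def Good (m : ℕ) : Prop :=
  ∀ c l, l < C.nl → bit m (c * C.nl + l) = true →
    rep C gen c * lt' gen l * (rep C gen (nxt C c l))⁻¹ ∈ H

variable {C gen H}

theorem good_insBit {m c l : ℕ} (hl : l < C.nl) (hm : Good C gen H m)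
    (he : rep C gen c * lt' gen l * (rep C gen (nxt C c l))⁻¹ ∈ H) :
    Good C gen H (insBit m (c * C.nl + l)) := by
  intro c' l' hl' hb
  rcases bit_insBit hb with he' | hb
  · have h1 : c' = c := by
      have := congrArg (· / C.nl) he'
      simp only [Nat.mul_comm _ C.nl, Nat.mul_add_div (show C.nl > 0 by omega), Nat.div_eq_of_lt hl,
        Nat.div_eq_of_lt hl', add_zero] at this
      exact this
    subst h1
    obtain rfl : l' = l := by omega
    exact he
  · exact hm c' l' hl' hb

theorem good_mark {m c l : ℕ} (hl : l < C.nl) (hm : Good C gen H m)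
    (he : rep C gen c * lt' gen l * (rep C gen (nxt C c l))⁻¹ ∈ H) : Good C gen H (mark C m c l) := by
  simp only [mark, Nat.add_eq, Nat.mul_eq]
  cases hc : (Nat.blt l C.nl && Nat.blt (flipL l) C.nl && Nat.beq (nxt C (nxt C c l) (flipL l)) c)
  · exact good_insBit hl hm he
  · simp only [Bool.and_eq_true, Nat.blt_eq, Nat.beq_eq] at hc
    refine good_insBit hc.1.2 (good_insBit hl hm he) ?_
    rw [hc.2, lt'_flipL]
    simpa [mul_assoc] using inv_mem he

theorem walkK_spec {m : ℕ} (hm : Good C gen H m) :
    ∀ (w : List ℕ) {c e : ℕ}, walkK C m w c = some e → rep C gen c * wv gen w * (rep C gen e)⁻¹ ∈ H := by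
  intro w
  induction w with
  | nil =>
    intro c e h
    obtain rfl : c = e := Option.some.inj h
    simp
  | cons l w ih =>
    intro c e h
    change (force c fun c => Bool.rec none (walkK C m w (nxt C c l)) (known C m c l)) = some e at h
    rw [force_eq] at h
    cases hk : known C m c l with
    | false => rw [hk] at h; exact absurd h (by simp)
    | true =>
      rw [hk] at h
      simp only [known, Bool.and_eq_true, Nat.blt_eq] at hk
      have := mul_mem (hm c l hk.1 hk.2) (ih h)
      simpa [wv_cons, mul_assoc] using this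

theorem good_step (hrel : ∀ i, wv gen (C.rels.get i) = 1) {m : ℕ} (hm : Good C gen H m) (s : ℕ) :
    Good C gen H (step C m s) := by
  unfold step
  simp only
  set w := C.rels.get (Nat.mod (Nat.div s 64) 64) with hw
  set p := Nat.mod s 64
  set c := Nat.div s 4096
  split
  · rename_i f l rest h1 h2
    split
    · rename_i e h3
      cases hc : (Nat.blt l C.nl && Nat.beq e c)
      · exact hm
      · simp only [Bool.and_eq_true, Nat.blt_eq, Nat.beq_eq] at hc
        obtain ⟨hl, rfl⟩ := hc
        refine good_mark hl hm ?_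
        have a := walkK_spec hm _ h1
        have b := walkK_spec hm _ h3
        have hv : wv gen (w.take p) * (lt' gen l * wv gen rest) = 1 := by
          rw [← wv_cons, ← wv_append, ← h2, List.take_append_drop, hw]
          exact hrel _
        have key := mul_mem (inv_mem a) (inv_mem b)
        convert key using 1
        rw [show lt' gen l = (wv gen (w.take p))⁻¹ * (wv gen rest)⁻¹ from
          eq_mul_inv_of_mul_eq (eq_inv_of_mul_eq_one_right hv)]
        simp [mul_assoc]
    · exact hm
  · exact hm

theorem good_run (hrel : ∀ i, wv gen (C.rels.get i) = 1) :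
    ∀ (L : List ℕ) {m : ℕ}, Good C gen H m → Good C gen H (run C L m) := by
  intro L
  induction L with
  | nil => intro m hm; exact hm
  | cons s L ih =>
    intro m hm
    show Good C gen H (force m fun m => run C L (step C m s))
    rw [force_eq]
    exact ih (good_step hrel hm s)

theorem good_start {sub : List ℕ} (hsub : ∀ l ∈ sub, lt' gen l ∈ H) : Good C gen H (start C sub) := by
  unfold start
  simp only
  generalize Nat.sub C.n 1 = k
  induction k with
  | zero =>
    induction sub with
    | nil => intro c l _ h; simp [bit_zero] at h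
    | cons l sub ih =>
      have hi := ih fun x hx => hsub x (List.mem_cons_of_mem _ hx)
      simp only at hi ⊢
      cases hc : (Nat.blt l C.nl && Nat.beq (nxt C 0 l) 0)
      · exact hi
      · simp only [Bool.and_eq_true, Nat.blt_eq, Nat.beq_eq] at hc
        refine good_mark hc.1 hi ?_
        rw [hc.2]
        simpa [rep] using hsub l List.mem_cons_self
  | succ j ih =>
    simp only at ih ⊢
    cases hc : (Nat.ble (Nat.div (C.tree.get j) C.nl) j &&
        Nat.beq (nxt C (Nat.div (C.tree.get j) C.nl) (Nat.mod (C.tree.get j) C.nl)) (Nat.add j 1) &&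
        Nat.blt 0 C.nl)
    · exact ih
    · simp only [Bool.and_eq_true, Nat.blt_eq, Nat.beq_eq, Nat.ble_eq] at hc
      obtain ⟨⟨h1, h2⟩, h3⟩ := hc
      refine good_mark (Nat.mod_lt _ h3) ih ?_
      rw [h2, show Nat.add j 1 = j + 1 from rfl]
      conv in rep C gen (j + 1) => rw [rep, dif_pos (show C.tree.get j / C.nl ≤ j from h1)]
      show rep C gen (C.tree.get j / C.nl) * lt' gen (C.tree.get j % C.nl) * _ ∈ H
      simp

/-- The bound on the order of the generated subgroup. -/
theorem cardLe_of_finished {k : ℕ} (hk : 2 * k ≤ C.nl) {m : ℕ} (hm : Good C gen H m)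
    (hfin : finished C m = true) {h : ℕ} (hH : CardLe H h) :
    CardLe (Subgroup.closure (gen '' {x | x < k})) (C.n * h) := by
  simp only [finished, Bool.and_eq_true, Nat.blt_eq] at hfin
  obtain ⟨⟨hfull, hn⟩, hrange⟩ := hfin
  have hmove : ∀ c, c < C.n → ∀ l, l < C.nl →
      rep C gen c * lt' gen l * (rep C gen (nxt C c l))⁻¹ ∈ H ∧ nxt C c l < C.n := by
    intro c hc l hl
    have hlt : c * C.nl + l < C.n * C.nl := by
      calc c * C.nl + l < (c + 1) * C.nl := by rw [add_mul, one_mul]; omega
        _ ≤ C.n * C.nl := Nat.mul_le_mul_right _ hc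
    exact ⟨hm c l hl (bit_full hfull hlt), by
      simpa [Nat.blt_eq, nxt] using allBelow_spec hrange hlt⟩
  have hcov : ∀ x ∈ Subgroup.closure (gen '' {x | x < k}), ∃ c, c < C.n ∧ x * (rep C gen c)⁻¹ ∈ H := by
    have hstep : ∀ y l, l < C.nl → (∃ c, c < C.n ∧ y * (rep C gen c)⁻¹ ∈ H) →
        ∃ c, c < C.n ∧ y * lt' gen l * (rep C gen c)⁻¹ ∈ H := by
      rintro y l hl ⟨c, hc, hy⟩
      refine ⟨nxt C c l, (hmove c hc l hl).2, ?_⟩
      simpa [mul_assoc] using mul_mem hy (hmove c hc l hl).1
    intro x hx
    induction hx using Subgroup.closure_induction_right with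
    | one => exact ⟨0, hn, by simp [rep]⟩
    | mul_right y z _ hz ih =>
      obtain ⟨i, hi, rfl⟩ := hz
      have := hstep y (2 * i) (by have := Set.mem_ofPred_eq ▸ hi; omega) ih
      simpa [lt'] using this
    | mul_inv_cancel y z _ hz ih =>
      obtain ⟨i, hi, rfl⟩ := hz
      have := hstep y (2 * i + 1) (by have := Set.mem_ofPred_eq ▸ hi; omega) ih
      simpa [lt', show (2 * i + 1) / 2 = i by omega] using this
  have := hH.1
  let f : ↥(Subgroup.closure (gen '' {x | x < k})) → Fin C.n × H := fun x =>
    (⟨(hcov x x.2).choose, (hcov x x.2).choose_spec.1⟩, ⟨_, (hcov x x.2).choose_spec.2⟩)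
  have hf : Function.Injective f := by
    intro x y e
    have h1 := congrArg (fun q : Fin C.n × H => (q.1 : ℕ)) e
    have h2 := congrArg (fun q : Fin C.n × H => (q.2 : G)) e
    simp only [f] at h1 h2
    exact Subtype.ext (mul_right_cancel (b := (rep C gen (hcov x x.2).choose)⁻¹) (by rw [h2, h1]))
  refine ⟨Finite.of_injective f hf, (Nat.card_le_card_of_injective f hf).trans ?_⟩
  rw [Nat.card_prod, Nat.card_fin]
  exact Nat.mul_le_mul_left _ hH.2

end

end Cfsg.Agent.Lyons
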