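import Cfsg.Agent.Lib.Lyons.G2Five
import Cfsg.Prelude.Def_Sporadic
import Cfsg.Prelude.Def_Exceptional
import Mathlib.GroupTheory.Sylow
import Mathlib.GroupTheory.SpecificGroups.Cyclic

/-!
The presented Lyons group, given its order: `⟨a, b, c, d⟩` has index 8835156 with suborbits
1, 19530, 968750, 2034375, 5812500, it is maximal, and the group is simple.
-/

set_option autoImplicit false
set_option linter.style.haveILetI false
set_option maxRecDepth 100000

namespace Cfsg.Agent.Lyons

open scoped Pointwise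
open Cfsg.Agent.CosetCert

noncomputable section

/-- The order of the Lyons group. -/
abbrev ordLy : ℕ := 51765179004000000

/-- The cosets of the image of `⟨a, b, c, d⟩`. -/
abbrev CosLy : Type := LyG ⧸ psiLy.range

/-- The group of order 5859000000 on the cosets. -/
instance actionCos : MulAction H0 CosLy := MulAction.compHom CosLy psiLy

/-- The named cosets. -/
def cosLy (k : ℕ) : CosLy := cos psiLy xLy k

/-- The coset of the identity. -/
def baseLy : CosLy := ((1 : LyG) : CosLy)

/-- The bounds on the four suborbits. -/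
def subSize : Fin 4 → ℕ := ![19530, 2034375, 5812500, 968750]

theorem orbit_cos_le (k : Fin 4) :
    Nat.card (MulAction.orbit H0 (cosLy (k + 1))) ≤ subSize k := by
  fin_cases k
  · exact (orbit_le dRules_ly shape1_ok stabWords1_ok stab1a_ok stab1b_ok (t := 300000) (s := 19530)
      (by decide +kernel) (by norm_num) (by norm_num)).2
  · exact (orbit_le dRules_ly shape2_ok stabWords2_ok stab2a_ok stab2b_ok (t := 2880) (s := 2034375)
      (by decide +kernel) (by norm_num) (by norm_num)).2
  · exact (orbit_le dRules_ly shape3_ok stabWords3_ok stab3a_ok stab3b_ok (t := 1008) (s := 5812500)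
      (by decide +kernel) (by norm_num) (by norm_num)).2
  · exact (orbit_le dRules_ly shape4_ok stabWords4_ok stab4a_ok stab4b_ok (t := 6048) (s := 968750)
      (by decide +kernel) (by norm_num) (by norm_num)).2

theorem cos_cases (q : CosLy) : q = baseLy ∨ ∃ k : Fin 4, q ∈ MulAction.orbit H0 (cosLy (k + 1)) := by
  obtain ⟨g, rfl⟩ := QuotientGroup.mk_surjective q
  obtain ⟨k, hk, h, h', rfl⟩ := range_union_top dRules_ly range_sup_z g
  have e : ((psiLy h * xLy k * psiLy h' : LyG) : CosLy) = ((psiLy h * xLy k : LyG) : CosLy) :=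
    QuotientGroup.mk_mul_of_mem _ ⟨h', rfl⟩
  rw [e]
  rcases k with _ | k
  · refine Or.inl ?_
    show _ = ((1 : LyG) : CosLy)
    rw [dRules_ly.x0, mul_one, QuotientGroup.eq, mul_one]
    exact psiLy.range.inv_mem ⟨h, rfl⟩
  · exact Or.inr ⟨⟨k, by omega⟩, h, rfl⟩

/-- The cosets as a disjoint union. -/
def cosMap : Unit ⊕ (Σ k : Fin 4, MulAction.orbit H0 (cosLy (k + 1))) → CosLy :=
  Sum.elim (fun _ => baseLy) fun p => p.2.1

section

variable (hcard : Nat.card LyG = ordLy)

include hcard

theorem card_range_index : Nat.card psiLy.range = 5859000000 ∧ psiLy.range.index = 8835156 := by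
  have h := Subgroup.card_mul_index psiLy.range
  rw [hcard] at h
  change _ = 51765179004000000 at h
  have a := card_range_le
  have b := index_le_ly
  constructor
  · by_contra hne
    have := Nat.mul_le_mul (Nat.le_sub_one_of_lt (lt_of_le_of_ne a hne)) b
    omega
  · by_contra hne
    have := Nat.mul_le_mul a (Nat.le_sub_one_of_lt (lt_of_le_of_ne b hne))
    omega

theorem psiLy_injective : Function.Injective psiLy := by
  have h : Function.Bijective psiLy.rangeRestrict := (Nat.bijective_iff_surjective_and_card _).2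
    ⟨psiLy.rangeRestrict_surjective, by rw [card_H0, (card_range_index hcard).1]⟩
  exact fun x y e => h.1 (Subtype.ext e)

theorem isSimple_range : IsSimpleGroup psiLy.range :=
  haveI := isSimple_H0
  (MonoidHom.ofInjective (psiLy_injective hcard)).symm.isSimpleGroup

theorem card_cos : Nat.card CosLy = 8835156 := by
  rw [show Nat.card CosLy = psiLy.range.index from (Subgroup.index_eq_card _).symm, (card_range_index hcard).2]

theorem cosMap_bijective : Function.Bijective cosMap := by
  haveI : Finite CosLy := index_range_le.1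
  have hs : Function.Surjective cosMap := fun q => by
    rcases cos_cases q with rfl | ⟨k, hk⟩
    · exact ⟨Sum.inl (), rfl⟩
    · exact ⟨Sum.inr ⟨k, q, hk⟩, rfl⟩
  refine (Nat.bijective_iff_surjective_and_card _).2 ⟨hs, le_antisymm ?_ (Nat.card_le_card_of_surjective _ hs)⟩
  rw [card_cos hcard, Nat.card_sum, Nat.card_sigma, Nat.card_unique, Fin.sum_univ_four]
  have := orbit_cos_le 0; have := orbit_cos_le 1; have := orbit_cos_le 2; have := orbit_cos_le 3
  simp [subSize] at *
  omega

theorem orbit_cos_eq (k : Fin 4) : Nat.card (MulAction.orbit H0 (cosLy (k + 1))) = subSize k := by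
  haveI : Finite CosLy := index_range_le.1
  refine le_antisymm (orbit_cos_le k) ?_
  by_contra hlt
  have h := Nat.card_eq_of_bijective _ (cosMap_bijective hcard)
  rw [card_cos hcard, Nat.card_sum, Nat.card_sigma, Nat.card_unique, Fin.sum_univ_four] at h
  have := orbit_cos_le 0; have := orbit_cos_le 1; have := orbit_cos_le 2; have := orbit_cos_le 3
  fin_cases k <;> simp [subSize] at * <;> omega

/-- A subgroup whose order is divisible by `5 ^ 6` fixes only the base coset. -/
theorem eq_base_of_fix {U : Subgroup H0} (hU : 5 ^ 6 ∣ Nat.card U) {q : CosLy}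
    (hq : ∀ u ∈ U, u • q = q) : q = baseLy := by
  rcases cos_cases q with h | ⟨k, hk⟩
  · exact h
  exfalso
  have hle : U ≤ MulAction.stabilizer H0 q := fun u hu => MulAction.mem_stabilizer_iff.2 (hq u hu)
  have horb : Nat.card (MulAction.orbit H0 q) * Nat.card (MulAction.stabilizer H0 q) = Nat.card H0 := by
    rw [← Nat.card_prod]
    exact Nat.card_congr (MulAction.orbitProdStabilizerEquivGroup _ _)
  rw [MulAction.orbit_eq_iff.2 hk, orbit_cos_eq hcard k, card_H0] at horb
  obtain ⟨c, hc⟩ := hU.trans (Subgroup.card_dvd_of_le hle)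
  rw [hc] at horb
  fin_cases k <;> simp [subSize] at horb <;> omega

/-- The image of `⟨a, b, c, d⟩` is maximal. -/
theorem eq_or_top {M : Subgroup LyG} (hM : psiLy.range ≤ M) : M = psiLy.range ∨ M = ⊤ := by
  classical
  haveI : Finite CosLy := index_range_le.1
  let A : Set CosLy := QuotientGroup.mk '' (M : Set LyG)
  have hA : (QuotientGroup.mk ⁻¹' A : Set LyG) = M := by
    refine Set.Subset.antisymm ?_ fun g hg => ⟨g, hg, rfl⟩
    rintro g ⟨m, hm, e⟩
    have := hM (QuotientGroup.eq.1 e)
    simpa using M.mul_mem hm this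
  have hcM : Nat.card M = 5859000000 * Nat.card A := by
    rw [← (card_range_index hcard).1, ← Nat.card_prod]
    refine Nat.card_congr ((Equiv.setCongr hA.symm).trans (QuotientGroup.preimageMkEquivSubgroupProdSet _ A))
  have hdvd : Nat.card A ∣ 8835156 := by
    have h := Subgroup.card_subgroup_dvd_card M
    rw [hcM, hcard] at h
    exact Nat.dvd_of_mul_dvd_mul_left (by norm_num : 0 < 5859000000)
      (h.trans (by norm_num))
  have hinv : ∀ (h : H0) (q : CosLy), q ∈ A → h • q ∈ A := by
    rintro h _ ⟨m, hm, rfl⟩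
    exact ⟨psiLy h * m, M.mul_mem (hM ⟨h, rfl⟩) hm, rfl⟩
  let S : Finset (Fin 4) := Finset.univ.filter fun k => cosLy (k + 1) ∈ A
  have hmem : ∀ p : Σ k : Fin 4, MulAction.orbit H0 (cosLy (k + 1)), (p.2.1 ∈ A ↔ p.1 ∈ S) := by
    rintro ⟨k, q, h, rfl⟩
    simp only [S, Finset.mem_filter, Finset.mem_univ, true_and]
    exact ⟨fun hq => by simpa using hinv h⁻¹ _ hq, hinv h _⟩
  let e : Unit ⊕ (Σ k : S, MulAction.orbit H0 (cosLy ((k : Fin 4) + 1))) → A :=
    Sum.elim (fun _ => ⟨baseLy, 1, M.one_mem, rfl⟩) fun p => ⟨p.2.1, (hmem ⟨p.1.1, p.2⟩).2 p.1.2⟩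
  have he : Function.Bijective e := by
    constructor
    · rintro (⟨⟩ | ⟨⟨k, hk⟩, q⟩) (⟨⟩ | ⟨⟨l, hl⟩, r⟩) h
      · rfl
      · exact absurd ((cosMap_bijective hcard).1 (a₁ := Sum.inl ()) (a₂ := Sum.inr ⟨l, r⟩) (congrArg Subtype.val h))
          Sum.inl_ne_inr
      · exact absurd ((cosMap_bijective hcard).1 (a₁ := Sum.inr ⟨k, q⟩) (a₂ := Sum.inl ()) (congrArg Subtype.val h))
          Sum.inr_ne_inl
      · have := (cosMap_bijective hcard).1 (a₁ := Sum.inr ⟨k, q⟩) (a₂ := Sum.inr ⟨l, r⟩) (congrArg Subtype.val h)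
        simp only [Sum.inr.injEq, Sigma.mk.injEq] at this
        obtain ⟨rfl, hqr⟩ := this
        rw [eq_of_heq hqr]
    · rintro ⟨q, hq⟩
      rcases cos_cases q with rfl | ⟨k, hk⟩
      · exact ⟨Sum.inl (), rfl⟩
      · exact ⟨Sum.inr ⟨⟨k, (hmem ⟨k, q, hk⟩).1 hq⟩, q, hk⟩, rfl⟩
  have hcA : Nat.card A = 1 + ∑ k ∈ S, subSize k := by
    rw [← Nat.card_eq_of_bijective e he, Nat.card_sum, Nat.card_sigma, Nat.card_unique]
    congr 1
    rw [← Finset.sum_coe_sort S subSize]
    exact Finset.sum_congr rfl fun k _ => orbit_cos_eq hcard k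
  have key : ∀ S : Finset (Fin 4), 1 + ∑ k ∈ S, subSize k ∣ 8835156 → S = ∅ ∨ S = Finset.univ := by
    decide +kernel
  rw [hcA] at hdvd
  rcases key S hdvd with hS | hS
  · left
    refine (Subgroup.eq_of_le_of_card_ge hM ?_).symm
    rw [hcM, hcA, hS, Finset.sum_empty, (card_range_index hcard).1, add_zero, mul_one]
  · right
    refine Subgroup.eq_top_of_card_eq _ ?_
    rw [hcM, hcA, hS, hcard]
    simp [Fin.sum_univ_four, subSize]

theorem not_normal_range : ¬ psiLy.range.Normal := by
  intro hn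
  have h : ∀ q : CosLy, q = baseLy := fun q => by
    refine eq_base_of_fix hcard (U := ⊤) (by rw [Subgroup.card_top, card_H0]; norm_num) fun u _ => ?_
    obtain ⟨g, rfl⟩ := QuotientGroup.mk_surjective q
    show ((psiLy u * g : LyG) : CosLy) = (g : CosLy)
    rw [QuotientGroup.eq, mul_inv_rev]
    exact hn.conj_mem' _ (psiLy.range.inv_mem ⟨u, rfl⟩) g
  haveI : Subsingleton CosLy := ⟨fun a b => (h a).trans (h b).symm⟩
  have := card_cos hcard
  rw [Nat.card_unique (α := CosLy)] at this
  omega

/-- Given its order, the presented group is simple. -/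
theorem isSimple_ly : IsSimpleGroup LyG := by
  haveI : Nontrivial LyG := Finite.one_lt_card_iff_nontrivial.1 (by rw [hcard]; norm_num)
  refine ⟨fun N hN => ?_⟩
  haveI := hN
  haveI := isSimple_range hcard
  have hcases := (inferInstance : (N.subgroupOf psiLy.range).Normal).eq_bot_or_eq_top
  rcases hcases with hbot | htop
  swap
  · rw [Subgroup.subgroupOf_eq_top] at htop
    rcases eq_or_top hcard htop with h | h
    · exact absurd (h ▸ hN) (not_normal_range hcard)
    · exact Or.inr h
  rw [Subgroup.subgroupOf_eq_bot, disjoint_iff] at hbot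
  rcases eq_or_top hcard (le_sup_right : psiLy.range ≤ N ⊔ psiLy.range) with h | h
  · left
    rw [← hbot, inf_eq_left.2 (sup_eq_right.1 h)]
  exfalso
  have hbij : Function.Bijective (fun x : N => ((x : LyG) : CosLy)) := by
    constructor
    · intro x y e
      have h1 : (x : LyG)⁻¹ * y ∈ N ⊓ psiLy.range := ⟨N.mul_mem (N.inv_mem x.2) y.2, QuotientGroup.eq.1 e⟩
      rw [hbot, Subgroup.mem_bot, inv_mul_eq_one] at h1
      exact Subtype.ext h1
    · intro q
      obtain ⟨g, rfl⟩ := QuotientGroup.mk_surjective q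
      have hg : g ∈ ((N ⊔ psiLy.range : Subgroup LyG) : Set LyG) := by rw [h]; trivial
      rw [Subgroup.normal_mul] at hg
      obtain ⟨x, hx, y, hy, rfl⟩ := hg
      exact ⟨⟨x, hx⟩, (QuotientGroup.mk_mul_of_mem _ hy).symm⟩
  have hcN : Nat.card N = 8835156 := (Nat.card_eq_of_bijective _ hbij).trans (card_cos hcard)
  haveI : Fact (Nat.Prime 5) := ⟨by norm_num⟩
  haveI : Fact (Nat.Prime 37) := ⟨by norm_num⟩
  obtain ⟨U, hU⟩ : ∃ U : Subgroup H0, Nat.card U = 5 ^ 6 :=
    Sylow.exists_subgroup_card_pow_prime 5 (by rw [card_H0]; norm_num)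
  let φ : U →* MulAut N := (MulAut.conjNormal).comp (psiLy.comp U.subtype)
  letI : MulDistribMulAction U N := MulDistribMulAction.compHom N φ
  obtain ⟨P, hP⟩ : (MulAction.fixedPoints U (Sylow 37 N)).Nonempty := by
    refine (IsPGroup.of_card hU).nonempty_fixed_point_of_prime_not_dvd_card (Sylow 37 N) fun hd => ?_
    have := hd.trans ((default : Sylow 37 N).card_dvd_index.trans ((default : Sylow 37 N).index_dvd_card))
    rw [hcN] at this
    norm_num at this
  have hcP : Nat.card P = 37 := by
    rw [P.card_eq_multiplicity, hcN]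
    rw [show (8835156 : ℕ).factorization 37 = 1 by
      rw [show (8835156 : ℕ) = 37 ^ 1 * 238788 by norm_num,
        Nat.factorization_mul (by norm_num) (by norm_num), Nat.Prime.factorization_pow (by norm_num)]
      simp [Nat.factorization_eq_zero_of_not_dvd (show ¬ 37 ∣ 238788 by norm_num)]]
    norm_num
  obtain ⟨Q, hQ⟩ : ∃ Q : Subgroup LyG, Q = (P : Subgroup N).map N.subtype := ⟨_, rfl⟩
  have hcQ : Nat.card Q = 37 := by
    rw [hQ]
    exact (Nat.card_congr ((P : Subgroup N).equivMapOfInjective _ N.subtype_injective).toEquiv.symm).trans hcP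
  have hQN : Q ≤ N := hQ ▸ Subgroup.map_subtype_le _
  let V : Subgroup LyG := U.map psiLy
  have hnorm : V ≤ Subgroup.normalizer (Q : Set LyG) := by
    rintro _ ⟨u, hu, rfl⟩
    refine Subgroup.mem_normalizer_fintype ?_
    intro x hx
    rw [hQ] at hx ⊢
    obtain ⟨y, hy, rfl⟩ := hx
    refine Subgroup.mem_map.2 ⟨φ ⟨u, hu⟩ y, ?_, rfl⟩
    have hfix : (⟨u, hu⟩ : U) • (P : Subgroup N) = (P : Subgroup N) :=
      congrArg Sylow.toSubgroup (MulAction.mem_fixedPoints.1 hP ⟨u, hu⟩)
    show φ ⟨u, hu⟩ y ∈ (P : Subgroup N)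
    rw [← hfix]
    exact Subgroup.smul_mem_pointwise_smul y (⟨u, hu⟩ : U) _ hy
  have hcomm : ∀ v ∈ V, ∀ x ∈ Q, v * x = x * v := by
    intro v hv x hx
    let θ : V →* MulAut Q := (Subgroup.normalizerMonoidHom Q).comp (Subgroup.inclusion hnorm)
    have hcV : Nat.card V = 5 ^ 6 := by
      rw [← hU]
      exact Nat.card_congr (U.equivMapOfInjective _ (psiLy_injective hcard)).toEquiv.symm
    haveI : IsCyclic Q := isCyclic_of_prime_card hcQ
    have h36 : Nat.card (MulAut Q) = 36 := by
      rw [IsCyclic.card_mulAut, hcQ, Nat.totient_prime (by norm_num)]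
    have h1 : orderOf (θ ⟨v, hv⟩) ∣ Nat.gcd (5 ^ 6) 36 := Nat.dvd_gcd
      ((orderOf_map_dvd θ _).trans (hcV ▸ orderOf_dvd_natCard _)) (h36 ▸ orderOf_dvd_natCard _)
    rw [show Nat.gcd (5 ^ 6) 36 = 1 by norm_num, Nat.dvd_one, orderOf_eq_one_iff] at h1
    have h2 : v * x * v⁻¹ = x := congrArg Subtype.val (DFunLike.congr_fun h1 (⟨x, hx⟩ : Q))
    exact mul_inv_eq_iff_eq_mul.1 h2
  have hbase : ∀ x ∈ Q, x ∈ N ⊓ psiLy.range := fun x hx => by
    refine ⟨hQN hx, ?_⟩
    have h1 : (x : CosLy) = baseLy := by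
      refine eq_base_of_fix hcard (U := U) (by rw [hU]) fun u hu => ?_
      show ((psiLy u * x : LyG) : CosLy) = (x : CosLy)
      rw [hcomm _ ⟨u, hu, rfl⟩ x hx]
      exact QuotientGroup.mk_mul_of_mem _ ⟨u, rfl⟩
    simpa [baseLy, QuotientGroup.eq] using h1
  have : Q ≤ ⊥ := fun x hx => hbot ▸ hbase x hx
  rw [le_bot_iff.1 this, Subgroup.card_bot] at hcQ
  omega

theorem isLy_ly : Cfsg.IsLy LyG := ⟨isSimple_ly hcard, hcard⟩

/-- The action on the cosets, as a permutation group of degree 8835156. -/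
theorem exists_perm_model : ∃ (H : Subgroup (Equiv.Perm (Fin 8835156))) (_ : LyG ≃* H),
    Cfsg.IsLy H ∧ MulAction.IsPretransitive H (Fin 8835156) ∧
      Cfsg.IsG2 (MulAction.stabilizer H (0 : Fin 8835156)) := by
  classical
  haveI : Finite CosLy := index_range_le.1
  haveI := isSimple_ly hcard
  let e₀ : CosLy ≃ Fin 8835156 :=
    (Finite.equivFin CosLy).trans (finCongr (card_cos hcard))
  let e : CosLy ≃ Fin 8835156 := e₀.trans (Equiv.swap (e₀ baseLy) 0)
  have he : e baseLy = 0 := by simp [e]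
  let ρ : LyG →* Equiv.Perm (Fin 8835156) := e.permCongrHom.toMonoidHom.comp (MulAction.toPermHom LyG CosLy)
  have hρ : ∀ g i, ρ g i = e (g • e.symm i) := fun g i => rfl
  have hinj : Function.Injective ρ := by
    rcases (inferInstance : ρ.ker.Normal).eq_bot_or_eq_top with h | h
    · exact (MonoidHom.ker_eq_bot_iff _).1 h
    · exfalso
      have hall : ∀ q : CosLy, q = baseLy := fun q => by
        obtain ⟨g, rfl⟩ := QuotientGroup.mk_surjective q
        have := DFunLike.congr_fun (MonoidHom.mem_ker.1 (h ▸ Subgroup.mem_top g : g ∈ ρ.ker)) (e baseLy)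
        rw [hρ, e.symm_apply_apply, Equiv.Perm.one_apply] at this
        simpa [baseLy, MulAction.Quotient.smul_mk] using e.injective this
      haveI : Subsingleton CosLy := ⟨fun a b => (hall a).trans (hall b).symm⟩
      have := card_cos hcard
      rw [Nat.card_unique (α := CosLy)] at this
      omega
  let f := MonoidHom.ofInjective hinj
  have hstab : ∀ g : LyG, f g ∈ MulAction.stabilizer ρ.range (0 : Fin 8835156) ↔ g ∈ psiLy.range := fun g => by
    show ρ g 0 = 0 ↔ _
    rw [← he, hρ, e.symm_apply_apply, e.apply_eq_iff_eq]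
    simp [baseLy, MulAction.Quotient.smul_mk, QuotientGroup.eq]
  refine ⟨ρ.range, f, ⟨f.symm.isSimpleGroup, by rw [← Nat.card_congr f.toEquiv, hcard]⟩, ?_, ?_⟩
  · refine ⟨fun i j => ?_⟩
    obtain ⟨g, hg⟩ := MulAction.exists_smul_eq LyG (e.symm i) (e.symm j)
    exact ⟨f g, show ρ g i = j by rw [hρ, hg, e.apply_symm_apply]⟩
  · have hmap : MulAction.stabilizer ρ.range (0 : Fin 8835156) = psiLy.range.map f.toMonoidHom := by
      ext y
      obtain ⟨g, rfl⟩ := f.surjective y
      rw [hstab g]
      exact (Subgroup.mem_map_iff_mem f.injective).symm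
    let e₂ : psiLy.range ≃* MulAction.stabilizer ρ.range (0 : Fin 8835156) :=
      (psiLy.range.equivMapOfInjective f.toMonoidHom f.injective).trans (MulEquiv.subgroupCongr hmap.symm)
    haveI := isSimple_range hcard
    refine ⟨e₂.symm.isSimpleGroup, 5, (Nat.Prime.isPrimePow (by norm_num)), by norm_num, ?_⟩
    rw [← Nat.card_congr e₂.toEquiv, (card_range_index hcard).1]
    norm_num

end

end

end Cfsg.Agent.Lyons
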